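import Cfsg.Agent.AltEightSolv.Model

/-!
# Linear maps of `A` related to the action of the Sylow subgroup: checks by evaluation

Vectors are numbers below sixteen, the bits standing for `b`, `c`, `d`, `e`; a linear map is given by the images
of the four basis vectors.
-/

set_option autoImplicit false
set_option maxRecDepth 100000

namespace Cfsg.Lib.AltEightSolv

/-- A linear map, by columns. -/
structure Col where
  /-- image of `b` -/
  x0 : ℕ
  /-- image of `c` -/
  x1 : ℕ
  /-- image of `d` -/
  x2 : ℕ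
  /-- image of `e` -/
  x3 : ℕ
deriving DecidableEq

namespace Col

/-- Application. -/
def app (m : Col) (v : ℕ) : ℕ :=
  Nat.xor (Nat.xor (Nat.mul (v % 2) m.x0) (Nat.mul (v / 2 % 2) m.x1))
    (Nat.xor (Nat.mul (v / 4 % 2) m.x2) (Nat.mul (v / 8 % 2) m.x3))

/-- The action of `ga`. -/
def cA : Col := ⟨1, 2, 5, 10⟩
/-- The action of `gf`. -/
def cF : Col := ⟨3, 2, 12, 8⟩
/-- The action of `ga * gf`. -/
def cAF : Col := ⟨3, 2, 15, 10⟩

/-- The commutator of a vector with a map. -/
def del (v : Col) (x : ℕ) : ℕ := Nat.xor (v.app x) x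

/-- The maps commuting with `cA`: free images of `d` and `e`. -/
def qa (x y : ℕ) : Col := ⟨del cA x, del cA y, x, y⟩
/-- The maps commuting with `cF`: free images of `d` and `b`. -/
def qf (x y : ℕ) : Col := ⟨y, del cF y, x, del cF x⟩
/-- The maps commuting with `cAF`: free images of `d` and `b`. -/
def qaf (x y : ℕ) : Col := ⟨y, del cAF y, x, Nat.xor (Nat.xor (del cAF x) y) (del cAF y)⟩
/-- The maps carrying `cA` to `cF`: free images of `d` and `e`. -/
def qk (x y : ℕ) : Col := ⟨del cF x, del cF y, x, y⟩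

/-- Iterates. -/
def iter (m : Col) : ℕ → ℕ → ℕ
  | 0, v => v
  | n + 1, v => m.app (iter m n v)

/-- The four basis vectors. -/
def basis : List ℕ := [1, 2, 4, 8]

/-- The map is injective. -/
def Inj (m : Col) : Prop := ∀ w : Fin 16, m.app w = 0 → w = 0

instance (m : Col) : Decidable m.Inj := inferInstanceAs (Decidable (∀ _, _))

theorem qa_exp : ∀ i j : Fin 16, (qa i j).Inj → ∀ b ∈ basis, (qa i j).iter 12 b = b := by decide +kernel
theorem qf_exp : ∀ i j : Fin 16, (qf i j).Inj → ∀ b ∈ basis, (qf i j).iter 12 b = b := by decide +kernel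
theorem qaf_exp : ∀ i j : Fin 16, (qaf i j).Inj → ∀ b ∈ basis, (qaf i j).iter 12 b = b := by decide +kernel

/-- The maps commuting with both generators have order dividing four. -/
theorem cent_exp : ∀ i j : Fin 16, (qa i j).Inj →
    (∀ b ∈ basis, (qa i j).app (cF.app b) = cF.app ((qa i j).app b)) →
    ∀ b ∈ basis, (qa i j).iter 4 b = b := by decide +kernel

/-- The maps used for an element of order three permuting the outer cosets. -/
def IsK (k : Col) : Prop :=
  k.app 2 = 2 ∧ ∀ b ∈ basis, k.app (k.app (k.app b)) = b ∧ k.app (cF.app b) = cAF.app (k.app b)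

instance (k : Col) : Decidable k.IsK := inferInstanceAs (Decidable (_ ∧ _))

/-- Such a map permutes the three pairs cyclically. -/
theorem k_pairs : ∀ i j : Fin 16, (qk i j).IsK →
    ((qk i j).app 1 = 8 ∨ (qk i j).app 1 = 10) ∧ ((qk i j).app 8 = 9 ∨ (qk i j).app 8 = 11) := by decide +kernel

/-- A word in two maps and the two outer generators. -/
def word (s k : Col) : List (Fin 6) → ℕ → ℕ
  | [], q => q
  | 0 :: l, q => cA.app (word s k l q)
  | 1 :: l, q => cF.app (word s k l q)
  | 2 :: l, q => s.app (word s k l q)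
  | 3 :: l, q => s.app (s.app (word s k l q))
  | 4 :: l, q => k.app (word s k l q)
  | 5 :: l, q => k.app (k.app (word s k l q))

/-- The five words used. -/
def words : List (List (Fin 6)) :=
  [[1, 3], [1, 2, 4, 3, 5], [0, 2, 4, 3, 5], [2, 5, 2, 4], [5, 2, 4, 3]]

/-- A map commuting with `cA` that moves `c` to `b`, with a map of order three as above, gives a map of order
four. -/
theorem four_word : ∀ i j : Fin 16, (qa i j).app 2 = 1 → (qa i j).Inj → ∀ i' j' : Fin 16, (qk i' j').IsK →
    ∃ w ∈ words, (∀ b ∈ basis, word (qa i j) (qk i' j') (w ++ w ++ w ++ w) b = b) ∧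
      ∃ b ∈ basis, word (qa i j) (qk i' j') (w ++ w) b ≠ b := by decide +kernel

/-- The fixed vectors of the two generators. -/
theorem fixed_two : ∀ w : Fin 16, cA.app w = w → cF.app w = w → w.val = 0 ∨ w.val = 2 := by decide +kernel

theorem del_basis : del cA 4 = 1 ∧ del cA 8 = 2 ∧ del cF 4 = 8 ∧ del cF 1 = 2 ∧ del cAF 1 = 2 ∧
    Nat.xor (Nat.xor (del cAF 4) 1) (del cAF 1) = 8 := by decide +kernel

end Col

/-- The code of an element of `A`. -/
def code (q : M8) : ℕ := q.b.toNat + 2 * q.c.toNat + 4 * q.d.toNat + 8 * q.e.toNat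

/-- The element of `A` with a given code. -/
def elA (v : ℕ) : M8 := ⟨false, v.testBit 0, v.testBit 1, v.testBit 2, v.testBit 3, false⟩

theorem code_lt : ∀ q : M8, code q < 16 := by decide +kernel
theorem elA_code : ∀ q : M8, M8.InA q → elA (code q) = q := by decide +kernel
theorem elA_mem (v : ℕ) : M8.InA (elA v) := ⟨rfl, rfl⟩
theorem code_elA : ∀ v : Fin 16, code (elA v) = v := by decide +kernel
theorem code_mul : ∀ p q : M8, M8.InA p → M8.InA q → code (p * q) = Nat.xor (code p) (code q) := by decide +kernel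
theorem code_one : code 1 = 0 := by decide +kernel
theorem code_gens : code M8.gb = 1 ∧ code M8.z = 2 ∧ code M8.gd = 4 ∧ code M8.ge = 8 := by decide +kernel
theorem code_cj : ∀ q : M8, M8.InA q → code (M8.ga * q * M8.ga⁻¹) = Col.cA.app (code q) ∧
    code (M8.gf * q * M8.gf⁻¹) = Col.cF.app (code q) ∧
    code (M8.ga * M8.gf * q * (M8.ga * M8.gf)⁻¹) = Col.cAF.app (code q) := by decide +kernel

end Cfsg.Lib.AltEightSolv
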