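import Cfsg.Agent.AltEightSolv.Pattern
import Cfsg.Agent.AltEightSolv.Lin

/-!
# The automizer of `A`
-/

set_option autoImplicit false
set_option linter.style.haveILetI false
set_option linter.unusedSectionVars false

namespace Cfsg.Lib.AltEightSolv

open Subgroup

universe u

theorem code_injOn {p q : M8} (hp : M8.InA p) (hq : M8.InA q) (h : code p = code q) : p = q := by
  rw [← elA_code p hp, ← elA_code q hq, h]

theorem elA_xor {u v : ℕ} (hu : u < 16) (hv : v < 16) : elA (Nat.xor u v) = elA u * elA v := by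
  have h : code (elA u * elA v) = Nat.xor u v := by
    rw [code_mul _ _ (elA_mem _) (elA_mem _), code_elA ⟨u, hu⟩, code_elA ⟨v, hv⟩]
  rw [← h, elA_code _ (M8.inA_mul _ _ (elA_mem _) (elA_mem _)).1]

theorem sq_inA : ∀ q : M8, M8.InA (q * q) := by decide +kernel

theorem nat_bits : ∀ v : Fin 16, Nat.xor (Nat.xor (Nat.mul (v.val % 2) 1) (Nat.mul (v.val / 2 % 2) 2))
    (Nat.xor (Nat.mul (v.val / 4 % 2) 4) (Nat.mul (v.val / 8 % 2) 8)) = v.val := by decide +kernel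

theorem xor_lt {u v : ℕ} (hu : u < 16) (hv : v < 16) : Nat.xor u v < 16 :=
  Nat.xor_lt_two_pow (n := 4) hu hv

theorem bit_mul_lt {r x : ℕ} (hr : r < 2) (hx : x < 16) : Nat.mul r x < 16 := by
  interval_cases r <;> simp [Nat.mul_eq, hx]

theorem elA_bit_mul {r x : ℕ} (hr : r < 2) : elA (Nat.mul r x) = if r = 1 then elA x else 1 := by
  interval_cases r <;> simp [Nat.mul_eq] <;> rfl

namespace Col

theorem app_lt {m : Col} (h0 : m.x0 < 16) (h1 : m.x1 < 16) (h2 : m.x2 < 16) (h3 : m.x3 < 16) (v : ℕ) :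
    m.app v < 16 :=
  xor_lt (xor_lt (bit_mul_lt (Nat.mod_lt _ two_pos) h0) (bit_mul_lt (Nat.mod_lt _ two_pos) h1))
    (xor_lt (bit_mul_lt (Nat.mod_lt _ two_pos) h2) (bit_mul_lt (Nat.mod_lt _ two_pos) h3))

theorem app_basis (m : Col) : m.app 1 = m.x0 ∧ m.app 2 = m.x1 ∧ m.app 4 = m.x2 ∧ m.app 8 = m.x3 ∧
    m.app 5 = Nat.xor m.x0 m.x2 ∧ m.app 10 = Nat.xor m.x1 m.x3 ∧ m.app 12 = Nat.xor m.x2 m.x3 ∧
    m.app 3 = Nat.xor m.x0 m.x1 ∧ m.app 15 = Nat.xor (Nat.xor m.x0 m.x1) (Nat.xor m.x2 m.x3) := by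
  refine ⟨?_, ?_, ?_, ?_, ?_, ?_, ?_, ?_, ?_⟩ <;>
    simp [app, Nat.mul_eq, ← Nat.xor_assoc] <;> simp [HXor.hXor, Nat.xor, Nat.bitwise, Xor.xor]

end Col

variable {G : Type u} [Group G] [Finite G] (c : Typed G)

namespace Typed

/-- The normaliser of `A`. -/
abbrev NN : Subgroup G := normalizer (c.Ag : Set G)

theorem ι_NN (q : M8) : c.ι q ∈ c.NN := c.mem_normalizer_Ag fun x hx => by
  obtain ⟨p, hp, rfl⟩ := c.mem_Ag.1 hx
  rw [← map_inv, ← map_mul, ← map_mul]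
  exact c.mem_Ag.2 ⟨_, M8.inA_conj q p hp, rfl⟩

theorem S_le_NN : (c.S : Subgroup G) ≤ c.NN := fun s hs => by
  obtain ⟨q, rfl⟩ := c.exists_ι hs
  exact c.ι_NN q

/-- The element of `A` with a given code, inside the group. -/
def el (v : ℕ) : c.Ag := ⟨c.ι (elA v), c.mem_Ag.2 ⟨_, elA_mem v, rfl⟩⟩

theorem el_xor {u v : ℕ} (hu : u < 16) (hv : v < 16) : c.el (Nat.xor u v) = c.el u * c.el v :=
  Subtype.ext (by show c.ι _ = c.ι _ * c.ι _; rw [elA_xor hu hv, map_mul])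

theorem el_surj (x : c.Ag) : ∃ v < 16, c.el v = x := by
  obtain ⟨q, hq, he⟩ := c.mem_Ag.1 x.2
  exact ⟨code q, code_lt q, Subtype.ext (by show c.ι _ = _; rw [elA_code q hq, he])⟩

theorem el_inj {u v : ℕ} (hu : u < 16) (hv : v < 16) (h : c.el u = c.el v) : u = v := by
  have h0 : c.ι (elA u) = c.ι (elA v) := congrArg (fun x : c.Ag => (x : G)) h
  have h' := congrArg code (c.ι_inj h0)
  rwa [code_elA ⟨u, hu⟩, code_elA ⟨v, hv⟩] at h'

theorem el_code {q : M8} (hq : M8.InA q) : ((c.el (code q) : c.Ag) : G) = c.ι q := by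
  show c.ι _ = _; rw [elA_code q hq]

/-- The action of the normaliser on `A`. -/
noncomputable def π : c.NN →* MulAut c.Ag := c.Ag.normalizerMonoidHom

theorem π_apply (n : c.NN) (x : c.Ag) : ((c.π n x : c.Ag) : G) = (n : G) * x * (n : G)⁻¹ := rfl

/-- An automorphism of `A` is given by a column matrix. -/
def Acts (x : MulAut c.Ag) (m : Col) : Prop := ∀ v < 16, m.app v < 16 ∧ x (c.el v) = c.el (m.app v)

theorem exists_acts (x : MulAut c.Ag) : ∃ m, c.Acts x m := by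
  choose f hf hfe using fun v => c.el_surj (x (c.el v))
  refine ⟨⟨f 1, f 2, f 4, f 8⟩, fun v hv => ?_⟩
  have hlt := Col.app_lt (m := ⟨f 1, f 2, f 4, f 8⟩) (hf 1) (hf 2) (hf 4) (hf 8) v
  refine ⟨hlt, ?_⟩
  have key : ∀ r, r < 2 → ∀ b, b < 16 → x (c.el (Nat.mul r b)) = c.el (Nat.mul r (f b)) := by
    intro r hr b hb
    interval_cases r
    · have h0 : c.el 0 = 1 := Subtype.ext (show c.ι (elA 0) = 1 by rw [show elA 0 = 1 from rfl, map_one])
      simp only [Nat.mul_eq, zero_mul]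
      rw [h0, map_one]
    · simp only [Nat.mul_eq, one_mul]
      exact (hfe b).symm
  have h2 : ∀ {b : ℕ}, b % 2 < 2 := fun {b} => Nat.mod_lt _ two_pos
  conv_lhs => rw [show v = Nat.xor (Nat.xor (Nat.mul (v % 2) 1) (Nat.mul (v / 2 % 2) 2))
    (Nat.xor (Nat.mul (v / 4 % 2) 4) (Nat.mul (v / 8 % 2) 8)) from (nat_bits ⟨v, hv⟩).symm]
  have b1 := bit_mul_lt (h2 (b := v)) (show 1 < 16 by norm_num)
  have b2 := bit_mul_lt (h2 (b := v / 2)) (show 2 < 16 by norm_num)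
  have b4 := bit_mul_lt (h2 (b := v / 4)) (show 4 < 16 by norm_num)
  have b8 := bit_mul_lt (h2 (b := v / 8)) (show 8 < 16 by norm_num)
  rw [c.el_xor (xor_lt b1 b2) (xor_lt b4 b8), c.el_xor b1 b2, c.el_xor b4 b8, map_mul, map_mul, map_mul,
    key _ h2 1 (by norm_num), key _ h2 2 (by norm_num), key _ h2 4 (by norm_num), key _ h2 8 (by norm_num),
    ← c.el_xor (bit_mul_lt h2 (hf 1)) (bit_mul_lt h2 (hf 2)), ← c.el_xor (bit_mul_lt h2 (hf 4)) (bit_mul_lt h2 (hf 8)),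
    ← c.el_xor (xor_lt (bit_mul_lt h2 (hf 1)) (bit_mul_lt h2 (hf 2)))
      (xor_lt (bit_mul_lt h2 (hf 4)) (bit_mul_lt h2 (hf 8)))]
  rfl

theorem Acts.inj {x : MulAut c.Ag} {m : Col} (h : c.Acts x m) : m.Inj := fun w hw => by
  have e := (h w w.2).2
  have h0 : c.el 0 = 1 := Subtype.ext (show c.ι (elA 0) = 1 by rw [show elA 0 = 1 from rfl, map_one])
  rw [hw, h0, ← map_one x] at e
  exact Fin.ext (c.el_inj w.2 (by norm_num) ((x.injective e).trans h0.symm))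

theorem Acts.col_lt {x : MulAut c.Ag} {m : Col} (h : c.Acts x m) :
    m.x0 < 16 ∧ m.x1 < 16 ∧ m.x2 < 16 ∧ m.x3 < 16 :=
  ⟨m.app_basis.1 ▸ (h 1 (by norm_num)).1, m.app_basis.2.1 ▸ (h 2 (by norm_num)).1,
    m.app_basis.2.2.1 ▸ (h 4 (by norm_num)).1, m.app_basis.2.2.2.1 ▸ (h 8 (by norm_num)).1⟩

theorem Acts.pow {x : MulAut c.Ag} {m : Col} (h : c.Acts x m) :
    ∀ k : ℕ, ∀ v < 16, m.iter k v < 16 ∧ (x ^ k) (c.el v) = c.el (m.iter k v)
  | 0, v, hv => ⟨hv, by rw [pow_zero]; rfl⟩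
  | k + 1, v, hv => by
    obtain ⟨h1, h2⟩ := Acts.pow h k v hv
    exact ⟨(h _ h1).1, by rw [pow_succ', MulAut.mul_apply, h2]; exact (h _ h1).2⟩

theorem ext_basis {x y : MulAut c.Ag} (h : ∀ b ∈ Col.basis, x (c.el b) = y (c.el b)) : x = y := by
  refine MulEquiv.ext fun a => ?_
  obtain ⟨v, hv, rfl⟩ := c.el_surj a
  obtain ⟨mx, hx⟩ := c.exists_acts x
  obtain ⟨my, hy⟩ := c.exists_acts y
  rw [(hx v hv).2, (hy v hv).2]
  have he : ∀ b ∈ Col.basis, b < 16 → mx.app b = my.app b := fun b hb hb' =>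
    c.el_inj (hx b hb').1 (hy b hb').1 ((hx b hb').2.symm.trans ((h b hb).trans (hy b hb').2))
  have e : mx = my := by
    obtain ⟨x0, x1, x2, x3, -⟩ := mx.app_basis
    obtain ⟨y0, y1, y2, y3, -⟩ := my.app_basis
    have q0 := he 1 (by simp [Col.basis]) (by norm_num)
    have q1 := he 2 (by simp [Col.basis]) (by norm_num)
    have q2 := he 4 (by simp [Col.basis]) (by norm_num)
    have q3 := he 8 (by simp [Col.basis]) (by norm_num)
    rw [x0, y0] at q0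
    rw [x1, y1] at q1
    rw [x2, y2] at q2
    rw [x3, y3] at q3
    cases mx; cases my
    simp only [Col.mk.injEq]
    exact ⟨q0, q1, q2, q3⟩
  rw [e]

theorem Acts.pow_eq_one {x : MulAut c.Ag} {m : Col} (h : c.Acts x m) (k : ℕ)
    (hk : ∀ b ∈ Col.basis, m.iter k b = b) : x ^ k = 1 := by
  refine c.ext_basis fun b hb => ?_
  have hb16 : b < 16 := by simp [Col.basis] at hb; omega
  rw [(h.pow c k b hb16).2, hk b hb]
  rfl

/-- The action of a Sylow element. -/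
noncomputable def πι : M8 →* MulAut c.Ag := c.π.comp (c.ι.codRestrict c.NN c.ι_NN)

theorem πι_apply (q : M8) (x : c.Ag) : ((c.πι q x : c.Ag) : G) = c.ι q * x * (c.ι q)⁻¹ := rfl

theorem πι_inA {q : M8} (hq : M8.InA q) : c.πι q = 1 := MulEquiv.ext fun x => Subtype.ext (by
  rw [c.πι_apply, c.Ag_comm (c.mem_Ag.2 ⟨q, hq, rfl⟩) x.2, mul_inv_cancel_right]; rfl)

theorem πι_sq (q : M8) : c.πι q * c.πι q = 1 := by rw [← map_mul, c.πι_inA (sq_inA q)]

theorem acts_gen (g : M8) (m : Col) (h : ∀ q, M8.InA q → code (g * q * g⁻¹) = m.app (code q)) :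
    c.Acts (c.πι g) m := fun v hv => by
  have h1 : m.app v = code (g * elA v * g⁻¹) := by rw [h _ (elA_mem v), code_elA ⟨v, hv⟩]
  refine ⟨h1 ▸ code_lt _, Subtype.ext ?_⟩
  rw [c.πι_apply, h1, c.el_code (M8.inA_conj g _ (elA_mem v))]
  show c.ι g * c.ι (elA v) * (c.ι g)⁻¹ = _
  rw [map_mul, map_mul, map_inv]

theorem acts_a : c.Acts (c.πι M8.ga) Col.cA := c.acts_gen _ _ fun q hq => (code_cj q hq).1
theorem acts_f : c.Acts (c.πι M8.gf) Col.cF := c.acts_gen _ _ fun q hq => (code_cj q hq).2.1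
theorem acts_af : c.Acts (c.πι (M8.ga * M8.gf)) Col.cAF := c.acts_gen _ _ fun q hq => (code_cj q hq).2.2

/-- Commutation carried to the columns. -/
theorem Acts.conj_rel {x y z : MulAut c.Ag} {m my mz : Col} (hx : c.Acts x m) (hy : c.Acts y my)
    (hz : c.Acts z mz) (h : x * y = z * x) (v : ℕ) (hv : v < 16) : m.app (my.app v) = mz.app (m.app v) :=
  c.el_inj (hx _ (hy v hv).1).1 (hz _ (hx v hv).1).1 (by
    rw [← (hx _ (hy v hv).1).2, ← (hz _ (hx v hv).1).2, ← (hy v hv).2, ← (hx v hv).2, ← MulAut.mul_apply, h,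
      MulAut.mul_apply])

theorem xor_del {a b w : ℕ} (h : Nat.xor a b = w) : a = Nat.xor w b := by
  subst h
  show a = (a ^^^ b) ^^^ b
  rw [Nat.xor_assoc, Nat.xor_self, Nat.xor_zero]

theorem Acts.eq_qa {x : MulAut c.Ag} {m : Col} (hx : c.Acts x m) (h : x * c.πι M8.ga = c.πι M8.ga * x) :
    m = Col.qa m.x2 m.x3 := by
  have h4 := hx.conj_rel c c.acts_a c.acts_a h 4 (by norm_num)
  have h8 := hx.conj_rel c c.acts_a c.acts_a h 8 (by norm_num)
  obtain ⟨-, -, e2, e3, e5, e10, -, -, -⟩ := m.app_basis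
  rw [show Col.cA.app 4 = 5 from rfl, e5, e2] at h4
  rw [show Col.cA.app 8 = 10 from rfl, e10, e3] at h8
  obtain ⟨x0, x1, x2, x3⟩ := m
  simp only [Col.qa, Col.mk.injEq, Col.del]
  exact ⟨xor_del h4, xor_del h8, trivial, trivial⟩

theorem Acts.eq_qf {x : MulAut c.Ag} {m : Col} (hx : c.Acts x m) (h : x * c.πι M8.gf = c.πι M8.gf * x) :
    m = Col.qf m.x2 m.x0 := by
  have h4 := hx.conj_rel c c.acts_f c.acts_f h 4 (by norm_num)
  have h1 := hx.conj_rel c c.acts_f c.acts_f h 1 (by norm_num)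
  obtain ⟨e0, -, e2, -, -, -, e12, e3, -⟩ := m.app_basis
  rw [show Col.cF.app 4 = 12 from rfl, e12, e2] at h4
  rw [show Col.cF.app 1 = 3 from rfl, e3, e0] at h1
  obtain ⟨x0, x1, x2, x3⟩ := m
  simp only [Col.qf, Col.mk.injEq, Col.del]
  have h4' : x3 ^^^ x2 = Col.cF.app x2 := (Nat.xor_comm _ _).trans h4
  have h1' : x1 ^^^ x0 = Col.cF.app x0 := (Nat.xor_comm _ _).trans h1
  exact ⟨trivial, xor_del h1', trivial, xor_del h4'⟩

theorem Acts.eq_qaf {x : MulAut c.Ag} {m : Col} (hx : c.Acts x m)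
    (h : x * c.πι (M8.ga * M8.gf) = c.πι (M8.ga * M8.gf) * x) : m = Col.qaf m.x2 m.x0 := by
  have h4 := hx.conj_rel c c.acts_af c.acts_af h 4 (by norm_num)
  have h1 := hx.conj_rel c c.acts_af c.acts_af h 1 (by norm_num)
  obtain ⟨e0, -, e2, -, -, -, -, e3, e15⟩ := m.app_basis
  rw [show Col.cAF.app 4 = 15 from rfl, e15, e2] at h4
  rw [show Col.cAF.app 1 = 3 from rfl, e3, e0] at h1
  obtain ⟨x0, x1, x2, x3⟩ := m
  simp only [Col.qaf, Col.mk.injEq, Col.del]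
  have h1' : x1 ^^^ x0 = Col.cAF.app x0 := (Nat.xor_comm _ _).trans h1
  refine ⟨trivial, xor_del h1', trivial, ?_⟩
  show x3 = ((Col.cAF.app x2 ^^^ x2) ^^^ x0) ^^^ (Col.cAF.app x0 ^^^ x0)
  have hx1 : Col.cAF.app x0 ^^^ x0 = x1 := (xor_del h1').symm
  have h4' : ((x0 ^^^ x1) ^^^ (x2 ^^^ x3)) = Col.cAF.app x2 := h4
  rw [hx1, ← h4']
  refine Nat.eq_of_testBit_eq fun i => ?_
  simp only [Nat.testBit_xor]
  cases x0.testBit i <;> cases x1.testBit i <;> cases x2.testBit i <;> cases x3.testBit i <;> rfl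

theorem Acts.eq_qk {x : MulAut c.Ag} {m : Col} (hx : c.Acts x m) (h : x * c.πι M8.ga = c.πι M8.gf * x) :
    m = Col.qk m.x2 m.x3 := by
  have h4 := hx.conj_rel c c.acts_a c.acts_f h 4 (by norm_num)
  have h8 := hx.conj_rel c c.acts_a c.acts_f h 8 (by norm_num)
  obtain ⟨-, -, e2, e3, e5, e10, -, -, -⟩ := m.app_basis
  rw [show Col.cA.app 4 = 5 from rfl, e5, e2] at h4
  rw [show Col.cA.app 8 = 10 from rfl, e10, e3] at h8
  obtain ⟨x0, x1, x2, x3⟩ := m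
  simp only [Col.qk, Col.mk.injEq, Col.del]
  exact ⟨xor_del h4, xor_del h8, trivial, trivial⟩

/-- The image of the Sylow subgroup is generated by the images of the two generators. -/
theorem πι_cases (q : M8) : c.πι q = 1 ∨ c.πι q = c.πι M8.ga ∨ c.πι q = c.πι M8.gf ∨
    c.πι q = c.πι (M8.ga * M8.gf) := by
  have h : ∀ q : M8, M8.InA q ∨ M8.InA (M8.ga⁻¹ * q) ∨ M8.InA (M8.gf⁻¹ * q) ∨
      M8.InA ((M8.ga * M8.gf)⁻¹ * q) := by decide +kernel
  have hh : ∀ g, M8.InA (g⁻¹ * q) → c.πι q = c.πι g := fun g hg => by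
    rw [show q = g * (g⁻¹ * q) by group, map_mul, c.πι_inA hg, mul_one]
  rcases h q with e | e | e | e
  · exact Or.inl (c.πι_inA e)
  · exact Or.inr (Or.inl (hh _ e))
  · exact Or.inr (Or.inr (Or.inl (hh _ e)))
  · exact Or.inr (Or.inr (Or.inr (hh _ e)))

/-- An automorphism commuting with a nontrivial element of the Sylow image has order dividing twelve. -/
theorem exp_twelve {x : MulAut c.Ag} {q : M8} (hq : c.πι q ≠ 1) (h : x * c.πι q = c.πι q * x) : x ^ 12 = 1 := by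
  obtain ⟨m, hm⟩ := c.exists_acts x
  have hi := hm.inj c
  obtain ⟨l0, l1, l2, l3⟩ := hm.col_lt c
  refine hm.pow_eq_one c 12 ?_
  rcases (c.πι_cases q).resolve_left hq with e | e | e <;> rw [e] at h
  · rw [hm.eq_qa c h] at hi ⊢
    exact Col.qa_exp ⟨_, l2⟩ ⟨_, l3⟩ hi
  · rw [hm.eq_qf c h] at hi ⊢
    exact Col.qf_exp ⟨_, l2⟩ ⟨_, l0⟩ hi
  · rw [hm.eq_qaf c h] at hi ⊢
    exact Col.qaf_exp ⟨_, l2⟩ ⟨_, l0⟩ hi

/-- An automorphism commuting with the Sylow image has order dividing four. -/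
theorem exp_four {x : MulAut c.Ag} (h : ∀ q, x * c.πι q = c.πι q * x) : x ^ 4 = 1 := by
  obtain ⟨m, hm⟩ := c.exists_acts x
  have hi := hm.inj c
  obtain ⟨l0, l1, l2, l3⟩ := hm.col_lt c
  refine hm.pow_eq_one c 4 ?_
  have hb : ∀ b ∈ Col.basis, m.app (Col.cF.app b) = Col.cF.app (m.app b) := fun b hb =>
    hm.conj_rel c c.acts_f c.acts_f (h _) b (by simp [Col.basis] at hb; omega)
  rw [hm.eq_qa c (h _)] at hi hb ⊢
  exact Col.cent_exp ⟨_, l2⟩ ⟨_, l3⟩ hi hb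

theorem S_sub_NN : ¬ 2 ∣ ((c.S : Subgroup G).subgroupOf c.NN).index := fun h =>
  c.S.not_dvd_index (h.trans (relIndex_dvd_index_of_le c.S_le_NN))

/-- The image of the Sylow subgroup as a Sylow subgroup of the automizer. -/
theorem exists_sylowX : ∃ P : Sylow 2 c.π.range, (P : Subgroup c.π.range).map c.π.range.subtype = c.πι.range := by
  haveI : Fact (Nat.Prime 2) := ⟨Nat.prime_two⟩
  refine ⟨(c.S.subtype c.S_le_NN).mapSurjective c.π.rangeRestrict_surjective, ?_⟩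
  ext x
  constructor
  · rintro ⟨_, ⟨⟨s, hs⟩, hsS, rfl⟩, rfl⟩
    obtain ⟨q, rfl⟩ := c.exists_ι hsS
    exact ⟨q, rfl⟩
  · rintro ⟨q, rfl⟩
    exact ⟨_, ⟨⟨c.ι q, c.ι_NN q⟩, c.ι_mem q, rfl⟩, rfl⟩

/-- The automizer has no element of order four. -/
theorem sq_one {n : c.NN} (h : c.π n ^ 4 = 1) : c.π n ^ 2 = 1 := by
  haveI : Fact (Nat.Prime 2) := ⟨Nat.prime_two⟩
  obtain ⟨P, hP⟩ := c.exists_sylowX
  set x : c.π.range := ⟨c.π n, n, rfl⟩
  have hx : IsPGroup 2 (zpowers x) := IsPGroup.of_card_dvd_pow (n := 2) (by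
    rw [Nat.card_zpowers]
    exact orderOf_dvd_of_pow_eq_one (Subtype.ext h))
  obtain ⟨d, hd⟩ := Cfsg.Lib.InvolCalc.exists_conj_le P hx
  have h1 : ((d⁻¹ * x * d : c.π.range) : MulAut c.Ag) ∈ c.πι.range := hP ▸ ⟨_, hd x (mem_zpowers x), rfl⟩
  obtain ⟨q, hq⟩ := h1
  have h2 := c.πι_sq q
  rw [hq] at h2
  have h3 : (d⁻¹ * x * d) * (d⁻¹ * x * d) = 1 := Subtype.ext h2
  have h4 : x ^ 2 = 1 := by
    calc x ^ 2 = d * ((d⁻¹ * x * d) * (d⁻¹ * x * d)) * d⁻¹ := by rw [pow_two]; group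
      _ = 1 := by rw [h3, mul_one, mul_inv_cancel]
  exact congrArg Subtype.val h4

/-- A two-element of the automizer centralising the Sylow image lies in it. -/
theorem mem_image {n : c.NN} (h : ∀ q, c.π n * c.πι q = c.πι q * c.π n) : ∃ q, c.π n = c.πι q := by
  haveI : Fact (Nat.Prime 2) := ⟨Nat.prime_two⟩
  obtain ⟨P, hP⟩ := c.exists_sylowX
  set x : c.π.range := ⟨c.π n, n, rfl⟩
  have hx : IsPGroup 2 (zpowers x) := IsPGroup.of_card_dvd_pow (n := 2) (by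
    rw [Nat.card_zpowers]
    exact orderOf_dvd_of_pow_eq_one (Subtype.ext (c.exp_four h)))
  have hn : zpowers x ≤ normalizer ((P : Subgroup c.π.range) : Set c.π.range) := by
    refine zpowers_le.2 (mem_normalizer_iff.2 fun y => ?_)
    have key : ∀ y ∈ (P : Subgroup c.π.range), x * y * x⁻¹ = y := fun y hy => by
      obtain ⟨q, hq⟩ : (y : MulAut c.Ag) ∈ c.πι.range := hP ▸ ⟨y, hy, rfl⟩
      refine mul_inv_eq_iff_eq_mul.2 (Subtype.ext ?_)
      show c.π n * y = y * c.π n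
      rw [← hq, h q]
    refine ⟨fun hy => by rw [key y hy]; exact hy, fun hy => ?_⟩
    have e : x * y * x⁻¹ = y := mul_left_cancel (a := x) (mul_right_cancel (b := x⁻¹) (key _ hy))
    rwa [e] at hy
  have := P.3 (hx.to_sup_of_normal_right' P.2 hn) le_sup_right
  obtain ⟨q, hq⟩ : (x : MulAut c.Ag) ∈ c.πι.range :=
    hP ▸ ⟨x, this.le (mem_sup_left (mem_zpowers x)), rfl⟩
  exact ⟨q, hq.symm⟩

end Typed

end Cfsg.Lib.AltEightSolv
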