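import Cfsg.Agent.AltEightSolv.Pattern
import Cfsg.Agent.AltEightType.Core

/-!
# The central involution is fused to another involution of `A`
-/

set_option autoImplicit false
set_option linter.style.haveILetI false
set_option linter.unusedSectionVars false

namespace Cfsg.Lib.AltEightSolv

open Subgroup

universe u

variable {G : Type u} [Group G] [Finite G] (c : Typed G)

/-- The central involution has a conjugate in `A` other than itself. -/
theorem exists_moved (hcore2 : Cfsg.pCore 2 G = ⊥) (hodd : Cfsg.oddCore G = ⊥) :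
    ∃ q, M8.InA q ∧ q ≠ 1 ∧ q ≠ M8.z ∧ ZT c q := by
  haveI : Fact (Nat.Prime 2) := ⟨Nat.prime_two⟩
  by_contra hno
  push Not at hno
  have hz : ∀ q : M8, IsConj c.zG (c.ι q) → q = M8.z := by
    intro q hq
    obtain ⟨g, hg⟩ := isConj_iff.1 hq
    obtain ⟨hqq, hq1⟩ := c.inv_pre (q := q) (by
      rw [← hg, ← MulAut.conj_apply, MulEquiv.orderOf_eq, c.orderOf_zG])
    by_cases hA : M8.InA q
    · by_contra hne
      exact hno q hA hq1 hne hq
    exfalso
    rcases c.out_cases hqq hA with ⟨n, hnz, y, hy, hne⟩ | hall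
    · have hy1 : y ≠ 1 := fun e => hq1 (c.ι_eq_one.1 (conj_eq_one_iff.1 (hne.trans (c.ι_eq_one.2 e))))
      have hyz : y = M8.z := by
        by_contra h
        exact hno y hy hy1 h (hq.trans (isConj_iff.2 ⟨n, hne⟩))
      rw [hyz] at hne
      have : c.ι q = c.zG := mul_left_cancel (a := n) (mul_right_cancel (b := n⁻¹) (hne.trans hnz.symm))
      exact hA (c.ι_inj this ▸ M8.z_facts.2.2.1)
    · exact (hall g⁻¹ M8.z (by rw [← hg]; show _ = c.zG; group)).1 M8.z_facts.2.2.1
  -- `z` is isolated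
  have hiso : ∀ g : G, Commute c.zG (g * c.zG * g⁻¹) → g * c.zG * g⁻¹ = c.zG := by
    intro g hg
    set w := g * c.zG * g⁻¹
    have hwC : w ∈ centralizer ({c.zG} : Set G) := mem_centralizer_singleton_iff.2 hg.symm.eq
    have hw : orderOf w = 2 := (MulEquiv.orderOf_eq (MulAut.conj g) c.zG).trans c.orderOf_zG
    obtain ⟨m, hm, hmS⟩ := Cfsg.Lib.TwoFusion.exists_sylow_conj c.S c.S_le_cent
      (IsPGroup.of_card (n := 1) (by rw [Nat.card_zpowers, hw, pow_one])) (zpowers_le.2 hwC)
    obtain ⟨q, hq⟩ := c.exists_ι (hmS w (mem_zpowers w))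
    have hqz := hz q (isConj_iff.2 ⟨m * g, by rw [hq]; simp only [w]; group⟩)
    rw [hqz] at hq
    have hmz : m * c.zG * m⁻¹ = c.zG := mul_inv_eq_iff_eq_mul.2 (mem_centralizer_singleton_iff.1 hm)
    exact mul_left_cancel (mul_right_cancel (hq.symm.trans hmz.symm))
  have hcore : Cfsg.Lib.AltEightType.core (⊤ : Subgroup G) = ⊥ := by
    refine eq_bot_iff.2 fun x hx => ?_
    rw [← hodd]
    haveI : (Cfsg.Lib.AltEightType.core (⊤ : Subgroup G)).Normal :=
      ⟨fun y hy g => (mem_normalizer_iff.1 (Cfsg.Lib.AltEightType.core_normalized (mem_top g)) y).1 hy⟩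
    exact Cfsg.Lib.AltEightType.le_oddCore (Cfsg.Lib.AltEightType.odd_core _) hx
  have hcen : c.zG ∈ center G := mem_center_iff.2 fun g => by
    obtain ⟨k, hk, hkg⟩ := Cfsg.Lib.AltEightType.isolated_of_commuting (C := ⊤) (mem_top c.zG) c.orderOf_zG
      (fun g _ => hiso g) (mem_top g)
    rw [hcore, mem_bot] at hk
    rw [hk, inv_one, one_mul] at hkg
    exact mem_centralizer_singleton_iff.1 hkg
  haveI : (zpowers c.zG).Normal := ⟨fun x hx g => by
    rw [mem_center_iff.1 ((zpowers_le.2 hcen) hx) g, mul_inv_cancel_right]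
    exact hx⟩
  have h2 : zpowers c.zG ≤ Cfsg.pCore 2 G := Cfsg.Lib.Components.le_pCore
    (IsPGroup.of_card (n := 1) (by rw [Nat.card_zpowers, c.orderOf_zG, pow_one]))
  rw [hcore2] at h2
  exact M8.z_facts.2.1 (c.ι_eq_one.1 (mem_bot.1 (h2 (mem_zpowers _))))

end Cfsg.Lib.AltEightSolv
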