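import Cfsg.Agent.AltEightSolv.Pattern
import Cfsg.Agent.AltEightSolv.Moved
import Cfsg.Agent.S3197

/-!
# The case in which `A` is normal in the centraliser of the central involution modulo its core
-/

set_option autoImplicit false
set_option maxRecDepth 100000
set_option linter.style.haveILetI false
set_option linter.unusedSectionVars false

namespace Cfsg.Lib.AltEightSolv

open Subgroup
open Cfsg.Lib.Walter (Qt qm mem_Oc Oc)
open Cfsg.Lib.LFourType (odd_Oc Oc_le Oc_normalized)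
open scoped commutatorElement

universe u

namespace CaseA

theorem cube_eq_one : ∀ q : M8, q * q * q = 1 → q = 1 := by decide +kernel
theorem ga_facts : M8.ga * M8.ga = 1 ∧ M8.ga ≠ 1 ∧ M8.Out M8.ga ∧ M8.ga.a = true ∧ M8.ga.f = false := by
  decide +kernel
theorem gb_facts : ∀ k, M8.InA M8.gb ∧ M8.gb * M8.gb = 1 ∧ M8.gb ≠ 1 ∧ M8.gb ≠ M8.z ∧ ¬ Four k M8.gb := by
  decide +kernel
theorem five_card : ∀ k : Bool, (Finset.univ.filter fun q : M8 => q = M8.z ∨ Four k q).card = 5 := by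
  decide +kernel
theorem five_mem : ∀ (k : Bool) (q : M8), q = M8.z ∨ Four k q → M8.InA q ∧ q ≠ 1 := by decide +kernel
theorem five_gen : ∀ (k : Bool) (q : M8), M8.InA q →
    ∃ p : M8, (p = M8.z ∨ Four k p) ∧ ∃ p' : M8, (p' = M8.z ∨ Four k p') ∧ (q = p ∨ q = p * p') := by
  decide +kernel
theorem cent_A : ∀ q : M8, (∀ p, M8.InA p → q * p = p * q) → M8.InA q := by decide +kernel
theorem five_fix : ∀ (k : Bool) (q : M8), (∀ p, (p = M8.z ∨ Four k p) → q * p = p * q) ↔ M8.InA q := by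
  decide +kernel

/-- Representatives of the cosets of `A`. -/
def rep (u : Bool × Bool) : M8 := cond u.1 M8.ga 1 * cond u.2 M8.gf 1

theorem rep_split : ∀ q : M8, M8.InA ((rep (q.a, q.f))⁻¹ * q) := by decide +kernel
theorem rep_inA : ∀ u : Bool × Bool, M8.InA (rep u) → u = (false, false) := by decide +kernel
theorem rep_zero : rep (false, false) = 1 := by decide +kernel

/-- The subgroup of the Sylow subgroup of elements without first parity. -/
def Pa : Subgroup M8 where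
  carrier := {q | q.a = false}
  one_mem' := rfl
  mul_mem' := fun {p q} hp hq => by
    show (p * q).a = false
    rw [M8.mul_def]
    simp only [Set.mem_setOf_eq] at hp hq
    simp [hp, hq]
  inv_mem' := fun {p} hp => by
    show (p⁻¹).a = false
    exact hp

theorem Pa_card : (Finset.univ.filter fun q : M8 => q.a = false).card = 32 := by decide +kernel

variable {G : Type u} [Group G] [Finite G] (c : Typed G)

theorem isPGroup_M8 : IsPGroup 2 M8 := IsPGroup.of_card (n := 6) (by rw [M8.card_M8]; rfl)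

theorem exists_index_two (h : ∀ g : G, ∀ q : M8, g * c.ι M8.ga * g⁻¹ = c.ι q → q.a = true) :
    ∃ M : Subgroup G, M.Normal ∧ M.index = 2 := by
  have hKS : Pa.map c.ι ≤ (c.S : Subgroup G) := by rintro _ ⟨q, -, rfl⟩; exact c.ι_mem q
  have hK : (Pa.map c.ι).relIndex (c.S : Subgroup G) = 2 := by
    have h1 := relIndex_mul_relIndex ⊥ (Pa.map c.ι) (c.S : Subgroup G) bot_le hKS
    rw [relIndex_bot_left, relIndex_bot_left, c.card_S, card_map_of_injective c.ι_inj] at h1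
    have h2 : Nat.card Pa = 32 := by
      rw [← Pa_card, ← Nat.card_eq_finsetCard]
      exact Nat.card_congr (Equiv.subtypeEquivRight fun q => by simp [Pa])
    rw [h2] at h1
    omega
  have hmem : ∀ q : M8, c.ι q ∈ Pa.map c.ι ↔ q.a = false := fun q => mem_map_iff_mem c.ι_inj
  obtain ⟨M, hM, hM2, -⟩ := Cfsg.Lib.TwoFusion.exists_index_two_of_transfer c.S (Pa.map c.ι) hKS hK
    (c.ι M8.ga) (c.ι_mem _) (fun hc => by simpa [ga_facts.2.2.2.1] using (hmem _).1 hc) fun j a ha => by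
      have hsq : c.ι M8.ga ^ 2 = 1 := by rw [pow_two, ← map_mul, ga_facts.1, map_one]
      rcases Nat.even_or_odd j with ⟨i, rfl⟩ | ⟨i, rfl⟩
      · rw [← two_mul, pow_mul, hsq, one_pow, mul_one, mul_inv_cancel]
      · rw [pow_add, pow_mul, hsq, one_pow, one_mul, pow_one] at ha ⊢
        obtain ⟨q, hq⟩ := c.exists_ι ha
        rw [← hq, hmem, hmem, h a q hq.symm, ga_facts.2.2.2.1]
  exact ⟨M, hM, hM2⟩

theorem shapeA_out {hsol : IsSolvable ↥(centralizer ({c.zG} : Set G))}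
    (hA : (M8.A.map (c.loc hsol).ι).Normal) {x : M8} (hx : x * x = 1) (ho : M8.Out x) (g : G) (q : M8)
    (hg : g * c.ι x * g⁻¹ = c.ι q) :
    M8.Out q ∧ ∃ n ∈ centralizer ({c.zG} : Set G), n * c.ι x * n⁻¹ = c.ι q := by
  rcases c.out_cases hx ho with ⟨n, hnz, y, hy, hne⟩ | hall
  · refine absurd ?_ ho
    have hn : n ∈ centralizer ({c.zG} : Set G) := mem_centralizer_singleton_iff.2 (mul_inv_eq_iff_eq_mul.1 hnz)
    have hq : qm c.zG ⟨n, hn⟩ * c.κ x * (qm c.zG ⟨n, hn⟩)⁻¹ = c.κ y := by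
      rw [c.κ_def, c.κ_def, ← map_inv, ← map_mul, ← map_mul]
      exact congrArg _ (Subtype.ext hne)
    have hm : c.κ y ∈ M8.A.map (c.loc hsol).ι := mem_map_of_mem c.κ (show y ∈ M8.A from hy)
    have h2 : c.κ x ∈ M8.A.map (c.loc hsol).ι := by
      have h1 := hA.conj_mem _ hm (qm c.zG ⟨n, hn⟩)⁻¹
      rw [← hq] at h1
      simpa [mul_assoc] using h1
    exact (mem_map_iff_mem c.κ_inj).1 h2
  · obtain ⟨hq, n, hnz, hn⟩ := hall g q hg
    exact ⟨hq, n, mem_centralizer_singleton_iff.2 (mul_inv_eq_iff_eq_mul.1 hnz), hn⟩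

theorem not_range_top (hO2 : Cfsg.pResidual 2 G = ⊤) {hsol : IsSolvable ↥(centralizer ({c.zG} : Set G))}
    (hA : (M8.A.map (c.loc hsol).ι).Normal) : (c.loc hsol).ι.range ≠ ⊤ := by
  intro htop
  obtain ⟨M, hM, hM2⟩ := exists_index_two c fun g q hg => by
    obtain ⟨-, n, hn, hne⟩ := shapeA_out c hA ga_facts.1 ga_facts.2.2.1 g q hg
    obtain ⟨w, hw⟩ : qm c.zG ⟨n, hn⟩ ∈ c.κ.range := by
      rw [show c.κ.range = ⊤ from htop]; exact mem_top _
    have hq : c.κ (w * M8.ga * w⁻¹) = c.κ q := by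
      rw [map_mul, map_mul, map_inv, hw, c.κ_def, c.κ_def, ← map_inv, ← map_mul, ← map_mul]
      exact congrArg _ (Subtype.ext hne)
    rw [← c.κ_inj hq, (M8.out_conj w M8.ga).1, ga_facts.2.2.2.1]
  haveI := hM
  have h := Cfsg.Lib.TwoFusion.pResidual_le_of_index_two hM2
  rw [hO2, top_le_iff] at h
  rw [h, index_top] at hM2
  omega

/-- The data lifted from the element of order three. -/
structure Tri where
  n : G
  hn : n ∈ centralizer ({c.zG} : Set G)
  tri : TriG c n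
  cube : qm c.zG ⟨n, hn⟩ ^ 3 = 1
  gen : ∀ g : G, ∀ hg : g ∈ centralizer ({c.zG} : Set G),
    ∃ (q : M8) (i : ℕ), qm c.zG ⟨g, hg⟩ = c.κ q * qm c.zG ⟨n, hn⟩ ^ i

theorem exists_tri {hsol : IsSolvable ↥(centralizer ({c.zG} : Set G))}
    (h3 : (c.loc hsol).ι.range.index = 3) {k : Qt c.zG} (hk : IsTri (c.loc hsol) k) : Nonempty (Tri c) := by
  obtain ⟨hk3, hk1, hkq⟩ := hk
  obtain ⟨⟨g, hg⟩, hgk'⟩ := QuotientGroup.mk'_surjective _ k
  have hgk : qm c.zG ⟨g, hg⟩ = k := hgk'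
  obtain ⟨o, ho, hol⟩ := c.lift hg ⊤ ⊤ fun q _ => by
    obtain ⟨q', hq', -⟩ := hkq q
    exact ⟨q', mem_top _, by rw [hgk]; exact hq'⟩
  obtain ⟨hoC, ho1⟩ := mem_Oc.1 ho
  have hnC : o * g ∈ centralizer ({c.zG} : Set G) := mul_mem hoC hg
  have hnk : qm c.zG ⟨o * g, hnC⟩ = k := by
    rw [show (⟨o * g, hnC⟩ : centralizer ({c.zG} : Set G)) = ⟨o, hoC⟩ * ⟨g, hg⟩ from rfl, map_mul, ho1, one_mul, hgk]
  have hconj : ∀ q : M8, ∃ q' : M8, o * g * c.ι q * (o * g)⁻¹ = c.ι q' ∧ q'.a = q.f ∧ q'.f = (q.a ^^ q.f) := by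
    intro q
    obtain ⟨q', -, he, he'⟩ := hol q (mem_top _)
    obtain ⟨q'', hq'', h1, h2⟩ := hkq q
    rw [hgk] at he
    obtain rfl : q'' = q' := c.κ_inj (hq''.symm.trans he)
    exact ⟨q'', he', h1, h2⟩
  have hcube : k ^ 3 = 1 := by rw [pow_succ, pow_two, hk3]
  have hknr : k ∉ c.κ.range := by
    rintro ⟨q, rfl⟩
    exact hk1 (by rw [cube_eq_one q (c.κ_inj (by rw [map_mul, map_mul, map_one]; exact hk3)), map_one])
  have hkN : zpowers k ≤ normalizer (c.κ.range : Set (Qt c.zG)) := by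
    refine zpowers_le.2 (Cfsg.Lib.Coprime.conjMap_eq_self_iff.1 ?_)
    refine eq_of_le_of_card_ge ?_ (Cfsg.Lib.Coprime.card_conjMap k _).ge
    rintro _ ⟨_, ⟨q, rfl⟩, rfl⟩
    obtain ⟨q', hq', -⟩ := hkq q
    exact ⟨q', hq'.symm⟩
  have hall : c.κ.range ⊔ zpowers k = ⊤ := by
    have h1 := relIndex_mul_index (le_sup_left : c.κ.range ≤ c.κ.range ⊔ zpowers k)
    rw [show c.κ.range.index = 3 from h3] at h1
    rcases (Nat.dvd_prime Nat.prime_three).1 ⟨_, h1.symm⟩ with e | e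
    · exact absurd ((relIndex_eq_one.1 e) (mem_sup_right (mem_zpowers k))) hknr
    · rw [e] at h1; exact index_eq_one.1 (by omega)
  refine ⟨⟨o * g, hnC, ⟨c.mem_normalizer_Ag ?_, mul_inv_eq_iff_eq_mul.2 (mem_centralizer_singleton_iff.1 hnC),
    hconj⟩, by rw [hnk]; exact hcube, fun y hy => ?_⟩⟩
  · intro x hx
    obtain ⟨q, hq, rfl⟩ := c.mem_Ag.1 hx
    obtain ⟨q', he, h1, h2⟩ := hconj q
    exact c.mem_Ag.2 ⟨q', ⟨h1.trans hq.2, by rw [h2, hq.1, hq.2]; rfl⟩, he.symm⟩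
  · have hm : qm c.zG ⟨y, hy⟩ ∈ c.κ.range ⊔ zpowers k := hall ▸ mem_top _
    obtain ⟨_, ⟨q, rfl⟩, z, hz, hqz⟩ := (Cfsg.Lib.Coprime.mem_sup_of_le_normalizer hkN).1 hm
    obtain ⟨i, hi⟩ := (isOfFinOrder_of_finite k).mem_powers_iff_mem_zpowers.2 hz
    exact ⟨q, i, by rw [hnk, ← hqz, ← hi]⟩

variable {c}

theorem Tri.npow_mem (T : Tri c) (i : ℕ) : T.n ^ i ∈ normalizer (c.Ag : Set G) := pow_mem T.tri.1 i

theorem Tri.conj_eq (T : Tri c) {g : G} (hg : g ∈ centralizer ({c.zG} : Set G))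
    (hgN : g ∈ normalizer (c.Ag : Set G)) {q : M8} {i : ℕ}
    (h : qm c.zG ⟨g, hg⟩ = c.κ q * qm c.zG ⟨T.n, T.hn⟩ ^ i) {x : G} (hx : x ∈ c.Ag) :
    g * x * g⁻¹ = c.ι q * T.n ^ i * x * (c.ι q * T.n ^ i)⁻¹ := by
  obtain ⟨p, hp, rfl⟩ := c.mem_Ag.1 hx
  obtain ⟨p1, -, h1⟩ := c.mem_Ag.1 ((mem_normalizer_iff.1 hgN _).1 hx)
  obtain ⟨p2, -, h2⟩ := c.mem_Ag.1 ((mem_normalizer_iff.1 (T.npow_mem i) _).1 hx)
  have e1 : c.κ p1 = qm c.zG ⟨g, hg⟩ * c.κ p * (qm c.zG ⟨g, hg⟩)⁻¹ := by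
    rw [c.κ_def, c.κ_def, ← map_inv, ← map_mul, ← map_mul]
    exact congrArg _ (Subtype.ext h1)
  have e2 : c.κ p2 = qm c.zG ⟨T.n, T.hn⟩ ^ i * c.κ p * (qm c.zG ⟨T.n, T.hn⟩ ^ i)⁻¹ := by
    rw [c.κ_def, c.κ_def, ← map_pow, ← map_inv, ← map_mul, ← map_mul]
    exact congrArg _ (Subtype.ext (by simpa using h2))
  have e3 : p1 = q * p2 * q⁻¹ := c.κ_inj (by rw [map_mul, map_mul, map_inv, e1, e2, h]; group)
  rw [← h1, e3, map_mul, map_mul, map_inv, h2]
  group

theorem Tri.stabTri (T : Tri c) : StabTri c T.n := fun g hgN hgz => by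
  have hg : g ∈ centralizer ({c.zG} : Set G) := mem_centralizer_singleton_iff.2 (mul_inv_eq_iff_eq_mul.1 hgz)
  obtain ⟨q, i, h⟩ := T.gen g hg
  exact ⟨q, i, fun x hx => T.conj_eq hg hgN h hx⟩

/-- The five elements of central type. -/
abbrev Five (k : Bool) := {q : M8 // q = M8.z ∨ Four k q}

theorem card_Five (k : Bool) : Nat.card (Five k) = 5 := by
  rw [← five_card k, ← Nat.card_eq_finsetCard]
  exact Nat.card_congr (Equiv.subtypeEquivRight fun q => by simp)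

theorem exists_image {k : Bool} (hp : PatNine c k) (n : normalizer (c.Ag : Set G)) (q : Five k) :
    ∃ q' : Five k, c.ι q'.1 = (n : G) * c.ι q.1 * (n : G)⁻¹ := by
  obtain ⟨hqA, hq1⟩ := five_mem k q.1 q.2
  obtain ⟨p, hpA, he⟩ := c.mem_Ag.1 ((mem_normalizer_iff.1 n.2 _).1 (c.mem_Ag.2 ⟨q.1, hqA, rfl⟩))
  have hp1 : p ≠ 1 := fun e => hq1 (c.ι_eq_one.1 (conj_eq_one_iff.1 (he.symm.trans (c.ι_eq_one.2 e))))
  have hz : ZT c p := ((hp.zt q.1 hqA hq1).2 q.2).trans (isConj_iff.2 ⟨(n : G), he.symm⟩)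
  exact ⟨⟨p, (hp.zt p hpA hp1).1 hz⟩, he⟩

/-- The normaliser of `A` permutes the five elements. -/
noncomputable def img {k : Bool} (hp : PatNine c k) (n : normalizer (c.Ag : Set G)) (q : Five k) : Five k :=
  (exists_image hp n q).choose

theorem img_spec {k : Bool} (hp : PatNine c k) (n : normalizer (c.Ag : Set G)) (q : Five k) :
    c.ι (img hp n q).1 = (n : G) * c.ι q.1 * (n : G)⁻¹ := (exists_image hp n q).choose_spec

theorem img_mul {k : Bool} (hp : PatNine c k) (m n : normalizer (c.Ag : Set G)) (q : Five k) :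
    img hp (m * n) q = img hp m (img hp n q) := by
  refine Subtype.ext (c.ι_inj ?_)
  rw [img_spec, img_spec, img_spec, Subgroup.coe_mul]
  group

theorem img_one {k : Bool} (hp : PatNine c k) (q : Five k) : img hp 1 q = q := by
  refine Subtype.ext (c.ι_inj ?_)
  rw [img_spec]; simp

/-- The permutation representation. -/
noncomputable def act {k : Bool} (hp : PatNine c k) : normalizer (c.Ag : Set G) →* Equiv.Perm (Five k) where
  toFun n :=
    { toFun := img hp n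
      invFun := img hp n⁻¹
      left_inv := fun q => by rw [← img_mul, inv_mul_cancel, img_one]
      right_inv := fun q => by rw [← img_mul, mul_inv_cancel, img_one] }
  map_one' := Equiv.ext fun q => img_one hp q
  map_mul' m n := Equiv.ext fun q => img_mul hp m n q

theorem act_eq_one {k : Bool} (hp : PatNine c k) (n : normalizer (c.Ag : Set G)) :
    act hp n = 1 ↔ (n : G) ∈ centralizer (c.Ag : Set G) := by
  constructor
  · intro h
    have hfix : ∀ p : M8, p = M8.z ∨ Four k p → (n : G) * c.ι p * (n : G)⁻¹ = c.ι p := fun p hpp => by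
      rw [← img_spec hp n ⟨p, hpp⟩]
      exact congrArg c.ι (congrArg Subtype.val (Equiv.ext_iff.1 h ⟨p, hpp⟩))
    refine mem_centralizer_iff.2 fun x hx => ?_
    obtain ⟨q, hq, rfl⟩ := c.mem_Ag.1 hx
    have : (n : G) * c.ι q * (n : G)⁻¹ = c.ι q := by
      obtain ⟨p, hp1, p', hp2, rfl | rfl⟩ := five_gen k q hq
      · exact hfix _ hp1
      · rw [map_mul, ← conj_mul, hfix _ hp1, hfix _ hp2]
    exact (mul_inv_eq_iff_eq_mul.1 this).symm
  · intro h
    refine Equiv.ext fun q => Subtype.ext (c.ι_inj ?_)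
    show c.ι (img hp n q).1 = c.ι q.1
    rw [img_spec, ← mem_centralizer_iff.1 h _ (c.mem_Ag.2 ⟨q.1, (five_mem k q.1 q.2).1, rfl⟩),
      mul_inv_cancel_right]

theorem sylow_norm (q : M8) : c.ι q ∈ normalizer (c.Ag : Set G) := c.mem_normalizer_Ag fun x hx => by
  obtain ⟨p, hp, rfl⟩ := c.mem_Ag.1 hx
  exact c.mem_Ag.2 ⟨q * p * q⁻¹, M8.inA_conj q p hp, by rw [map_mul, map_mul, map_inv]⟩

/-- The Sylow subgroup in the permutation representation. -/
noncomputable def actS {k : Bool} (hp : PatNine c k) : M8 →* Equiv.Perm (Five k) :=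
  (act hp).comp (c.ι.codRestrict _ sylow_norm)

theorem actS_eq_one {k : Bool} (hp : PatNine c k) (q : M8) : actS hp q = 1 ↔ M8.InA q := by
  rw [show actS hp q = act hp ⟨c.ι q, sylow_norm q⟩ from rfl, act_eq_one, mem_centralizer_iff]
  constructor
  · intro h
    refine cent_A q fun p hp => c.ι_inj ?_
    rw [map_mul, map_mul]
    exact (h _ (c.mem_Ag.2 ⟨p, hp, rfl⟩)).symm
  · intro hq x hx
    exact c.Ag_comm hx (c.mem_Ag.2 ⟨q, hq, rfl⟩)

theorem actS_rep {k : Bool} (hp : PatNine c k) (q : M8) : actS hp q = actS hp (rep (q.a, q.f)) := by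
  conv_lhs => rw [show q = rep (q.a, q.f) * ((rep (q.a, q.f))⁻¹ * q) by group]
  rw [map_mul, (actS_eq_one hp _).2 (rep_split q), mul_one]

theorem card_actS {k : Bool} (hp : PatNine c k) : Nat.card (actS hp).range = 4 := by
  have h1 : (actS hp).ker = M8.A := SetLike.ext fun q => (actS_eq_one hp q).trans M8.mem_A.symm
  have h2 := M8.A.card_mul_index
  rw [M8.card_M8] at h2
  have h3 : Nat.card M8.A = 16 := by
    rw [← M8.card_A, ← Nat.card_eq_finsetCard]
    exact Nat.card_congr (Equiv.subtypeEquivRight fun q => by simp [M8.mem_A])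
  rw [h3] at h2
  rw [← index_ker, h1]
  omega

theorem Tri.act_ne_one (T : Tri c) {k : Bool} (hp : PatNine c k) : act hp ⟨T.n, T.tri.1⟩ ≠ 1 := by
  rw [Ne, act_eq_one]
  intro h
  obtain ⟨q', he, h1, -⟩ := T.tri.2.2 M8.ga
  have hsame : M8.InA (M8.ga⁻¹ * q') := by
    refine cent_A _ fun p hp => c.ι_inj ?_
    have hnp := mem_centralizer_iff.1 h _ (c.mem_Ag.2 ⟨p, hp, rfl⟩)
    obtain ⟨w, hw, hwe⟩ := c.mem_Ag.1 ((mem_normalizer_iff.1 (sylow_norm (c := c) M8.ga) _).1 (c.mem_Ag.2 ⟨p, hp, rfl⟩))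
    have hnw := mem_centralizer_iff.1 h _ (c.mem_Ag.2 ⟨w, hw, rfl⟩)
    have key : c.ι q' * c.ι p * (c.ι q')⁻¹ = c.ι M8.ga * c.ι p * (c.ι M8.ga)⁻¹ := by
      rw [← he, ← hwe]
      calc T.n * c.ι M8.ga * T.n⁻¹ * c.ι p * (T.n * c.ι M8.ga * T.n⁻¹)⁻¹
          = T.n * c.ι M8.ga * (T.n⁻¹ * (c.ι p * T.n)) * (c.ι M8.ga)⁻¹ * T.n⁻¹ := by group
        _ = T.n * c.ι M8.ga * (T.n⁻¹ * (T.n * c.ι p)) * (c.ι M8.ga)⁻¹ * T.n⁻¹ := by rw [hnp]
        _ = T.n * (c.ι M8.ga * c.ι p * (c.ι M8.ga)⁻¹) * T.n⁻¹ := by group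
        _ = T.n * c.ι w * T.n⁻¹ := by rw [hwe]
        _ = c.ι w := by rw [← hnw, mul_inv_cancel_right]
    have key2 : c.ι q' * c.ι p = c.ι M8.ga * c.ι p * (c.ι M8.ga)⁻¹ * c.ι q' := by rw [← key]; group
    simp only [map_mul, map_inv]
    rw [mul_assoc, key2]
    group
  have hga : (M8.ga⁻¹ * q').a = (true ^^ q'.a) := by
    rw [M8.mul_def]; rfl
  rw [h1, ga_facts.2.2.2.2] at hga
  have hbad := hsame.1
  rw [hga] at hbad
  simp at hbad

theorem Tri.act_cube (T : Tri c) {k : Bool} (hp : PatNine c k) : act hp ⟨T.n, T.tri.1⟩ ^ 3 = 1 := by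
  rw [← map_pow, act_eq_one]
  refine mem_centralizer_iff.2 fun x hx => ?_
  have h3 : T.n ^ 3 ∈ centralizer ({c.zG} : Set G) := pow_mem T.hn 3
  have he := T.conj_eq h3 (T.npow_mem 3) (q := 1) (i := 0) (by
    rw [map_one, pow_zero, mul_one, ← T.cube, ← map_pow]; rfl) hx
  rw [map_one, pow_zero, mul_one, one_mul, inv_one, mul_one] at he
  show x * T.n ^ 3 = T.n ^ 3 * x
  exact (mul_inv_eq_iff_eq_mul.1 he).symm

/-- The map onto the stabiliser. -/
noncomputable def psi (T : Tri c) {k : Bool} (hp : PatNine c k) (u : (Bool × Bool) × Fin 3) : Equiv.Perm (Five k) :=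
  actS hp (rep u.1) * act hp ⟨T.n, T.tri.1⟩ ^ (u.2 : ℕ)

theorem Tri.act_psi (T : Tri c) {k : Bool} (hp : PatNine c k) {g : G} (hg : g ∈ centralizer ({c.zG} : Set G))
    (hgN : g ∈ normalizer (c.Ag : Set G)) {q : M8} {i : ℕ}
    (h : qm c.zG ⟨g, hg⟩ = c.κ q * qm c.zG ⟨T.n, T.hn⟩ ^ i) :
    act hp ⟨g, hgN⟩ = psi T hp ((q.a, q.f), ⟨i % 3, Nat.mod_lt _ (by norm_num)⟩) := by
  have hpow : act hp ⟨T.n, T.tri.1⟩ ^ (i % 3) = act hp ⟨T.n, T.tri.1⟩ ^ i := by
    conv_rhs => rw [← Nat.mod_add_div i 3, pow_add, pow_mul, T.act_cube hp, one_pow, mul_one]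
  show act hp ⟨g, hgN⟩ = actS hp (rep (q.a, q.f)) * act hp ⟨T.n, T.tri.1⟩ ^ (i % 3)
  rw [← actS_rep, hpow, show actS hp q = act hp ⟨c.ι q, sylow_norm q⟩ from rfl, ← map_pow, ← map_mul]
  refine Equiv.ext fun x => Subtype.ext (c.ι_inj ?_)
  show c.ι (img hp ⟨g, hgN⟩ x).1 = c.ι (img hp _ x).1
  rw [img_spec, img_spec]
  exact T.conj_eq hg hgN h (c.mem_Ag.2 ⟨x.1, (five_mem k x.1 x.2).1, rfl⟩)

theorem Tri.image_facts (T : Tri c) {k : Bool} (hp : PatNine c k) :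
    (act hp).range.index = 2 ∧ Function.Injective (psi T hp) := by
  classical
  set z5 : Five k := ⟨M8.z, Or.inl rfl⟩ with hz5
  haveI : MulAction.IsPretransitive (act hp).range (Five k) := MulAction.IsPretransitive.mk fun x y => by
    have hto : ∀ q : Five k, ∃ n, act hp n z5 = q := by
      rintro ⟨q, rfl | hq⟩
      · exact ⟨1, by rw [map_one]; rfl⟩
      · obtain ⟨n, hn, hne⟩ := hp.fusedZ q hq
        refine ⟨⟨n, hn⟩, Subtype.ext (c.ι_inj ?_)⟩
        show c.ι (img hp _ z5).1 = c.ι q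
        rw [img_spec, hne]
    obtain ⟨a, ha⟩ := hto x
    obtain ⟨b, hb⟩ := hto y
    refine ⟨⟨act hp (b * a⁻¹), ⟨_, rfl⟩⟩, ?_⟩
    show act hp (b * a⁻¹) x = y
    rw [map_mul, map_inv, Equiv.Perm.mul_apply, ← ha, ]
    simp [hb]
  set St := MulAction.stabilizer (act hp).range z5 with hSt
  have hindex : St.index = 5 := by rw [hSt, MulAction.index_stabilizer_of_transitive, card_Five]
  set StP := St.map (act hp).range.subtype with hStP
  have hfixz : ∀ g : normalizer (c.Ag : Set G), (g : G) ∈ centralizer ({c.zG} : Set G) → act hp g ∈ StP := by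
    intro g hg
    refine ⟨⟨act hp g, ⟨g, rfl⟩⟩, ?_, rfl⟩
    refine Subtype.ext (c.ι_inj ?_)
    show c.ι (img hp g z5).1 = c.ι M8.z
    rw [img_spec]
    exact mul_inv_eq_iff_eq_mul.2 (mem_centralizer_singleton_iff.1 hg)
  have hsurj : ∀ x ∈ StP, ∃ u, psi T hp u = x := by
    rintro _ ⟨⟨_, g, rfl⟩, hgz, rfl⟩
    have hgC : (g : G) ∈ centralizer ({c.zG} : Set G) := by
      refine mem_centralizer_singleton_iff.2 (mul_inv_eq_iff_eq_mul.1 ?_)
      rw [Typed.zG, show (g : G) * c.ι M8.z * (g : G)⁻¹ = c.ι (img hp g z5).1 from (img_spec hp g z5).symm]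
      exact congrArg c.ι (congrArg Subtype.val (hgz : act hp g z5 = z5))
    obtain ⟨q, i, h⟩ := T.gen g hgC
    exact ⟨_, (T.act_psi hp hgC g.2 h).symm⟩
  have hmem : ∀ u, psi T hp u ∈ StP := fun u =>
    mul_mem (hfixz ⟨_, sylow_norm _⟩ (c.ι_cent _)) (pow_mem (hfixz ⟨_, T.tri.1⟩ T.hn) _)
  let f : (Bool × Bool) × Fin 3 → StP := fun u => ⟨psi T hp u, hmem u⟩
  have hf : Function.Surjective f := fun x => by
    obtain ⟨u, hu⟩ := hsurj x.1 x.2
    exact ⟨u, Subtype.ext hu⟩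
  have h12 : Nat.card ((Bool × Bool) × Fin 3) = 12 := by simp
  have hle : Nat.card StP ≤ 12 := h12 ▸ Nat.card_le_card_of_surjective f hf
  have h4 : 4 ∣ Nat.card StP := by
    rw [← card_actS hp]
    refine card_dvd_of_le ?_
    rintro _ ⟨q, rfl⟩
    exact hfixz _ (c.ι_cent q)
  have h3 : 3 ∣ Nat.card StP := by
    haveI : Fact (Nat.Prime 3) := ⟨Nat.prime_three⟩
    rw [← orderOf_eq_prime (T.act_cube hp) (T.act_ne_one hp)]
    exact Subgroup.orderOf_dvd_natCard _ (hfixz _ T.hn)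
  have heq : Nat.card StP = 12 :=
    le_antisymm hle (Nat.le_of_dvd Nat.card_pos (Nat.Coprime.mul_dvd_of_dvd_of_dvd (by norm_num) h4 h3))
  refine ⟨?_, ?_⟩
  · have h60 : Nat.card (act hp).range = 60 := by
      rw [← St.card_mul_index, hindex, ← card_map_of_injective (act hp).range.subtype_injective, ← hStP, heq]
    have h := (act hp).range.card_mul_index
    rw [h60, Nat.card_perm, card_Five, show Nat.factorial 5 = 120 from rfl] at h
    omega
  · have hb : Function.Bijective f :=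
      (Nat.bijective_iff_surjective_and_card f).2 ⟨hf, by rw [h12, heq]⟩
    exact fun u v e => hb.1 (Subtype.ext e)

theorem Tri.cent_Ag (T : Tri c) {k : Bool} (hp : PatNine c k) {g : G} (hg : g ∈ centralizer (c.Ag : Set G)) :
    ∃ a ∈ c.Ag, ∃ o ∈ Oc c.zG ⊓ centralizer (c.Ag : Set G), g = a * o := by
  have hgN : g ∈ normalizer (c.Ag : Set G) := centralizer_le_normalizer _ hg
  have hgC : g ∈ centralizer ({c.zG} : Set G) := mem_centralizer_singleton_iff.2
    (mem_centralizer_iff.1 hg c.zG (c.mem_Ag.2 ⟨M8.z, M8.z_facts.2.2.1, rfl⟩)).symm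
  obtain ⟨q, i, h⟩ := T.gen g hgC
  have he := T.act_psi hp hgC hgN h
  rw [(act_eq_one hp ⟨g, hgN⟩).2 hg, show (1 : Equiv.Perm (Five k)) = psi T hp ((false, false), 0) by
    simp [psi, rep_zero]] at he
  have h1 := (T.image_facts hp).2 he
  have hqa : M8.InA q := ⟨(congrArg (fun u => u.1.1) h1).symm, (congrArg (fun u => u.1.2) h1).symm⟩
  have hi : i % 3 = 0 := (congrArg (fun u : (Bool × Bool) × Fin 3 => (u.2 : ℕ)) h1).symm
  have hk : qm c.zG ⟨g, hgC⟩ = c.κ q := by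
    rw [h, ← Nat.mod_add_div i 3, hi, zero_add, pow_mul, T.cube, one_pow, mul_one]
  have hqC : c.ι q ∈ centralizer (c.Ag : Set G) := mem_centralizer_iff.2 fun x hx =>
    c.Ag_comm hx (c.mem_Ag.2 ⟨q, hqa, rfl⟩)
  refine ⟨c.ι q, c.mem_Ag.2 ⟨q, hqa, rfl⟩, (c.ι q)⁻¹ * g, ⟨mem_Oc.2 ⟨mul_mem (Subgroup.inv_mem _ (c.ι_cent q)) hgC, ?_⟩,
    mul_mem (Subgroup.inv_mem _ hqC) hg⟩, (mul_inv_cancel_left _ _).symm⟩
  show qm c.zG (⟨c.ι q, c.ι_cent q⟩⁻¹ * ⟨g, hgC⟩) = 1
  rw [map_mul, map_inv, ← c.κ_def, hk, inv_mul_cancel]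

theorem Tri.normalizer_facts (T : Tri c) {k : Bool} (hp : PatNine c k) :
    ∃ (_ : (c.Ag.subgroupOf (normalizer (c.Ag : Set G)) ⊔ Cfsg.oddCore ↥(normalizer (c.Ag : Set G))).Normal),
      Nonempty (↥(normalizer (c.Ag : Set G)) ⧸
        (c.Ag.subgroupOf (normalizer (c.Ag : Set G)) ⊔ Cfsg.oddCore ↥(normalizer (c.Ag : Set G)))
          ≃* ↥(alternatingGroup (Fin 5))) := by
  classical
  set N := normalizer (c.Ag : Set G) with hN
  set A' := c.Ag.subgroupOf N with hA'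
  set O' := Cfsg.oddCore ↥N with hO'
  haveI : A'.Normal := normal_in_normalizer
  set W := Oc c.zG ⊓ centralizer (c.Ag : Set G) with hW
  have hWodd : Odd (Nat.card W) := (odd_Oc c.zG).of_dvd_nat (card_dvd_of_le inf_le_left)
  have hWN : W ≤ N := inf_le_right.trans (centralizer_le_normalizer _)
  have hWn : N ≤ normalizer (W : Set G) := fun g hg => by
    rw [← Cfsg.Lib.Coprime.conjMap_eq_self_iff]
    refine eq_of_le_of_card_ge ?_ (Cfsg.Lib.Coprime.card_conjMap g _).ge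
    rintro _ ⟨w, hw, rfl⟩
    have hgw : g * w * g⁻¹ ∈ centralizer (c.Ag : Set G) :=
      (mem_normalizer_iff.1 (Cfsg.Lib.Components.normalizer_le_normalizer_centralizer' c.Ag hg) w).1 hw.2
    obtain ⟨a, ha, o, ho, e⟩ := T.cent_Ag hp hgw
    have hcomm : a * o = o * a := mem_centralizer_iff.1 ho.2 a ha
    obtain ⟨m, hm⟩ := hWodd
    have hw' : ∀ y ∈ W, y ^ (2 * m + 1) = 1 := fun y hy =>
      orderOf_dvd_iff_pow_eq_one.1 (hm ▸ Subgroup.orderOf_dvd_natCard W hy)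
    have hpow := congrArg (· ^ (2 * m + 1)) e
    simp only [conj_pow, (show Commute a o from hcomm).mul_pow, hw' w hw, hw' o ho, mul_one, mul_inv_cancel] at hpow
    rw [pow_succ, pow_mul, pow_two, c.Ag_sq ha, one_pow, one_mul] at hpow
    show g * w * g⁻¹ ∈ W
    rw [e, ← hpow, one_mul]
    exact ho
  have hker : (act hp).ker = A' ⊔ O' := by
    refine le_antisymm (fun g hg => ?_) (sup_le ?_ ?_)
    · obtain ⟨a, ha, o, ho, e⟩ := T.cent_Ag hp ((act_eq_one hp g).1 hg)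
      haveI : (W.subgroupOf N).Normal := normal_subgroupOf_of_le_normalizer hWn
      have hWO : W.subgroupOf N ≤ O' := Cfsg.Lib.Components.le_pPrimeCore (by
        rw [Nat.card_congr (subgroupOfEquivOfLe hWN).toEquiv]; exact Nat.coprime_two_right.2 hWodd)
      rw [show g = (⟨a, c.Ag_le.trans (fun x hx => by
        obtain ⟨q, rfl⟩ := c.exists_ι hx; exact sylow_norm q) ha⟩ : N) * ⟨o, hWN ho⟩ from Subtype.ext e]
      exact mul_mem_sup (show a ∈ c.Ag from ha) (hWO (show o ∈ W from ho))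
    · intro g hg
      exact (act_eq_one hp g).2 (mem_centralizer_iff.2 fun x hx => c.Ag_comm hx hg)
    · intro g hg
      refine (act_eq_one hp g).2 (mem_centralizer_iff.2 fun x hx => ?_)
      have hxN : x ∈ N := le_normalizer hx
      have h1 : ⁅(⟨x, hxN⟩ : N), g⁆ ∈ A' ⊓ O' := by
        haveI : O'.Normal := inferInstance
        exact ⟨by
          rw [commutatorElement_def, mul_assoc, mul_assoc]
          refine mul_mem (show (⟨x, hxN⟩ : N) ∈ A' from hx) ?_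
          rw [← mul_assoc]
          exact (inferInstance : A'.Normal).conj_mem _ (Subgroup.inv_mem _ (show (⟨x, hxN⟩ : N) ∈ A' from hx)) g, by
          rw [commutatorElement_def]
          exact mul_mem ((inferInstance : O'.Normal).conj_mem _ hg _) (Subgroup.inv_mem _ hg)⟩
      have hbot : A' ⊓ O' = ⊥ := Cfsg.Lib.Coprime.inf_eq_bot_of_coprime (by
        rw [Nat.card_congr (subgroupOfEquivOfLe le_normalizer).toEquiv, c.card_Ag]
        exact ((Cfsg.Lib.Components.coprime_card_pPrimeCore 2).symm.pow_left 4))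
      rw [hbot, mem_bot, commutatorElement_eq_one_iff_mul_comm] at h1
      exact congrArg Subtype.val h1
  refine ⟨hker ▸ inferInstance, ⟨?_⟩⟩
  haveI : Fintype (Five k) := Fintype.ofFinite _
  have hI : (act hp).range = alternatingGroup (Five k) :=
    Equiv.Perm.eq_alternatingGroup_of_index_eq_two (T.image_facts hp).1
  have e5 : Five k ≃ Fin 5 := (Finite.equivFinOfCardEq (card_Five k))
  exact ((QuotientGroup.quotientMulEquivOfEq hker.symm).trans
    (QuotientGroup.quotientKerEquivRange (act hp))).trans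
    ((MulEquiv.subgroupCongr hI).trans (e5.altCongrHom))

theorem three_classes {hsol : IsSolvable ↥(centralizer ({c.zG} : Set G))}
    (hA : (M8.A.map (c.loc hsol).ι).Normal) (T : Tri c) {k : Bool} (hp : PatNine c k) :
    Nat.card {C : ConjClasses G // ∃ x ∈ C.carrier, orderOf x = 2} = 3 := by
  classical
  haveI : Fact (Nat.Prime 2) := ⟨Nat.prime_two⟩
  have hout : ∀ q : M8, q * q = 1 → M8.Out q → IsConj (c.ι M8.ga) (c.ι q) := by
    intro q hq ho
    obtain ⟨hg0, -, hgo, hga, hgf⟩ := ga_facts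
    have step : ∀ p : M8, p * p = 1 → M8.Out p → ∀ p' : M8, p' * p' = 1 → p'.a = p.a → p'.f = p.f →
        IsConj (c.ι p) (c.ι p') := fun p h1 h2 p' h3 h4 h5 => by
      obtain ⟨g, hg⟩ := M8.out_class p h1 h2 p' h3 h4 h5
      exact c.conj_ι hg
    obtain ⟨q1, he1, ha1, hf1⟩ := T.tri.2.2 M8.ga
    obtain ⟨q2, he2, ha2, hf2⟩ := T.tri.2.2 q1
    rw [hgf] at ha1; rw [hga, hgf] at hf1
    rw [hf1] at ha2; rw [ha1, hf1] at hf2
    have hc1 : IsConj (c.ι M8.ga) (c.ι q1) := isConj_iff.2 ⟨T.n, he1⟩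
    have hc2 : IsConj (c.ι M8.ga) (c.ι q2) := hc1.trans (isConj_iff.2 ⟨T.n, he2⟩)
    have hinv : ∀ p : M8, IsConj (c.ι M8.ga) (c.ι p) → p * p = 1 := fun p hp' => by
      obtain ⟨g, hg⟩ := isConj_iff.1 hp'
      exact c.ι_inj (by rw [map_mul, map_one, ← hg, conj_mul, ← map_mul, hg0, map_one, mul_one, mul_inv_cancel])
    rcases M8.out_cases q ho with ⟨a, f⟩ | ⟨a, f⟩ | ⟨a, f⟩
    · exact step M8.ga hg0 hgo q hq (by rw [a, hga]) (by rw [f, hgf])
    · exact hc1.trans (step q1 (hinv _ hc1) (fun h => by simpa [hf1] using h.2) q hq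
        (by rw [a, ha1]) (by rw [f, hf1]; rfl))
    · exact hc2.trans (step q2 (hinv _ hc2) (fun h => by simpa [ha2] using h.1) q hq
        (by rw [a, ha2]; rfl) (by rw [f, hf2]; rfl))
  have hcls : ∀ q : M8, q * q = 1 → q ≠ 1 →
      IsConj c.zG (c.ι q) ∨ IsConj (c.ι M8.gb) (c.ι q) ∨ IsConj (c.ι M8.ga) (c.ι q) := by
    intro q hq hq1
    by_cases hA' : M8.InA q
    · by_cases hz : ZT c q
      · exact Or.inl hz
      · rw [hp.zt q hA' hq1, not_or] at hz
        obtain ⟨n, -, hn⟩ := hp.fusedB q hA' hq1 hz.1 hz.2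
        exact Or.inr (Or.inl (isConj_iff.2 ⟨n, hn⟩))
    · exact Or.inr (Or.inr (hout q hq hA'))
  obtain ⟨hbA, hb2, hb1, hbz, hb4⟩ := gb_facts k
  have hzb : ¬ IsConj c.zG (c.ι M8.gb) := fun h => by
    rcases (hp.zt _ hbA hb1).1 h with e | e
    · exact hbz e
    · exact hb4 e
  have hga' : ∀ q : M8, M8.InA q → ¬ IsConj (c.ι M8.ga) (c.ι q) := fun q hq h => by
    obtain ⟨g, hg⟩ := isConj_iff.1 h
    exact (shapeA_out c hA ga_facts.1 ga_facts.2.2.1 g q hg).1 hq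
  have hne1 : ConjClasses.mk c.zG ≠ ConjClasses.mk (c.ι M8.gb) := fun h => hzb (ConjClasses.mk_eq_mk_iff_isConj.1 h)
  have hne2 : ConjClasses.mk c.zG ≠ ConjClasses.mk (c.ι M8.ga) := fun h =>
    hga' _ M8.z_facts.2.2.1 (ConjClasses.mk_eq_mk_iff_isConj.1 h).symm
  have hne3 : ConjClasses.mk (c.ι M8.gb) ≠ ConjClasses.mk (c.ι M8.ga) := fun h =>
    hga' _ hbA (ConjClasses.mk_eq_mk_iff_isConj.1 h).symm
  have hcard : ({ConjClasses.mk c.zG, ConjClasses.mk (c.ι M8.gb), ConjClasses.mk (c.ι M8.ga)} :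
      Finset (ConjClasses G)).card = 3 := by
    simp [hne1, hne2, hne3]
  rw [← hcard]
  refine Nat.subtype_card _ fun C => ?_
  simp only [Finset.mem_insert, Finset.mem_singleton]
  constructor
  · rintro (rfl | rfl | rfl)
    · exact ⟨_, ConjClasses.mem_carrier_mk, c.orderOf_zG⟩
    · exact ⟨_, ConjClasses.mem_carrier_mk, c.order_ι hb2 hb1⟩
    · exact ⟨_, ConjClasses.mem_carrier_mk, c.order_ι ga_facts.1 ga_facts.2.1⟩
  · rintro ⟨x, hxC, hx⟩
    rw [ConjClasses.mem_carrier_iff_mk_eq] at hxC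
    subst hxC
    obtain ⟨m, -, hm⟩ := Cfsg.Lib.TwoFusion.exists_sylow_conj (H := ⊤) c.S le_top
      (IsPGroup.of_card (n := 1) (by rw [Nat.card_zpowers, hx, pow_one]) : IsPGroup 2 (zpowers x)) le_top
    obtain ⟨q, hq⟩ := c.exists_ι (hm x (mem_zpowers x))
    obtain ⟨hq2, hq1⟩ := c.inv_pre (q := q) (by rw [hq, ← MulAut.conj_apply, MulEquiv.orderOf_eq, hx])
    have hxq : ConjClasses.mk x = ConjClasses.mk (c.ι q) :=
      ConjClasses.mk_eq_mk_iff_isConj.2 (isConj_iff.2 ⟨m, hq.symm⟩)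
    rw [hxq]
    rcases hcls q hq2 hq1 with h | h | h
    · exact Or.inl (ConjClasses.mk_eq_mk_iff_isConj.2 h.symm)
    · exact Or.inr (Or.inl (ConjClasses.mk_eq_mk_iff_isConj.2 h.symm))
    · exact Or.inr (Or.inr (ConjClasses.mk_eq_mk_iff_isConj.2 h.symm))

variable (c)

theorem exists_alt_sylow : ∃ P : Sylow 2 ↥(alternatingGroup (Fin 8)),
    Nonempty (↥(c.S : Subgroup G) ≃* ↥(P : Subgroup ↥(alternatingGroup (Fin 8)))) := by
  haveI : Fact (Nat.Prime 2) := ⟨Nat.prime_two⟩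
  have hX : Nat.card ↥(alternatingGroup (Fin 8)) = 2 ^ 6 * 315 := by
    rw [nat_card_alternatingGroup, Nat.card_fin]; decide
  have hT : IsPGroup 2 Cfsg.Lib.AltEightType.tabGroup :=
    IsPGroup.of_card (n := 6) (by rw [Cfsg.Lib.AltEightType.card_tabGroup]; rfl)
  have hidx : ¬ 2 ∣ Cfsg.Lib.AltEightType.tabGroup.index := by
    have := Cfsg.Lib.AltEightType.tabGroup.card_mul_index
    rw [Cfsg.Lib.AltEightType.card_tabGroup, hX] at this
    omega
  exact ⟨hT.toSylow hidx, ⟨c.e.symm.trans modelEquiv⟩⟩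

end CaseA

open CaseA in
/-- The shape with `A` normal does not occur, given the orbit of the central involution. -/
theorem shapeA_false_of_orbit {G : Type u} [Group G] [Finite G] (c : Typed G)
    (horb : ∀ n, TriG c n → StabTri c n →
      (∃ q, M8.InA q ∧ q ≠ 1 ∧ q ≠ M8.z ∧ ZT c q) → ∃ k, PatNine c k)
    (hO2 : Cfsg.pResidual 2 G = ⊤) (hcore2 : Cfsg.pCore 2 G = ⊥) (hodd : Cfsg.oddCore G = ⊥)
    (hsol : IsSolvable ↥(Subgroup.centralizer ({c.zG} : Set G))) (h : ShapeA (c.loc hsol)) : False := by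
  obtain ⟨hA, h1 | ⟨h3, k0, hk0⟩⟩ := h
  · exact not_range_top c hO2 hA h1
  obtain ⟨T⟩ := exists_tri c h3 hk0
  obtain ⟨k, hp⟩ := horb T.n T.tri T.stabTri (exists_moved c hcore2 hodd)
  obtain ⟨P, hP⟩ := exists_alt_sylow c
  have hel : Cfsg.IsElementaryAbelian 2 c.Ag :=
    ⟨⟨⟨fun a b => Subtype.ext (c.Ag_comm a.2 b.2)⟩⟩, fun x hx => by rw [pow_two]; exact c.Ag_sq hx⟩
  have hn := Cfsg.Agent.S3197.result c.S P hP (three_classes hA T hp) c.Ag hel c.card_Ag _ rfl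
    (T.normalizer_facts hp)
  rw [hodd, sup_bot_eq] at hn
  have h2 : c.Ag ≤ Cfsg.pCore 2 G := Cfsg.Lib.Components.le_pCore (c.S.2.to_le c.Ag_le)
  rw [hcore2, le_bot_iff] at h2
  have := c.card_Ag
  rw [h2, card_bot] at this
  omega

end Cfsg.Lib.AltEightSolv
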