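import Cfsg.Agent.AltEightSolv.OrbitFacts

/-!
# The orbit of `z` when the stabiliser has order twelve
-/

set_option autoImplicit false
set_option linter.style.haveILetI false
set_option linter.unusedSectionVars false

namespace Cfsg.Lib.AltEightSolv

open Subgroup

universe u

variable {G : Type u} [Group G] [Finite G] (c : Typed G)

/-- With a stabiliser of order twelve, `z` has five conjugates in `A`. -/
theorem orbit_tri {n : G} (hn : TriG c n) (hst : StabTri c n)
    (hmv : ∃ q, M8.InA q ∧ q ≠ 1 ∧ q ≠ M8.z ∧ ZT c q) : ∃ k, PatNine c k := by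
  classical
  obtain ⟨hnN, hnz, hcyc⟩ := hn
  set N0 : c.NN := ⟨n, hnN⟩
  set x := c.π N0 with hx
  -- the action on the Sylow image
  have hmapq : ∀ q : M8, ∃ q', q'.a = q.f ∧ q'.f = (q.a ^^ q.f) ∧ x * c.πι q = c.πι q' * x := by
    intro q
    obtain ⟨q', he, h1, h2⟩ := hcyc q
    refine ⟨q', h1, h2, MulEquiv.ext fun a => Subtype.ext ?_⟩
    show n * (c.ι q * a * (c.ι q)⁻¹) * n⁻¹ = c.ι q' * (n * a * n⁻¹) * (c.ι q')⁻¹
    rw [← he]; group
  have hcoset : ∀ p q : M8, p.a = q.a → p.f = q.f → c.πι p = c.πι q := by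
    intro p q h1 h2
    have h : ∀ p q : M8, p.a = q.a → p.f = q.f → M8.InA (q⁻¹ * p) := by decide +kernel
    rw [show p = q * (q⁻¹ * p) by group, map_mul, c.πι_inA (h p q h1 h2), mul_one]
  have haf : x * c.πι M8.ga = c.πι M8.gf * x := by
    obtain ⟨q', h1, h2, he⟩ := hmapq M8.ga
    rw [he, hcoset q' M8.gf h1 h2]
  have hfc : x * c.πι M8.gf = c.πι (M8.ga * M8.gf) * x := by
    obtain ⟨q', h1, h2, he⟩ := hmapq M8.gf
    rw [he, hcoset q' (M8.ga * M8.gf) h1 h2]
  have hca : x * c.πι (M8.ga * M8.gf) = c.πι M8.ga * x := by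
    obtain ⟨q', h1, h2, he⟩ := hmapq (M8.ga * M8.gf)
    rw [he, hcoset q' M8.ga h1 h2]
  have h3 : ∀ {u v w t : M8}, x * c.πι u = c.πι v * x → x * c.πι v = c.πι w * x → x * c.πι w = c.πι t * x →
      x ^ 3 * c.πι u = c.πι t * x ^ 3 := by
    intro u v w t e1 e2 e3
    calc x ^ 3 * c.πι u = x * (x * (x * c.πι u)) := by simp only [pow_succ, pow_zero, one_mul, mul_assoc]
      _ = x * (x * c.πι v) * x := by rw [e1]; simp only [mul_assoc]
      _ = x * c.πι w * x * x := by rw [e2]; simp only [mul_assoc]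
      _ = c.πι t * x * x * x := by rw [e3]
      _ = _ := by simp only [pow_succ, pow_zero, one_mul, mul_assoc]
  have hτc : ∀ q, c.π (N0 ^ 3) * c.πι q = c.πι q * c.π (N0 ^ 3) := by
    intro q
    rw [map_pow]
    rcases c.πι_cases q with e | e | e | e <;> rw [e]
    · rw [mul_one, one_mul]
    · exact h3 haf hfc hca
    · exact h3 hfc hca haf
    · exact h3 hca haf hfc
  obtain ⟨q3, hq3⟩ := c.mem_image hτc
  rw [map_pow] at hq3
  have hx6 : x ^ 6 = 1 := by
    rw [show 6 = 3 + 3 from rfl, pow_add, hq3, c.πι_sq]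
  set K := x ^ 4 with hK
  have hK3 : K * K * K = 1 := by
    rw [hK, ← pow_add, ← pow_add, show 4 + 4 + 4 = 6 + 6 from rfl, pow_add, hx6, one_mul]
  have hKa : K * c.πι M8.ga = c.πι M8.gf * K := by
    rw [hK, show 4 = 1 + 3 from rfl, pow_add, pow_one, mul_assoc, h3 haf hfc hca, ← mul_assoc, haf, mul_assoc]
  have hKf : K * c.πι M8.gf = c.πι (M8.ga * M8.gf) * K := by
    rw [hK, show 4 = 1 + 3 from rfl, pow_add, pow_one, mul_assoc, h3 hfc hca haf, ← mul_assoc, hfc, mul_assoc]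
  have hKc : K * c.πι (M8.ga * M8.gf) = c.πι M8.ga * K := by
    rw [hK, show 4 = 1 + 3 from rfl, pow_add, pow_one, mul_assoc, h3 hca haf hfc, ← mul_assoc, hca, mul_assoc]
  have hKn : K = c.π (N0 ^ 4) := by rw [map_pow]
  obtain ⟨m, hm⟩ := c.exists_acts K
  have hxz : ∀ i : ℕ, (x ^ i) (c.el 2) = c.el 2 := by
    intro i
    induction i with
    | zero => rw [pow_zero]; rfl
    | succ i ih =>
      rw [pow_succ', MulAut.mul_apply, ih]
      refine Subtype.ext ?_
      show n * c.ι M8.z * n⁻¹ = c.ι M8.z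
      exact hnz
  have hmK : m.IsK := by
    refine ⟨c.el_inj (hm 2 (by norm_num)).1 (by norm_num) ((hm 2 (by norm_num)).2.symm.trans (hxz 4)), fun b hb => ?_⟩
    have hb16 : b < 16 := by simp [Col.basis] at hb; omega
    obtain ⟨h1, e1⟩ := hm b hb16
    obtain ⟨h2, e2⟩ := hm _ h1
    obtain ⟨h3', e3⟩ := hm _ h2
    refine ⟨c.el_inj h3' hb16 ?_, hm.conj_rel c c.acts_f c.acts_af hKf b hb16⟩
    rw [← e3, ← e2, ← e1, ← MulAut.mul_apply, ← MulAut.mul_apply, hK3]
    rfl
  have hmq : m = Col.qk m.x2 m.x3 := hm.eq_qk c hKa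
  obtain ⟨-, -, l2, l3⟩ := hm.col_lt c
  -- the stabiliser
  have hstab : ∀ g : c.NN, c.π g (c.el 2) = c.el 2 → ∃ q i, c.π g = c.πι q * K ^ i := by
    intro g hg
    obtain ⟨q, i, hqi⟩ := hst g g.2 (congrArg Subtype.val hg)
    have hxK : x = K * c.πι q3 := by
      rw [hK, ← hq3, ← pow_add, show 4 + 3 = 6 + 1 from rfl, pow_add, hx6, one_mul, pow_one]
    have hcom : Commute K (c.πι q3) := by rw [hK, ← hq3]; exact Commute.pow_pow_self x 4 3
    have hg' : c.π g = c.πι q * x ^ i := by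
      refine MulEquiv.ext fun a => Subtype.ext ?_
      rw [MulAut.mul_apply, hx, ← map_pow, c.πι_apply, c.π_apply, c.π_apply, hqi a a.2]
      show _ = c.ι q * (((N0 ^ i : c.NN) : G) * a * ((N0 ^ i : c.NN) : G)⁻¹) * (c.ι q)⁻¹
      rw [SubmonoidClass.coe_pow]
      show _ = c.ι q * (n ^ i * a * (n ^ i)⁻¹) * (c.ι q)⁻¹
      group
    refine ⟨q * q3 ^ i, i, ?_⟩
    rw [hg', hxK, hcom.mul_pow, (hcom.pow_pow i i).eq, ← mul_assoc, map_mul, map_pow]
  -- `z` is not fused to a pair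
  have hgb : ¬ ZT c M8.gb := by
    intro hzt
    obtain ⟨g, hg, hge⟩ := c.zt_fused (by decide) hzt
    set g0 : c.NN := ⟨g, hg⟩
    set a0 : c.NN := ⟨c.ι M8.ga, c.ι_NN _⟩
    have hfix : c.π (g0⁻¹ * a0 * g0) (c.el 2) = c.el 2 := by
      refine Subtype.ext ?_
      show g⁻¹ * c.ι M8.ga * g * c.ι M8.z * (g⁻¹ * c.ι M8.ga * g)⁻¹ = c.ι M8.z
      have hab : c.ι M8.ga * c.ι M8.gb = c.ι M8.gb * c.ι M8.ga := by
        rw [← map_mul, ← map_mul]; exact congrArg _ (by decide)
      rw [show g⁻¹ * c.ι M8.ga * g * c.ι M8.z * (g⁻¹ * c.ι M8.ga * g)⁻¹ =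
          g⁻¹ * (c.ι M8.ga * (g * c.ι M8.z * g⁻¹) * (c.ι M8.ga)⁻¹) * g by group, hge, hab, mul_inv_cancel_right,
        ← hge]
      group
    obtain ⟨q, i, hqi⟩ := hstab _ hfix
    have hga1 : c.πι M8.ga ≠ 1 := fun e => by
      have := c.el_inj (c.acts_a 4 (by norm_num)).1 (by norm_num : 4 < 16)
        ((c.acts_a 4 (by norm_num)).2.symm.trans (by rw [e]; rfl))
      exact absurd this (by decide)
    have hconj : c.π (g0⁻¹ * a0 * g0) = (c.π g0)⁻¹ * c.πι M8.ga * c.π g0 := by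
      rw [map_mul, map_mul, map_inv]; rfl
    have hsq : (c.πι q * K ^ i) * (c.πι q * K ^ i) = 1 := by
      rw [← hqi, hconj, show (c.π g0)⁻¹ * c.πι M8.ga * c.π g0 * ((c.π g0)⁻¹ * c.πι M8.ga * c.π g0) =
        (c.π g0)⁻¹ * (c.πι M8.ga * c.πι M8.ga) * c.π g0 by group, c.πι_sq]
      group
    -- the exponent of `K` is trivial
    have hKi : K ^ i = 1 := by
      have hKq : ∀ (j : ℕ) (p : M8), ∃ p', K ^ j * c.πι p = c.πι p' * K ^ j := by
        have h1 : ∀ p : M8, ∃ p', K * c.πι p = c.πι p' * K := fun p => by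
          rcases c.πι_cases p with e | e | e | e <;> rw [e]
          · exact ⟨1, by rw [map_one, mul_one, one_mul]⟩
          · exact ⟨_, hKa⟩
          · exact ⟨_, hKf⟩
          · exact ⟨_, hKc⟩
        intro j
        induction j with
        | zero => exact fun p => ⟨p, by rw [pow_zero, one_mul, mul_one]⟩
        | succ j ih =>
          intro p
          obtain ⟨p1, e1⟩ := h1 p
          obtain ⟨p2, e2⟩ := ih p1
          exact ⟨p2, by rw [pow_succ, mul_assoc, e1, ← mul_assoc, e2, mul_assoc]⟩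
      obtain ⟨q', hq'⟩ := hKq i q
      have h2 : c.πι (q * q') * (K ^ i * K ^ i) = 1 := by
        rw [map_mul, ← hsq]
        calc c.πι q * c.πι q' * (K ^ i * K ^ i) = c.πι q * (c.πι q' * K ^ i) * K ^ i := by simp only [mul_assoc]
          _ = _ := by rw [← hq']; simp only [mul_assoc]
      have h4 : (K ^ i * K ^ i) * (K ^ i * K ^ i) = 1 := by
        have e : K ^ i * K ^ i = (c.πι (q * q'))⁻¹ := eq_inv_of_mul_eq_one_right h2
        rw [e, ← mul_inv_rev, c.πι_sq, inv_one]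
      have hK3' : K ^ 3 = 1 := by rw [pow_succ, pow_succ, pow_one, hK3]
      rw [← pow_add, ← pow_add] at h4
      have e := pow_mul K 3 i
      rw [hK3', one_pow] at e
      rw [show i + i + (i + i) = 3 * i + i by omega, pow_add, e, one_mul] at h4
      exact h4
    rw [hKi, mul_one] at hqi
    -- adjust to commute with `ga`
    have hq1 : c.πι q ≠ 1 := fun e => hga1 (by
      rw [hconj, e] at hqi
      calc c.πι M8.ga = c.π g0 * ((c.π g0)⁻¹ * c.πι M8.ga * c.π g0) * (c.π g0)⁻¹ := by group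
        _ = 1 := by rw [hqi, mul_one, mul_inv_cancel])
    obtain ⟨j, hj⟩ : ∃ j : ℕ, K ^ j * c.πι M8.ga = c.πι q * K ^ j := by
      rcases (c.πι_cases q).resolve_left hq1 with e | e | e <;> rw [e]
      · exact ⟨0, by rw [pow_zero, one_mul, mul_one]⟩
      · exact ⟨1, by rw [pow_one, hKa]⟩
      · exact ⟨2, by rw [pow_two, mul_assoc, hKa, ← mul_assoc, hKf, mul_assoc]⟩
    set y := c.π (g0 * (N0 ^ 4) ^ j) with hy
    have hy' : y = c.π g0 * K ^ j := by rw [hy, map_mul, map_pow, map_pow]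
    have hyc : y * c.πι M8.ga = c.πι M8.ga * y := by
      have hgq : c.π g0 * c.πι q = c.πι M8.ga * c.π g0 := by rw [← hqi, hconj]; group
      rw [hy', mul_assoc, hj, ← mul_assoc, hgq, mul_assoc]
    obtain ⟨s, hs⟩ := c.exists_acts y
    have hsq' : s = Col.qa s.x2 s.x3 := hs.eq_qa c hyc
    obtain ⟨-, -, k2, k3⟩ := hs.col_lt c
    have hs2 : s.app 2 = 1 := c.el_inj (hs 2 (by norm_num)).1 (by norm_num) ((hs 2 (by norm_num)).2.symm.trans (by
      rw [hy', MulAut.mul_apply, hK, ← pow_mul, hxz]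
      exact Subtype.ext (show g * c.ι M8.z * g⁻¹ = c.ι M8.gb from hge)))
    rw [hsq'] at hs hs2
    rw [hmq] at hm hmK
    obtain ⟨w, -, hw4, b, hb, hw2⟩ := Col.four_word ⟨_, k2⟩ ⟨_, k3⟩ hs2 (hs.inj c) ⟨_, l2⟩ ⟨_, l3⟩ hmK
    -- the word in the automizer
    have hword : ∀ l : List (Fin 6), ∃ e : c.NN, ∀ v < 16, Col.word (Col.qa s.x2 s.x3) (Col.qk m.x2 m.x3) l v < 16 ∧
        c.π e (c.el v) = c.el (Col.word (Col.qa s.x2 s.x3) (Col.qk m.x2 m.x3) l v) := by
      intro l
      induction l with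
      | nil => exact ⟨1, fun v hv => ⟨hv, by rw [map_one]; rfl⟩⟩
      | cons d l ih =>
        obtain ⟨e, he⟩ := ih
        have step : ∀ (e' : c.NN) (m' : Col), c.Acts (c.π e') m' → ∀ v < 16,
            m'.app (Col.word (Col.qa s.x2 s.x3) (Col.qk m.x2 m.x3) l v) < 16 ∧ c.π (e' * e) (c.el v) =
              c.el (m'.app (Col.word (Col.qa s.x2 s.x3) (Col.qk m.x2 m.x3) l v)) := fun e' m' he' v hv => by
          obtain ⟨h1, h2⟩ := he v hv
          exact ⟨(he' _ h1).1, by rw [map_mul, MulAut.mul_apply, h2]; exact (he' _ h1).2⟩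
        have step2 : ∀ (e' : c.NN) (m' : Col), c.Acts (c.π e') m' → ∀ v < 16,
            m'.app (m'.app (Col.word (Col.qa s.x2 s.x3) (Col.qk m.x2 m.x3) l v)) < 16 ∧ c.π (e' * (e' * e)) (c.el v) =
              c.el (m'.app (m'.app (Col.word (Col.qa s.x2 s.x3) (Col.qk m.x2 m.x3) l v))) := fun e' m' he' v hv => by
          obtain ⟨h1, h2⟩ := step e' m' he' v hv
          exact ⟨(he' _ h1).1, by rw [map_mul _ e', MulAut.mul_apply, h2]; exact (he' _ h1).2⟩
        rw [hy] at hs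
        rw [hKn] at hm
        fin_cases d
        · exact ⟨_, step ⟨c.ι M8.ga, c.ι_NN _⟩ _ c.acts_a⟩
        · exact ⟨_, step ⟨c.ι M8.gf, c.ι_NN _⟩ _ c.acts_f⟩
        · exact ⟨_, step _ _ hs⟩
        · exact ⟨_, step2 _ _ hs⟩
        · exact ⟨_, step _ _ hm⟩
        · exact ⟨_, step2 _ _ hm⟩
    obtain ⟨e, he⟩ := hword w
    have hpow : ∀ (k : ℕ) (l : List (Fin 6)), l = (List.replicate k w).flatten → ∀ v < 16,
        (c.π e ^ k) (c.el v) = c.el (Col.word (Col.qa s.x2 s.x3) (Col.qk m.x2 m.x3) l v) ∧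
          Col.word (Col.qa s.x2 s.x3) (Col.qk m.x2 m.x3) l v < 16 := by
      have happ : ∀ (l l' : List (Fin 6)) v, Col.word (Col.qa s.x2 s.x3) (Col.qk m.x2 m.x3) (l ++ l') v =
          Col.word (Col.qa s.x2 s.x3) (Col.qk m.x2 m.x3) l (Col.word (Col.qa s.x2 s.x3) (Col.qk m.x2 m.x3) l' v) := by
        intro l l' v
        induction l with
        | nil => rfl
        | cons d l ih => fin_cases d <;> simp only [List.cons_append, Col.word, ih]
      intro k
      induction k with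
      | zero => rintro _ rfl v hv; exact ⟨by rw [pow_zero]; rfl, hv⟩
      | succ k ih =>
        rintro _ rfl v hv
        obtain ⟨h1, h2⟩ := ih _ rfl v hv
        rw [List.replicate_succ, List.flatten_cons, happ]
        exact ⟨by rw [pow_succ', MulAut.mul_apply, h1]; exact (he _ h2).2, (he _ h2).1⟩
    have h4 : c.π e ^ 4 = 1 := c.ext_basis fun b hb => by
      have hb16 : b < 16 := by simp [Col.basis] at hb; omega
      rw [(hpow 4 _ rfl b hb16).1, show (List.replicate 4 w).flatten = w ++ w ++ w ++ w by simp [List.replicate],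
        hw4 b hb]
      rfl
    refine hw2 ?_
    have hb16 : b < 16 := by simp [Col.basis] at hb; omega
    obtain ⟨h1, h2⟩ := hpow 2 _ rfl b hb16
    rw [c.sq_one h4, show (List.replicate 2 w).flatten = w ++ w by simp [List.replicate]] at h1
    rw [show (List.replicate 2 w).flatten = w ++ w by simp [List.replicate]] at h2
    exact (c.el_inj hb16 h2 h1).symm
  -- the pairs are fused
  rw [hmq] at hmK
  obtain ⟨hp1, hp8⟩ := Col.k_pairs ⟨_, l2⟩ ⟨_, l3⟩ hmK
  rw [← hmq] at hp1 hp8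
  have hstep : ∀ (i i' : Fin 3) (v w : ℕ), v < 16 → w < 16 → elA v = pE i → m.app v = w →
      (elA w = pE i' ∨ elA w = M8.z * pE i') → NFused c (pE i) (pE i') := by
    intro i i' v w hv hw hvi hm' hw'
    have h : NFused c (pE i) (elA w) := by
      refine ⟨((N0 ^ 4 : c.NN) : G), (N0 ^ 4 : c.NN).2, ?_⟩
      have := congrArg Subtype.val (hm v hv).2
      rw [hKn, c.π_apply, hm', show ((c.el v : c.Ag) : G) = c.ι (elA v) from rfl, hvi] at this
      exact this
    exact c.nfused_trans h (c.nfused_symm (c.nfused_pair i' hw'))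
  have h01 : NFused c (pE 0) (pE 1) := by
    rcases hp1 with e | e <;> refine hstep 0 1 1 _ (by norm_num) (by norm_num) (by decide) e ?_
    · exact Or.inl (by decide)
    · exact Or.inr (by decide)
  have h12 : NFused c (pE 1) (pE 2) := by
    rcases hp8 with e | e <;> refine hstep 1 2 8 _ (by norm_num) (by norm_num) (by decide) e ?_
    · exact Or.inl (by decide)
    · exact Or.inr (by decide)
  have hpair : ∀ q, Pairs q → NFused c M8.gb q := by
    intro q hq
    obtain ⟨i, hi⟩ := (pairs_iff q).1 hq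
    refine c.nfused_trans ?_ (c.nfused_pair i hi)
    fin_cases i
    · exact c.nfused_refl _
    · exact h01
    · exact c.nfused_trans h01 h12
  have hnzp : ∀ q, Pairs q → ¬ ZT c q := fun q hq h => by
    obtain ⟨g, -, hg⟩ := hpair q hq
    exact hgb ((c.zt_congr hg).2 h)
  -- a class of size four contains conjugates of `z`
  obtain ⟨q0, hq0, hq01, hq0z, hq0t⟩ := hmv
  obtain ⟨k, hk⟩ : ∃ k, Four k q0 := by
    rcases class_cases q0 hq0 hq01 with e | ⟨i, e⟩ | h
    · exact absurd e hq0z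
    · exact absurd hq0t (hnzp q0 ((pairs_iff q0).2 ⟨i, e⟩))
    · exact h
  have hrk : ZT c (rep4 k) := (c.zt_four hk).1 hq0t
  have hinA : ∀ {p q : M8}, NFused c p q → M8.InA p → p ≠ 1 → M8.InA q ∧ q ≠ 1 := by
    rintro p q ⟨g, hg, e⟩ hp hp1
    obtain ⟨q', hq', e'⟩ := c.ι_conj_inA hg hp
    refine ⟨c.ι_inj (e.symm.trans e') ▸ hq', fun h1 => hp1 (c.ι_eq_one.1 (conj_eq_one_iff.1 (e.trans ?_)))⟩
    rw [h1, map_one]
  have hzt_inv : ∀ {p q : M8}, NFused c p q → (ZT c p ↔ ZT c q) := fun ⟨g, _, e⟩ => c.zt_congr e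
  have hmove : ¬ ∀ p q, NFused c p q → Pairs p → Pairs q := fun hinv =>
    hq0z (c.fix_of_pairs hinv (c.zt_fused hq0 hq0t))
  -- the other class is of the other type
  have hother : ¬ ZT c (rep4 (!k)) := fun h => hmove fun p q hpq hp => by
    obtain ⟨hqA, hq1⟩ := hinA hpq hp.1 hp.2.1
    have hq' : ¬ ZT c q := fun h' => hnzp p hp ((hzt_inv hpq).2 h')
    rcases class_cases q hqA hq1 with e | hh | ⟨k', hk'⟩
    · exact absurd (e ▸ c.zt_z) hq'
    · exact (pairs_iff q).2 hh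
    · refine absurd ((c.zt_four hk').2 ?_) hq'
      cases k <;> cases k' <;> assumption
  have hfour : ∀ q, Four (!k) q → NFused c M8.gb q := by
    obtain ⟨q1, hq1k, hq1f⟩ : ∃ q1, Four (!k) q1 ∧ NFused c M8.gb q1 := by
      by_contra hcon
      refine hmove fun p q hpq hp => ?_
      obtain ⟨hqA, hq1⟩ := hinA hpq hp.1 hp.2.1
      have hq' : ¬ ZT c q := fun h' => hnzp p hp ((hzt_inv hpq).2 h')
      rcases class_cases q hqA hq1 with e | hh | ⟨k', hk'⟩
      · exact absurd (e ▸ c.zt_z) hq'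
      · exact (pairs_iff q).2 hh
      · rcases Bool.eq_or_eq_not k' k with rfl | rfl
        · exact absurd ((c.zt_four hk').2 hrk) hq'
        · exact absurd ⟨q, hk', c.nfused_trans (hpair p hp) hpq⟩ hcon
    exact fun q hq => c.nfused_trans hq1f (c.nfused_trans (c.nfused_symm (c.nfused_four hq1k)) (c.nfused_four hq))
  refine ⟨k, ⟨fun q hq hq1 => ⟨fun h => ?_, fun h => ?_⟩, fun q hq => c.zt_fused hq.1 ((c.zt_four hq).2 hrk),
    fun q hq hq1 hqz hqk => ?_⟩⟩
  · rcases class_cases q hq hq1 with e | ⟨i, e⟩ | ⟨k', hk'⟩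
    · exact Or.inl e
    · exact absurd h (hnzp q ((pairs_iff q).2 ⟨i, e⟩))
    · rcases Bool.eq_or_eq_not k' k with rfl | rfl
      · exact Or.inr hk'
      · exact absurd ((c.zt_four hk').1 h) hother
  · rcases h with rfl | h
    · exact c.zt_z
    · exact (c.zt_four h).2 hrk
  · rcases class_cases q hq hq1 with e | ⟨i, e⟩ | ⟨k', hk'⟩
    · exact absurd e hqz
    · exact hpair q ((pairs_iff q).2 ⟨i, e⟩)
    · rcases Bool.eq_or_eq_not k' k with rfl | rfl
      · exact absurd hk' hqk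
      · exact hfour q hk'

end Cfsg.Lib.AltEightSolv
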