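import Cfsg.Agent.SpFourCent.Model

/-!
# Homomorphisms out of the model of `((SL₂(3) × SL₂(3)) ⋊ 2) / ⟨(-1,-1)⟩`

A quaternion pair `i, j` with an element `k` of order three inducing the three-cycle, together with an
involution `σ` whose conjugate triple commutes with the first one, gives a homomorphism out of the table model.
-/

set_option autoImplicit false
set_option linter.unusedSimpArgs false

namespace Cfsg.Lib.AltEightSolv

open Cfsg.Lib.SpFourCent (smul24 neg24 Trip tmul tneg M proj sect)

/-- Exponents of `z, i, j, k` of the elements of the table of `SL₂(3)`. -/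
def word24 : Fin 24 → Bool × Bool × Bool × Fin 3 :=
  ![(false, false, false, 0), (true, false, false, 0), (false, true, false, 0), (true, true, false, 0),
    (true, false, true, 2), (false, false, true, 2), (false, false, false, 1), (true, false, false, 1),
    (false, true, false, 2), (true, true, false, 2), (true, false, true, 1), (false, false, true, 1),
    (true, true, false, 1), (false, true, false, 1), (false, false, true, 0), (true, false, true, 0),
    (true, false, false, 2), (false, false, false, 2), (false, true, true, 2), (true, true, true, 2),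
    (false, true, true, 1), (true, true, true, 1), (false, true, true, 0), (true, true, true, 0)]

/-- Right multiplication by the first generator. -/
def stepI : Fin 24 → Fin 24 :=
  ![2, 3, 1, 0, 9, 8, 11, 10, 4, 5, 6, 7, 21, 20, 23, 22, 19, 18, 16, 17, 12, 13, 14, 15]

/-- Right multiplication by the generator of order three. -/
def stepW : Fin 24 → Fin 24 :=
  ![6, 7, 13, 12, 15, 14, 17, 16, 2, 3, 4, 5, 9, 8, 11, 10, 1, 0, 22, 23, 18, 19, 20, 21]

theorem step_spec : ∀ a : Fin 24, stepI a = smul24 a 2 ∧ stepW a = smul24 a 6 := by decide +kernel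

/-- A word in the two generators for each element (`true` for the element of order three). -/
def rep24 : Fin 24 → List Bool :=
  ![[], [false, false], [false], [false, false, false], [false, true, true, false], [true, false, true], [true],
    [false, false, true], [false, true, true], [false, false, false, true, true], [false, false, true, false],
    [true, false], [false, false, false, true], [false, true], [true, false, true, true],
    [false, true, true, false, true], [false, false, true, true], [true, true], [true, true, false],
    [false, false, true, true, false], [false, true, false], [false, false, false, true, false],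
    [true, true, false, true], [true, false, true, true, false]]

/-- The product of a word, applied on the right. -/
def run24 (a : Fin 24) (w : List Bool) : Fin 24 :=
  w.foldl (fun c g => smul24 c (cond g 6 2)) a

theorem rep24_spec : ∀ b : Fin 24, run24 0 (rep24 b) = b := by decide +kernel

theorem run24_mul : ∀ (w : List Bool) (a c : Fin 24), smul24 a (run24 c w) = run24 (smul24 a c) w := by
  intro w
  induction w with
  | nil => intro a c; rfl
  | cons g w ih =>
    intro a c
    show smul24 a (run24 (smul24 c (cond g 6 2)) w) = run24 (smul24 (smul24 a c) (cond g 6 2)) w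
    rw [ih, Cfsg.Lib.SpFourCent.smul24_assoc]

theorem smul24_zero : ∀ a : Fin 24, smul24 a 0 = a ∧ smul24 1 a = neg24 a := by decide +kernel

universe u

variable {H : Type u} [Group H]

/-- A quaternion pair with a three-cycle. -/
structure Trio (H : Type u) [Group H] where
  /-- the central involution -/
  z : H
  /-- the first generator of the quaternion group -/
  i : H
  /-- the second generator -/
  j : H
  /-- the element of order three -/
  k : H
  zc : ∀ x : H, x * z = z * x
  zz : z * z = 1
  ii : i * i = z
  jj : j * j = z
  ji : j * i = z * (i * j)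
  kk : k * (k * k) = 1
  ki : k * i = j * k
  kj : k * j = i * (j * k)

namespace Trio

variable (T : Trio H)

/-- The element with a given code. -/
def val (a : Fin 24) : H :=
  cond (word24 a).1 T.z 1 * cond (word24 a).2.1 T.i 1 * cond (word24 a).2.2.1 T.j 1 * T.k ^ (word24 a).2.2.2.val

theorem val_stepI : ∀ a : Fin 24, T.val (stepI a) = T.val a * T.i := by
  have zl : ∀ x y : H, x * (T.z * y) = T.z * (x * y) := fun x y => by rw [← mul_assoc, T.zc, mul_assoc]
  have z2 : ∀ y : H, T.z * (T.z * y) = y := fun y => by rw [← mul_assoc, T.zz, one_mul]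
  have i2 : ∀ y : H, T.i * (T.i * y) = T.z * y := fun y => by rw [← mul_assoc, T.ii]
  have j2 : ∀ y : H, T.j * (T.j * y) = T.z * y := fun y => by rw [← mul_assoc, T.jj]
  have ji' : ∀ y : H, T.j * (T.i * y) = T.z * (T.i * (T.j * y)) := fun y => by
    rw [← mul_assoc, T.ji, mul_assoc, mul_assoc]
  have ki' : ∀ y : H, T.k * (T.i * y) = T.j * (T.k * y) := fun y => by rw [← mul_assoc, T.ki, mul_assoc]
  have kj' : ∀ y : H, T.k * (T.j * y) = T.i * (T.j * (T.k * y)) := fun y => by
    rw [← mul_assoc, T.kj, mul_assoc, mul_assoc]
  intro a
  fin_cases a <;>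
    simp [val, word24, stepI, pow_succ, mul_assoc, zl, z2, i2, j2, ji', ki', kj', T.ii, T.jj, T.zz, T.ji, T.ki,
      T.kj, T.zc T.i, T.zc T.j, T.zc T.k]

theorem val_stepW : ∀ a : Fin 24, T.val (stepW a) = T.val a * T.k := by
  intro a
  fin_cases a <;> simp [val, word24, stepW, pow_succ, mul_assoc, T.kk]

theorem val_zero : T.val 0 = 1 := by simp [val, word24]

theorem val_one : T.val 1 = T.z := by simp [val, word24]

theorem val_two : T.val 2 = T.i := by simp [val, word24]

theorem val_six : T.val 6 = T.k := by simp [val, word24]

theorem val_fourteen : T.val 14 = T.j := by simp [val, word24]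

theorem val_run : ∀ (w : List Bool) (a : Fin 24),
    T.val (run24 a w) = T.val a * (w.map fun g => cond g T.k T.i).prod := by
  intro w
  induction w with
  | nil => intro a; simp [run24]
  | cons g w ih =>
    intro a
    show T.val (run24 (smul24 a (cond g 6 2)) w) = _
    rw [ih, List.map_cons, List.prod_cons, ← mul_assoc]
    congr 1
    cases g
    · show T.val (smul24 a 2) = T.val a * T.i
      rw [← (step_spec a).1, T.val_stepI]
    · show T.val (smul24 a 6) = T.val a * T.k
      rw [← (step_spec a).2, T.val_stepW]

theorem val_mul (a b : Fin 24) : T.val (smul24 a b) = T.val a * T.val b := by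
  have hb : T.val b = ((rep24 b).map fun g => cond g T.k T.i).prod := by
    conv_lhs => rw [← rep24_spec b, T.val_run, T.val_zero, one_mul]
  conv_lhs => rw [← rep24_spec b, run24_mul, (smul24_zero a).1, T.val_run]
  rw [hb]

theorem val_neg (a : Fin 24) : T.val (neg24 a) = T.z * T.val a := by
  rw [← (smul24_zero a).2, T.val_mul, T.val_one]

/-- An element commuting with the three generators commutes with every value. -/
theorem val_commute {y : H} (hi : Commute y T.i) (hk : Commute y T.k) (a : Fin 24) : Commute y (T.val a) := by
  have e : T.val a = ((rep24 a).map fun g => cond g T.k T.i).prod := by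
    conv_lhs => rw [← rep24_spec a, T.val_run, T.val_zero, one_mul]
  rw [e]
  refine Commute.list_prod_right _ _ fun x hx => ?_
  obtain ⟨g, -, rfl⟩ := List.mem_map.1 hx
  cases g <;> assumption

end Trio

/-- A triple together with the involution exchanging it with a commuting one. -/
structure Twin (H : Type u) [Group H] extends Trio H where
  /-- the exchanging involution -/
  s : H
  ss : s * s = 1
  cii : Commute i (s * i * s)
  cik : Commute i (s * k * s)
  cki : Commute k (s * i * s)
  ckk : Commute k (s * k * s)

namespace Twin

variable (T : Twin H)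

theorem val_comm (a b : Fin 24) : Commute (T.val a) (T.s * T.val b * T.s) := by
  refine (T.val_commute ?_ ?_ a).symm
  · have h : ∀ y, Commute T.i (T.s * y * T.s) → Commute (T.s * T.i * T.s) y := fun y hy => by
      have := congrArg (fun w => T.s * w * T.s) hy.eq
      simp only [mul_assoc, ← mul_assoc T.s T.s, T.ss, one_mul, mul_one] at this
      simp only [Commute, SemiconjBy, mul_assoc]
      exact this
    have := T.val_commute (h _ T.cii) (h _ T.cik) b
    have h2 := congrArg (fun w => T.s * w * T.s) this.eq
    simp only [mul_assoc, ← mul_assoc T.s T.s, T.ss, one_mul, mul_one] at h2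
    simp only [Commute, SemiconjBy, mul_assoc]
    exact h2.symm
  · have h : ∀ y, Commute T.k (T.s * y * T.s) → Commute (T.s * T.k * T.s) y := fun y hy => by
      have := congrArg (fun w => T.s * w * T.s) hy.eq
      simp only [mul_assoc, ← mul_assoc T.s T.s, T.ss, one_mul, mul_one] at this
      simp only [Commute, SemiconjBy, mul_assoc]
      exact this
    have := T.val_commute (h _ T.cki) (h _ T.ckk) b
    have h2 := congrArg (fun w => T.s * w * T.s) this.eq
    simp only [mul_assoc, ← mul_assoc T.s T.s, T.ss, one_mul, mul_one] at h2
    simp only [Commute, SemiconjBy, mul_assoc]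
    exact h2.symm

/-- The value of a triple of codes. -/
def tval (u : Trip) : H := T.val u.1 * (T.s * T.val u.2.1 * T.s) * cond u.2.2 T.s 1

theorem tval_tmul (u v : Trip) : T.tval (tmul u v) = T.tval u * T.tval v := by
  obtain ⟨a, b, p⟩ := u
  obtain ⟨c, d, r⟩ := v
  have ss' : ∀ y : H, T.s * (T.s * y) = y := fun y => by rw [← mul_assoc, T.ss, one_mul]
  cases p
  · show T.val (smul24 a c) * (T.s * T.val (smul24 b d) * T.s) * cond r T.s 1 =
      T.val a * (T.s * T.val b * T.s) * 1 * (T.val c * (T.s * T.val d * T.s) * cond r T.s 1)
    have h := (T.val_comm c b).eq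
    rw [T.val_mul, T.val_mul, mul_one]
    calc T.val a * T.val c * (T.s * (T.val b * T.val d) * T.s) * cond r T.s 1
        = T.val a * (T.val c * (T.s * T.val b * T.s)) * (T.s * T.val d * T.s) * cond r T.s 1 := by
          simp only [mul_assoc, ss']
      _ = T.val a * ((T.s * T.val b * T.s) * T.val c) * (T.s * T.val d * T.s) * cond r T.s 1 := by rw [h]
      _ = _ := by simp only [mul_assoc]
  · show T.val (smul24 a d) * (T.s * T.val (smul24 b c) * T.s) * cond (!r) T.s 1 =
      T.val a * (T.s * T.val b * T.s) * T.s * (T.val c * (T.s * T.val d * T.s) * cond r T.s 1)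
    have h := (T.val_comm d (smul24 b c)).eq
    rw [T.val_mul]
    calc T.val a * T.val d * (T.s * T.val (smul24 b c) * T.s) * cond (!r) T.s 1
        = T.val a * (T.val d * (T.s * T.val (smul24 b c) * T.s)) * cond (!r) T.s 1 := by simp only [mul_assoc]
      _ = T.val a * ((T.s * T.val (smul24 b c) * T.s) * T.val d) * cond (!r) T.s 1 := by rw [h]
      _ = _ := by
          rw [T.val_mul]
          cases r <;> simp [mul_assoc, ss', T.ss]

theorem tval_neg (u : Trip) : T.tval (tneg u) = T.tval u := by
  obtain ⟨a, b, p⟩ := u
  have z2 : ∀ y : H, T.z * (T.z * y) = y := fun y => by rw [← mul_assoc, T.zz, one_mul]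
  have zl : ∀ x y : H, x * (T.z * y) = T.z * (x * y) := fun x y => by rw [← mul_assoc, T.zc, mul_assoc]
  show T.val (neg24 a) * (T.s * T.val (neg24 b) * T.s) * cond p T.s 1 = T.val a * (T.s * T.val b * T.s) * cond p T.s 1
  simp only [T.val_neg, mul_assoc, zl, z2]

theorem tval_sect (u : Trip) : T.tval (sect (proj u)) = T.tval u := by
  rcases Cfsg.Lib.SpFourCent.sect_proj u with h | h <;> rw [h]
  exact T.tval_neg u

/-- The homomorphism out of the model. -/
def hom : M →* H :=
  MonoidHom.mk' (fun x => T.tval (sect x)) fun x y => by
    show T.tval (sect (proj (tmul (sect x) (sect y)))) = _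
    rw [T.tval_sect, T.tval_tmul]

theorem hom_proj (u : Trip) : T.hom (proj u) = T.tval u := T.tval_sect u

theorem mem_range_i : T.i ∈ T.hom.range ∧ T.j ∈ T.hom.range ∧ T.k ∈ T.hom.range ∧ T.z ∈ T.hom.range ∧
    T.s ∈ T.hom.range := by
  refine ⟨⟨proj (2, 0, false), ?_⟩, ⟨proj (14, 0, false), ?_⟩, ⟨proj (6, 0, false), ?_⟩,
    ⟨proj (1, 0, false), ?_⟩, ⟨proj (0, 0, true), ?_⟩⟩ <;>
    simp [hom_proj, tval, T.val_zero, T.val_one, T.val_two, T.val_six, T.val_fourteen, T.ss]

end Twin

end Cfsg.Lib.AltEightSolv
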