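import Cfsg.Agent.AltEightSolv.Factors
import Cfsg.Agent.AltEightSolv.PSpPair
import Cfsg.Agent.SpFourCent.Instance

/-!
# The shape with nine Sylow subgroups is the centraliser of a central involution of `PSp₄(3)`

A Sylow 3-subgroup has elements fixing one quaternion factor and cycling the other, and this gives the generators
of the model.
-/

set_option autoImplicit false
set_option linter.unusedSectionVars false
set_option linter.style.haveILetI false

namespace Cfsg.Lib.AltEightSolv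

universe u

variable {H : Type u} [Group H] [Finite H] (D : LocalHyp H)

section main

open M8 (z InQ T1 T2)

/-- An element does not fix the given element of the model. -/
def x_ne (x : H) (p : M8) : Prop := x * D.ι p * x⁻¹ ≠ D.ι p

/-- The standing data for the construction. -/
structure Frame (P : Subgroup H) : Prop where
  normalQ : (M8.Q.map D.ι).Normal
  cardP : Nat.card P = 9
  cardH : Nat.card H = 576
  frattini : Subgroup.normalizer (P : Set H) ⊔ M8.Q.map D.ι = ⊤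

theorem card_of_shape (h : ShapeNine D) : Nat.card H = 576 := by
  rw [← D.ι.range.card_mul_index, h.2.1, Nat.card_congr (MonoidHom.ofInjective D.inj).toEquiv.symm, M8.card_M8]

theorem exists_frame (h : ShapeNine D) : ∃ P : Subgroup H, Frame D P := by
  haveI hQn : (M8.Q.map D.ι).Normal := h.1
  haveI : Fact (Nat.Prime 3) := ⟨Nat.prime_three⟩
  have hcard := card_of_shape D h
  obtain ⟨P⟩ : Nonempty (Sylow 3 H) := inferInstance
  have hP : Nat.card (P : Subgroup H) = 9 := by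
    rw [P.card_eq_multiplicity, hcard, show (576 : ℕ).factorization 3 = 2 by
      rw [show (576 : ℕ) = 2 ^ 6 * 3 ^ 2 by norm_num, Nat.factorization_mul (by norm_num) (by norm_num),
        Finsupp.add_apply, Nat.Prime.factorization_pow Nat.prime_two, Nat.Prime.factorization_pow Nat.prime_three]
      simp]
    norm_num
  have hcQ : Nat.card (M8.Q.map D.ι) = 32 := by
    rw [Subgroup.card_map_of_injective D.inj]
    exact (Nat.card_eq_fintype_card (α := {q : M8 // InQ q})).trans M8.card_Q_elts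
  have hcq : Nat.card (H ⧸ M8.Q.map D.ι) = 18 := by
    have := (M8.Q.map D.ι).card_eq_card_quotient_mul_card_subgroup
    rw [hcard, hcQ] at this
    omega
  set f := QuotientGroup.mk' (M8.Q.map D.ι)
  have hker : (P : Subgroup H) ⊓ f.ker = ⊥ := by
    rw [QuotientGroup.ker_mk']
    exact Subgroup.inf_eq_bot_of_coprime (by rw [hcQ, hP]; norm_num)
  have hmap : Nat.card ((P : Subgroup H).map f) = 9 := by
    rw [← hP]
    refine (Nat.card_congr (Equiv.ofBijective (fun x : (P : Subgroup H) =>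
      (⟨f x, Subgroup.mem_map_of_mem f x.2⟩ : (P : Subgroup H).map f)) ⟨fun a b e => ?_, ?_⟩)).symm
    · have e' : f a = f b := congrArg Subtype.val e
      have : (a : H)⁻¹ * b ∈ (P : Subgroup H) ⊓ f.ker :=
        Subgroup.mem_inf.2 ⟨mul_mem (inv_mem a.2) b.2, by rw [MonoidHom.mem_ker, map_mul, map_inv, e', inv_mul_cancel]⟩
      rw [hker, Subgroup.mem_bot, inv_mul_eq_one] at this
      exact Subtype.ext this
    · rintro ⟨_, x, hx, rfl⟩
      exact ⟨⟨x, hx⟩, rfl⟩
  set K : Subgroup H := ((P : Subgroup H).map f).comap f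
  haveI hKn : K.Normal := by
    refine Subgroup.normal_of_index_eq_two ?_
    rw [Subgroup.index_comap_of_surjective _ (QuotientGroup.mk'_surjective _)]
    have := ((P : Subgroup H).map f).card_mul_index
    rw [hmap, hcq] at this
    omega
  refine ⟨(P : Subgroup H), hQn, hP, hcard, ?_⟩
  have hfrat := Sylow.normalizer_sup_eq_top' P (Subgroup.le_comap_map f _ : (P : Subgroup H) ≤ K)
  rw [← top_le_iff, ← hfrat]
  refine sup_le le_sup_left ?_
  rw [Subgroup.comap_map_eq, QuotientGroup.ker_mk']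
  exact sup_le (Subgroup.le_normalizer.trans le_sup_left) le_sup_right

variable {D} {P : Subgroup H} (F : Frame D P)

include F

theorem Frame.pow_nine {x : H} (hx : x ∈ P) : x ^ 9 = 1 := by
  have h := pow_card_eq_one' (G := P) (x := ⟨x, hx⟩)
  rw [F.cardP] at h
  exact congrArg Subtype.val h

theorem Frame.odd {x : H} (hx : x ∈ P) : Odd (orderOf x) :=
  (show Odd 9 by decide).of_dvd_nat (orderOf_dvd_of_pow_eq_one (F.pow_nine hx))

theorem Frame.comm {x y : H} (hx : x ∈ P) (hy : y ∈ P) : x * y = y * x := by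
  haveI : Fact (Nat.Prime 3) := ⟨Nat.prime_three⟩
  have h : Nat.card P = 3 ^ 2 := F.cardP
  exact congrArg Subtype.val (IsPGroup.commutative_of_card_eq_prime_sq h (⟨x, hx⟩ : P) ⟨y, hy⟩)

theorem Frame.mem_prod (g : H) : ∃ n ∈ Subgroup.normalizer (P : Set H), ∃ m ∈ M8.Q.map D.ι, n * m = g := by
  haveI := F.normalQ
  have : g ∈ ((Subgroup.normalizer (P : Set H) ⊔ M8.Q.map D.ι : Subgroup H) : Set H) := by
    rw [F.frattini]; trivial
  rwa [Subgroup.mul_normal] at this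

/-- Only the identity of the Sylow 3-subgroup centralises both factors. -/
theorem Frame.faithful {x : H} (hx : x ∈ P) (h1 : ∀ q, T1 q → x * D.ι q = D.ι q * x)
    (h2 : ∀ q, T2 q → x * D.ι q = D.ι q * x) : x = 1 := by
  haveI := F.normalQ
  set C := Subgroup.centralizer ((M8.Q.map D.ι : Subgroup H) : Set H)
  have hxC : x ∈ C := by
    refine Subgroup.mem_centralizer_iff.2 ?_
    rintro _ ⟨q, hq, rfl⟩
    rcases M8.Q_gen q hq with e | e | e | e | ⟨a, b, ha, hb, e⟩
    · rw [e, map_one, one_mul, mul_one]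
    · rw [e]; exact (D.iz_comm x).symm
    · exact (h1 q e).symm
    · exact (h2 q e).symm
    · rw [e, map_mul, mul_assoc, ← h2 b hb, ← mul_assoc, ← h1 a ha, mul_assoc]
  haveI : C.Normal := Subgroup.normal_centralizer
  have hXn : (P ⊓ C).Normal := ⟨fun y hy g => by
    obtain ⟨n, hn, m, hm, rfl⟩ := F.mem_prod g
    have hmy : m * y * m⁻¹ = y := by rw [Subgroup.mem_centralizer_iff.1 hy.2 m hm, mul_inv_cancel_right]
    rw [show n * m * y * (n * m)⁻¹ = n * (m * y * m⁻¹) * n⁻¹ by group, hmy]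
    exact ⟨(Subgroup.mem_normalizer_iff.1 hn y).1 hy.1, Subgroup.Normal.conj_mem inferInstance y hy.2 n⟩⟩
  have hodd : (Nat.card (P ⊓ C : Subgroup H)).Coprime 2 :=
    Nat.Coprime.coprime_dvd_left (Subgroup.card_dvd_of_le inf_le_left) (by rw [F.cardP]; norm_num)
  have hle : P ⊓ C ≤ Cfsg.oddCore H := le_sSup ⟨hXn, hodd⟩
  rw [D.core] at hle
  exact hle ⟨hx, hxC⟩

/-- A nontrivial element centralising a given factor. -/
theorem Frame.exists_cent {T : M8 → Prop} [DecidablePred T] (hT : Factor T)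
    (hk : ∀ x : H, Odd (orderOf x) → Keeps D T x) (hcard : Fintype.card {q : M8 // T q} = 6) {p : M8} (hp : T p) :
    ∃ x ∈ P, x ≠ 1 ∧ ∀ r, T r → x * D.ι r = D.ι r * x := by
  choose f hf hf' using fun x : P => hk (x : H) (F.odd x.2) p hp
  obtain ⟨a, b, hab, e⟩ : ∃ a b : P, a ≠ b ∧ f a = f b := by
    by_contra hne
    push_neg at hne
    have hinj : Function.Injective fun x : P => (⟨f x, hf x⟩ : {q : M8 // T q}) := fun a b e => by
      by_contra hab; exact hne a b hab (congrArg Subtype.val e)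
    have := Nat.card_le_card_of_injective _ hinj
    rw [F.cardP, Nat.card_eq_fintype_card, hcard] at this
    omega
  refine ⟨(b : H)⁻¹ * a, mul_mem (inv_mem b.2) a.2, fun h => hab (Subtype.ext (inv_mul_eq_one.1 h).symm), ?_⟩
  have h9 := F.odd (mul_mem (inv_mem b.2) a.2 : (b : H)⁻¹ * a ∈ P)
  refine cent_of_fix D hT h9 (hk _ h9) (hk _ (odd_order_sq h9)) hp ?_
  have h1 := hf' a
  rw [e, hf' b] at h1
  rw [← mul_inv_eq_iff_eq_mul, show (b : H)⁻¹ * a * D.ι p * ((b : H)⁻¹ * a)⁻¹ =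
    (b : H)⁻¹ * ((a : H) * D.ι p * (a : H)⁻¹) * b by group, ← h1]
  group

/-- An element centralising the second factor and moving every class of the first. -/
theorem Frame.exists_k : ∃ x ∈ P, x ≠ 1 ∧ ∀ r, T2 r → x * D.ι r = D.ι r * x :=
  F.exists_cent factor_T2 (fun _ h => (keeps_of_odd D F.normalQ h).2) M8.card_T.2 M8.T1_base.2.2.1

theorem Frame.exists_k' : ∃ x ∈ P, x ≠ 1 ∧ ∀ r, T1 r → x * D.ι r = D.ι r * x :=
  F.exists_cent factor_T1 (fun _ h => (keeps_of_odd D F.normalQ h).1) M8.card_T.1 M8.T1_base.1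

/-- An element centralising one factor fixes no class of the other. -/
theorem Frame.moves {T T' : M8 → Prop} (hT : Factor T) (hk : ∀ x : H, Odd (orderOf x) → Keeps D T x)
    (hboth : ∀ x ∈ P, (∀ r, T r → x * D.ι r = D.ι r * x) → (∀ r, T' r → x * D.ι r = D.ι r * x) → x = 1)
    {x : H} (hx : x ∈ P) (hx1 : x ≠ 1) (hc : ∀ r, T' r → x * D.ι r = D.ι r * x) {p : M8} (hp : T p) :
    x * D.ι p * x⁻¹ ≠ D.ι p ∧ x * D.ι p * x⁻¹ ≠ D.ι (p * z) := by
  have h9 := F.odd hx
  have h9' : Odd (orderOf (x * x)) := F.odd (mul_mem hx hx)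
  have key : ¬ (x * D.ι p * x⁻¹ = D.ι p ∨ x * D.ι p * x⁻¹ = D.ι (p * z)) := fun h =>
    hx1 (hboth x hx (cent_of_fix D hT h9 (hk x h9) (hk _ h9') hp (fix_of_class D h9 h)) hc)
  exact not_or.1 key

/-- An involution outside `Q` normalising the Sylow 3-subgroup. -/
theorem Frame.exists_outer : ∃ s : M8, s.d = true ∧ s * s = 1 ∧ D.ι s ∈ Subgroup.normalizer (P : Set H) := by
  haveI := F.normalQ
  obtain ⟨n, hn, m, hm, hnm⟩ := F.mem_prod (D.ι M8.gd)
  obtain ⟨m0, hm0, rfl⟩ := Subgroup.mem_map.1 hm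
  have hsd : (M8.gd * m0⁻¹).d = true := by
    have : ∀ m : M8, InQ m → (M8.gd * m⁻¹).d = true := by decide +kernel
    exact this m0 hm0
  have hn' : D.ι (M8.gd * m0⁻¹) = n := by rw [map_mul, map_inv, ← hnm, mul_inv_cancel_right]
  set s : M8 := M8.gd * m0⁻¹
  refine ⟨s, hsd, M8.outer_invol s hsd ?_, hn' ▸ hn⟩
  have hu : InQ (s * s) := M8.outer_mul s s hsd hsd
  have hun : D.ι (s * s) ∈ Subgroup.normalizer (P : Set H) := by rw [map_mul, hn']; exact mul_mem hn hn
  have hcx : ∀ x ∈ P, x * D.ι (s * s) = D.ι (s * s) * x := by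
    intro x hx
    have h1 : D.ι (s * s) * x * (D.ι (s * s))⁻¹ * x⁻¹ ∈ P :=
      mul_mem ((Subgroup.mem_normalizer_iff.1 hun x).1 hx) (inv_mem hx)
    have h2 : D.ι (s * s) * x * (D.ι (s * s))⁻¹ * x⁻¹ ∈ M8.Q.map D.ι := by
      have hq' : D.ι (s * s) ∈ M8.Q.map D.ι := Subgroup.mem_map_of_mem D.ι hu
      rw [show D.ι (s * s) * x * (D.ι (s * s))⁻¹ * x⁻¹ = D.ι (s * s) * (x * (D.ι (s * s))⁻¹ * x⁻¹) by group]
      exact mul_mem hq' (F.normalQ.conj_mem _ (inv_mem hq') x)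
    have h3 : D.ι (s * s) * x * (D.ι (s * s))⁻¹ * x⁻¹ ∈ P ⊓ M8.Q.map D.ι := ⟨h1, h2⟩
    rw [Subgroup.inf_eq_bot_of_coprime (by
      rw [F.cardP, Subgroup.card_map_of_injective D.inj,
        show Nat.card M8.Q = 32 from (Nat.card_eq_fintype_card (α := {q : M8 // InQ q})).trans M8.card_Q_elts]
      norm_num), Subgroup.mem_bot, mul_inv_eq_one, mul_inv_eq_iff_eq_mul] at h3
    exact h3.symm
  obtain ⟨k, hkP, hk1, hkc⟩ := F.exists_k
  obtain ⟨l, hlP, hl1, hlc⟩ := F.exists_k'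
  have b1 : ∀ {p}, T1 p → x_ne D k p := fun {p} hp =>
    (F.moves factor_T1 (fun _ h => (keeps_of_odd D F.normalQ h).1) (fun x hx a b => F.faithful hx a b) hkP hk1 hkc hp).1
  have b2 : ∀ {p}, T2 p → x_ne D l p := fun {p} hp =>
    (F.moves factor_T2 (fun _ h => (keeps_of_odd D F.normalQ h).2) (fun x hx a b => F.faithful hx b a) hlP hl1 hlc hp).1
  rcases M8.Q_gen _ hu with e | e | e | e | ⟨a, b, ha, hb, e⟩
  · exact Or.inl e
  · exact Or.inr e
  · exact absurd (mul_inv_eq_iff_eq_mul.2 (hcx k hkP)) (b1 e)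
  · exact absurd (mul_inv_eq_iff_eq_mul.2 (hcx l hlP)) (b2 e)
  · have h1 := hcx k hkP
    rw [e, map_mul] at h1
    refine absurd (mul_inv_eq_iff_eq_mul.2 ?_) (b1 ha)
    apply mul_right_cancel (b := D.ι b)
    rw [mul_assoc (D.ι a), hkc b hb, ← mul_assoc, ← h1, mul_assoc]

theorem Frame.iso_model : Nonempty (Cfsg.Lib.SpFourCent.M ≃* H) := by
  haveI := F.normalQ
  obtain ⟨s, hsd, hss, hsN⟩ := F.exists_outer
  obtain ⟨k0, hk0P, hk01, hk0c⟩ := F.exists_k
  have hmove : ∀ x ∈ P, x ≠ 1 → (∀ r, T2 r → x * D.ι r = D.ι r * x) → ∀ p, T1 p →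
      x * D.ι p * x⁻¹ ≠ D.ι p ∧ x * D.ι p * x⁻¹ ≠ D.ι (p * z) := fun x hx hx1 hc p hp =>
    F.moves factor_T1 (fun _ h => (keeps_of_odd D F.normalQ h).1) (fun x hx a b => F.faithful hx a b) hx hx1 hc hp
  set p0 : M8 := M8.ga * M8.ge
  have hp0 : T1 p0 := M8.T1_base.1
  obtain ⟨q0, hq0, eq0⟩ := (keeps_of_odd D F.normalQ (F.odd hk0P)).1 p0 hp0
  obtain ⟨l0, hl0, el0⟩ := (keeps_of_odd D F.normalQ (F.odd hk0P)).1 q0 hq0
  obtain ⟨hm1, hm2⟩ := hmove k0 hk0P hk01 hk0c p0 hp0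
  obtain ⟨hn1, hn2⟩ := hmove k0 hk0P hk01 hk0c q0 hq0
  have hkk : k0 * k0 ≠ 1 := fun e => hk01 (by
    have h := F.pow_nine hk0P
    rwa [pow_succ, show (8 : ℕ) = 2 * 4 by rfl, pow_mul, pow_two, e, one_pow, one_mul] at h)
  obtain ⟨ho1, ho2⟩ := hmove (k0 * k0) (mul_mem hk0P hk0P) hkk
    (fun r hr => (Commute.mul_left (hk0c r hr) (hk0c r hr)).eq) p0 hp0
  have hl0' : D.ι l0 = k0 * k0 * D.ι p0 * (k0 * k0)⁻¹ := by rw [el0, eq0]; group
  have hqne : q0 ≠ p0 ∧ q0 ≠ p0 * z :=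
    ⟨fun e => hm1 (by rw [← eq0, e]), fun e => hm2 (by rw [← eq0, e])⟩
  -- orientation
  obtain ⟨i, j, hi, hj, hji, hk, hk', hne⟩ : ∃ i j : M8, T1 i ∧ T1 j ∧ j * i = z * (i * j) ∧
      k0 * D.ι i * k0⁻¹ = D.ι j ∧ k0 * D.ι j * k0⁻¹ = D.ι (i * j) ∧ j ≠ i ∧ j ≠ i * z := by
    rcases M8.T1_span p0 q0 l0 hp0 hq0 hl0 hqne.1 hqne.2 with e | e | e | e | e | e
    · exact absurd (by rw [← hl0', e]) ho1
    · exact absurd (by rw [← hl0', e]) ho2
    · exact absurd (by rw [← el0, e]) hn1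
    · exact absurd (by rw [← el0, e]) hn2
    · exact ⟨p0, q0, hp0, hq0, (M8.T1_class p0 q0 hp0 hq0).2 hqne.1 hqne.2, eq0.symm, by rw [← el0, e],
        hqne.1, hqne.2⟩
    · have hz : ∀ w, k0 * D.ι (w * z) * k0⁻¹ = k0 * D.ι w * k0⁻¹ * D.ι z := fun w => by
        rw [map_mul, show k0 * (D.ι w * D.ι z) * k0⁻¹ = k0 * D.ι w * (D.ι z * k0⁻¹) by group, ← D.iz_comm]
        group
      have h1 : p0 * z * (q0 * z) = p0 * q0 := by
        rw [mul_assoc, ← mul_assoc z q0, ← M8.z_central q0, mul_assoc q0, M8.z_facts.1, mul_one]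
      have h2 : l0 * z = p0 * z * (q0 * z) := by
        rw [h1, e, M8.z_central (z * (p0 * q0)), ← mul_assoc, M8.z_facts.1, one_mul]
      have h3 : q0 * z ≠ p0 * z := fun e => hqne.1 (mul_right_cancel e)
      have h4 : q0 * z ≠ p0 * z * z := fun e => hqne.2 (by
        rw [mul_assoc, M8.z_facts.1, mul_one] at e
        rw [← e, mul_assoc, M8.z_facts.1, mul_one])
      have t1 := (M8.T1_facts p0 hp0).2.2.1
      have t2 := (M8.T1_facts q0 hq0).2.2.1
      exact ⟨p0 * z, q0 * z, t1, t2, (M8.T1_class _ _ t1 t2).2 h3 h4, by rw [hz, ← eq0, map_mul],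
        by rw [hz, ← el0, ← map_mul, h2], h3, h4⟩
  have hs2 : D.ι s * D.ι s = 1 := by rw [← map_mul, hss, map_one]
  have hsi : (D.ι s)⁻¹ = D.ι s := inv_eq_of_mul_eq_one_right hs2
  have hsw : ∀ q, T1 q → ∃ r, T2 r ∧ D.ι s * D.ι q * D.ι s = D.ι r := fun q hq =>
    ⟨s * q * s⁻¹, (M8.outer_swap s q hsd).1 hq, by rw [map_mul, map_mul, map_inv, hsi]⟩
  have hsk : ∀ q, T1 q → Commute k0 (D.ι s * D.ι q * D.ι s) := fun q hq => by
    obtain ⟨r, hr, e⟩ := hsw q hq
    rw [e]; exact hk0c r hr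
  have hskP : D.ι s * k0 * D.ι s ∈ P := by
    have := (Subgroup.mem_normalizer_iff.1 hsN k0).1 hk0P
    rwa [hsi] at this
  have hki : k0 * D.ι i = D.ι j * k0 := mul_inv_eq_iff_eq_mul.1 hk
  have hkj : k0 * D.ι j = D.ι i * (D.ι j * k0) := by
    rw [← mul_assoc, ← map_mul]; exact mul_inv_eq_iff_eq_mul.1 hk'
  have hk3 : k0 * (k0 * k0) = 1 := by
    have hjij : j * (i * j) = i := by
      rw [← mul_assoc, hji, mul_assoc, mul_assoc, (M8.T1_facts j hj).2.1, ← M8.z_central, mul_assoc,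
        M8.z_facts.1, mul_one]
    have hfix : k0 * (k0 * k0) * D.ι i * (k0 * (k0 * k0))⁻¹ = D.ι i := by
      rw [show k0 * (k0 * k0) * D.ι i * (k0 * (k0 * k0))⁻¹ =
        k0 * (k0 * (k0 * D.ι i * k0⁻¹) * k0⁻¹) * k0⁻¹ by group, hk, hk', map_mul,
        show k0 * (D.ι i * D.ι j) * k0⁻¹ = (k0 * D.ι i * k0⁻¹) * (k0 * D.ι j * k0⁻¹) by group, hk, hk', ← map_mul, hjij]
    have hkP := mul_mem hk0P (mul_mem hk0P hk0P)
    have h9 := F.odd hkP
    have h9' := F.odd (mul_mem hkP hkP)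
    refine F.faithful hkP (cent_of_fix D factor_T1 h9 (keeps_of_odd D F.normalQ h9).1
      (keeps_of_odd D F.normalQ h9').1 hi (mul_inv_eq_iff_eq_mul.1 hfix)) fun r hr => ?_
    exact (Commute.mul_left (hk0c r hr) (Commute.mul_left (hk0c r hr) (hk0c r hr))).eq
  let T : Twin H :=
    { z := D.ι z, i := D.ι i, j := D.ι j, k := k0, zc := D.iz_comm,
      zz := by rw [← map_mul, M8.z_facts.1, map_one],
      ii := by rw [← map_mul, (M8.T1_facts i hi).2.1],
      jj := by rw [← map_mul, (M8.T1_facts j hj).2.1],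
      ji := by rw [← map_mul, ← map_mul, ← map_mul, hji],
      kk := hk3, ki := hki, kj := hkj, s := D.ι s, ss := hs2,
      cii := by
        obtain ⟨r, hr, e⟩ := hsw i hi
        rw [e]
        exact (D.comm_iff i r).2 (M8.T12_comm i r hi hr)
      cik := by
        have h := congrArg (fun w => D.ι s * w * D.ι s) (hsk i hi).eq
        simp only [mul_assoc, ← mul_assoc (D.ι s) (D.ι s), hs2, one_mul, mul_one] at h
        simp only [Commute, SemiconjBy, mul_assoc]
        exact h.symm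
      cki := hsk i hi
      ckk := F.comm hk0P hskP }
  obtain ⟨ri, rj, rk, rz, rs⟩ := T.mem_range_i
  set R := T.hom.range
  have hT1 : ∀ q, T1 q → D.ι q ∈ R := fun q hq => by
    rcases M8.T1_span i j q hi hj hq hne.1 hne.2 with e | e | e | e | e | e <;> subst e <;>
      (try simp only [map_mul])
    exacts [ri, mul_mem ri rz, rj, mul_mem rj rz, mul_mem ri rj, mul_mem rz (mul_mem ri rj)]
  have hT2 : ∀ q, T2 q → D.ι q ∈ R := fun q hq => by
    have h1 := hT1 _ ((M8.outer_swap s q hsd).2 hq)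
    rw [map_mul, map_mul, map_inv, hsi] at h1
    have h2 := mul_mem (mul_mem rs h1) rs
    simp only [T, mul_assoc, ← mul_assoc (D.ι s) (D.ι s), hs2, one_mul, mul_one] at h2
    exact h2
  have hQR : ∀ q, InQ q → D.ι q ∈ R := fun q hq => by
    rcases M8.Q_gen q hq with e | e | e | e | ⟨a, b, ha, hb, e⟩
    · rw [e, map_one]; exact one_mem _
    · rw [e]; exact rz
    · exact hT1 q e
    · exact hT2 q e
    · rw [e, map_mul]; exact mul_mem (hT1 a ha) (hT2 b hb)
  have hS : D.ι.range ≤ R := by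
    rintro _ ⟨q, rfl⟩
    cases hq : q.d
    · exact hQR q hq
    · have h := mul_mem (hQR _ (M8.outer_mul q s hq hsd)) rs
      rwa [← map_mul, mul_assoc, hss, mul_one] at h
  have h64 : 64 ∣ Nat.card R := by
    have h := Subgroup.card_dvd_of_le hS
    rwa [Nat.card_congr (MonoidHom.ofInjective D.inj).toEquiv.symm, M8.card_M8] at h
  have h9 : 9 ∣ Nat.card R := by
    rcases (Nat.dvd_prime_pow Nat.prime_three).1
      (show Nat.card (P ⊓ R : Subgroup H) ∣ 3 ^ 2 from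
        (Subgroup.card_dvd_of_le inf_le_left).trans (by rw [F.cardP]; norm_num)) with ⟨m, hm, e⟩
    have kmem : k0 ∈ P ⊓ R := ⟨hk0P, rk⟩
    interval_cases m
    · rw [pow_zero, Subgroup.card_eq_one] at e
      rw [e, Subgroup.mem_bot] at kmem
      exact absurd kmem hk01
    · exfalso
      haveI : Fact (Nat.Prime 3) := ⟨Nat.prime_three⟩
      have hz : Subgroup.zpowers k0 = P ⊓ R := by
        refine Subgroup.eq_of_le_of_card_ge ((Subgroup.zpowers_le (g := k0)).2 kmem) (le_of_eq ?_)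
        rw [e, Nat.card_zpowers, orderOf_eq_prime (p := 3) (by rw [pow_succ', pow_two]; exact hk3) hk01, pow_one]
      obtain ⟨n, hn⟩ := Subgroup.mem_zpowers_iff.1
        (hz.symm ▸ (⟨hskP, mul_mem (mul_mem rs rk) rs⟩ : D.ι s * k0 * D.ι s ∈ P ⊓ R) :
          D.ι s * k0 * D.ι s ∈ Subgroup.zpowers k0)
      refine hk01 (F.faithful hk0P (fun q hq => ?_) hk0c)
      obtain ⟨r, hr, er⟩ := hsw q hq
      have h : Commute (D.ι s * k0 * D.ι s) (D.ι r) := hn ▸ Commute.zpow_left (hk0c r hr) n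
      have h' := congrArg (fun w => D.ι s * w * D.ι s) h.eq
      simp only [← er, mul_assoc, ← mul_assoc (D.ι s) (D.ι s), hs2, one_mul, mul_one] at h'
      exact h'
    · have h := Subgroup.card_dvd_of_le (inf_le_right : P ⊓ R ≤ R)
      rwa [e] at h
  have hR : R = ⊤ := Subgroup.eq_top_of_card_eq _ (Nat.dvd_antisymm (Subgroup.card_subgroup_dvd_card R)
    (by rw [F.cardH]; exact Nat.Coprime.mul_dvd_of_dvd_of_dvd (by norm_num : Nat.Coprime 64 9) h64 h9))
  have hsurj : Function.Surjective T.hom := MonoidHom.range_eq_top.1 hR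
  haveI : Finite Cfsg.Lib.SpFourCent.M := Nat.finite_of_card_ne_zero (by rw [Cfsg.Lib.SpFourCent.card_M]; norm_num)
  exact ⟨MulEquiv.ofBijective T.hom
    ((Nat.bijective_iff_surjective_and_card _).2 ⟨hsurj, by rw [F.cardH, Cfsg.Lib.SpFourCent.card_M]⟩)⟩

omit F

/-- The group of this shape is the centraliser of a central involution of `PSp₄(3)`. -/
theorem shapeNine_iso {H : Type u} [Group H] [Finite H] (D : LocalHyp H) (h : ShapeNine D) {F : Type} [Field F]
    [Fintype F] (hF : Fintype.card F = 3) (U : Sylow 2 (Cfsg.PSp 2 F)) (t₀ : Cfsg.PSp 2 F) (ht₀ : orderOf t₀ = 2)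
    (ht₀U : t₀ ∈ (U : Subgroup (Cfsg.PSp 2 F))) (ht₀c : ∀ u ∈ (U : Subgroup (Cfsg.PSp 2 F)), u * t₀ = t₀ * u) :
    Nonempty (H ≃* ↥(Subgroup.centralizer ({t₀} : Set (Cfsg.PSp 2 F)))) := by
  obtain ⟨f⟩ := Cfsg.Lib.SpFourCent.exists_model_at hF U t₀ ht₀ ht₀U ht₀c
  obtain ⟨P, hP⟩ := exists_frame D h
  obtain ⟨e⟩ := hP.iso_model
  exact ⟨e.symm.trans f⟩

end main

end Cfsg.Lib.AltEightSolv
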