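import Cfsg.Agent.AltEightSolv.CaseThree
import Cfsg.Agent.AltEightSolv.CaseA
import Cfsg.Agent.AltEightSolv.OrbitTri
import Cfsg.Agent.AltEightSolv.PSpCent
import Cfsg.Agent.LocalEven.SylowEight
import Cfsg.Agent.TwoFusion.FusionTools
import Cfsg.Agent.S3221

/-!
# The configuration with a centraliser of index nine over the Sylow subgroup
-/

set_option autoImplicit false
set_option maxRecDepth 100000
set_option linter.style.haveILetI false
set_option linter.unusedSectionVars false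

namespace Cfsg.Lib.AltEightSolv

open Subgroup
open Cfsg.Lib.Walter (Qt qm mem_Oc Oc)

universe u

namespace Assembly

variable {G : Type u} [Group G] [Finite G] (c : Typed G)

theorem exists_triG {hsol : Group.IsSolvable ↥(centralizer ({c.zG} : Set G))} (h : ShapeNine (c.loc hsol)) :
    ∃ n : G, TriG c n ∧ StabTri c n := by
  obtain ⟨-, -, -, hNAi, ⟨k, hk3, hk1, hkq⟩, -, -⟩ := h
  set D := c.loc hsol with hD
  obtain ⟨⟨g, hg⟩, hgk'⟩ := QuotientGroup.mk'_surjective _ k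
  have hgk : qm c.zG ⟨g, hg⟩ = k := hgk'
  obtain ⟨o, ho, hol⟩ := c.lift hg ⊤ ⊤ fun q _ => by
    obtain ⟨q', hq', -⟩ := hkq q
    exact ⟨q', mem_top _, by rw [hgk]; exact hq'⟩
  obtain ⟨hoC, ho1⟩ := mem_Oc.1 ho
  have hnC : o * g ∈ centralizer ({c.zG} : Set G) := mul_mem hoC hg
  have hnk : qm c.zG ⟨o * g, hnC⟩ = k := by
    rw [show (⟨o * g, hnC⟩ : centralizer ({c.zG} : Set G)) = ⟨o, hoC⟩ * ⟨g, hg⟩ from rfl, map_mul, ho1, one_mul, hgk]
  have hconj : ∀ q : M8, ∃ q' : M8, o * g * c.ι q * (o * g)⁻¹ = c.ι q' ∧ q'.a = q.f ∧ q'.f = (q.a ^^ q.f) := by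
    intro q
    obtain ⟨q', -, he, he'⟩ := hol q (mem_top _)
    obtain ⟨q'', hq'', h1, h2⟩ := hkq q
    rw [hgk] at he
    obtain rfl : q'' = q' := c.κ_inj (hq''.symm.trans he)
    exact ⟨q'', he', h1, h2⟩
  have hnN : o * g ∈ normalizer (c.Ag : Set G) := c.mem_normalizer_Ag fun x hx => by
    obtain ⟨q, hq, rfl⟩ := c.mem_Ag.1 hx
    obtain ⟨q', he, h1, h2⟩ := hconj q
    exact c.mem_Ag.2 ⟨q', ⟨h1.trans hq.2, by rw [h2, hq.1, hq.2]; rfl⟩, he.symm⟩
  -- the normaliser of `A` modulo the core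
  have hkNA : k ∈ D.NA := hnk ▸ qm_mem_NA c hsol hnC hnN
  have hknr : k ∉ D.ι.range := by
    rintro ⟨q, hq⟩
    subst hq
    exact hk1 (by rw [CaseA.cube_eq_one q (D.inj (by rw [map_mul, map_mul, map_one]; exact hk3)), map_one])
  have hkN : zpowers k ≤ normalizer (D.ι.range : Set (Qt c.zG)) := zpowers_le.2
    (Cfsg.Lib.ZStarApps.mem_normalizer_of_maps (by
      rintro _ ⟨q, rfl⟩
      obtain ⟨q', hq', -⟩ := hkq q
      exact ⟨q', hq'.symm⟩))
  have hrN : D.ι.range ≤ D.NA := by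
    rintro _ ⟨q, rfl⟩
    exact qm_mem_NA c hsol (c.ι_cent q) (c.ι_NN q)
  have hNA : D.ι.range ⊔ zpowers k = D.NA := by
    refine le_antisymm (sup_le hrN (zpowers_le.2 hkNA)) ?_
    have h1 := relIndex_mul_relIndex D.ι.range (D.ι.range ⊔ zpowers k) D.NA le_sup_left
      (sup_le hrN (zpowers_le.2 hkNA))
    rw [show D.ι.range.relIndex D.NA = 3 from hNAi] at h1
    rcases (Nat.dvd_prime Nat.prime_three).1 ⟨_, h1.symm⟩ with e | e
    · exact absurd ((relIndex_eq_one.1 e) (mem_sup_right (mem_zpowers k))) hknr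
    · rw [e] at h1
      exact relIndex_eq_one.1 (by omega)
  refine ⟨o * g, ⟨hnN, mul_inv_eq_iff_eq_mul.2 (mem_centralizer_singleton_iff.1 hnC), hconj⟩, fun y hyN hyz => ?_⟩
  have hy : y ∈ centralizer ({c.zG} : Set G) := mem_centralizer_singleton_iff.2 (mul_inv_eq_iff_eq_mul.1 hyz)
  have hm : qm c.zG ⟨y, hy⟩ ∈ D.ι.range ⊔ zpowers k := hNA.symm ▸ qm_mem_NA c hsol hy hyN
  obtain ⟨_, ⟨q, rfl⟩, w, hw, hqw⟩ := (Cfsg.Lib.Coprime.mem_sup_of_le_normalizer hkN).1 hm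
  obtain ⟨i, hi⟩ := (isOfFinOrder_of_finite k).mem_powers_iff_mem_zpowers.2 hw
  refine ⟨q, i, fun x hx => action_eq c hy hyN (pow_mem hnC i) (pow_mem hnN i) (q := q) ?_ hx⟩
  rw [show (⟨(o * g) ^ i, pow_mem hnC i⟩ : centralizer ({c.zG} : Set G)) = ⟨o * g, hnC⟩ ^ i from rfl, map_pow,
    hnk, ← hqw, ← hi]
  rfl

/-- The configuration leads to the symplectic group of degree four over the field of three elements. -/
theorem shapeNine_result (hO2 : Cfsg.pResidual 2 G = ⊤) (hcore2 : Cfsg.pCore 2 G = ⊥) (hodd : Cfsg.oddCore G = ⊥)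
    {hsol : Group.IsSolvable ↥(centralizer ({c.zG} : Set G))} (h : ShapeNine (c.loc hsol)) :
    ∃ (F : Type) (_ : Field F) (_ : Fintype F), Fintype.card F = 3 ∧ Nonempty (G ≃* Cfsg.PSp 2 F) := by
  haveI : Fact (Nat.Prime 2) := ⟨Nat.prime_two⟩
  haveI : Fact (Nat.Prime 3) := ⟨Nat.prime_three⟩
  obtain ⟨n, hn, hst⟩ := exists_triG c h
  obtain ⟨k, hp⟩ := orbit_tri c hn hst (exists_moved c hcore2 hodd)
  have hbij := qm_bijective c (core_nine c hodd hsol h hp)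
  obtain ⟨P, ⟨e⟩⟩ := CaseA.exists_alt_sylow c
  have hF : Fintype.card (ZMod 3) = 3 := ZMod.card 3
  obtain ⟨U⟩ : Nonempty (Sylow 2 (Cfsg.PSp 2 (ZMod 3))) := inferInstance
  obtain ⟨e'⟩ := Cfsg.Lib.SylowTables.alt_iso_psp (ZMod 3) hF P U
  set φ := e.trans e' with hφ
  set zS : ↥(c.S : Subgroup G) := ⟨c.zG, c.ι_mem _⟩ with hzS
  set t₀ : Cfsg.PSp 2 (ZMod 3) := ↑(φ zS) with ht₀'
  have ht₀ : orderOf t₀ = 2 := by
    rw [ht₀', Subgroup.orderOf_coe, MulEquiv.orderOf_eq]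
    exact (Subgroup.orderOf_coe zS).symm.trans c.orderOf_zG
  have ht₀c : ∀ u ∈ (U : Subgroup (Cfsg.PSp 2 (ZMod 3))), u * t₀ = t₀ * u := by
    intro u hu
    obtain ⟨s, hs⟩ := φ.surjective ⟨u, hu⟩
    have hcomm : s * zS = zS * s := Subtype.ext (c.zG_comm s.2)
    have := congrArg φ hcomm
    rw [map_mul, map_mul, hs] at this
    exact congrArg Subtype.val this
  obtain ⟨f⟩ := shapeNine_iso (c.loc hsol) h hF U t₀ ht₀ (φ zS).2 ht₀c
  refine ⟨ZMod 3, inferInstance, inferInstance, hF, Cfsg.Agent.S3221.result ?_ ?_ hF U t₀ ht₀ (φ zS).2 ht₀c c.zG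
    c.orderOf_zG ((MulEquiv.ofBijective (qm c.zG) hbij).trans f)⟩
  · exact even_iff_two_dvd.2 (c.orderOf_zG ▸ orderOf_dvd_natCard c.zG)
  · intro M hM
    haveI := normal_of_index_eq_two hM
    have h1 := Cfsg.Lib.TwoFusion.pResidual_le_of_index_two hM
    rw [hO2, top_le_iff] at h1
    rw [h1, index_top] at hM
    omega

end Assembly

end Cfsg.Lib.AltEightSolv
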