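import Cfsg.Agent.AltEightSolv.Model
import Cfsg.Agent.MTwelveType.Model

/-!
# The model is not a Sylow 2-subgroup of `M₁₂`

The two groups of order 64 have different numbers of commuting pairs of elements of square one.
-/

set_option autoImplicit false
set_option maxRecDepth 100000

namespace Cfsg.Lib.AltEightSolv

universe u

/-- Commuting pairs of elements of square one. -/
abbrev CommPair {M : Type*} [Group M] (q : M × M) : Prop :=
  q.1 * q.1 = 1 ∧ q.2 * q.2 = 1 ∧ q.1 * q.2 = q.2 * q.1

theorem pair_count : (Finset.univ.filter fun q : M8 × M8 => CommPair q).card = 448 := by decide +kernel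

theorem pair_count_twelve : ∀ _i : Fintype Cfsg.Lib.MTwelveType.M4,
    Nat.card {q : Cfsg.Lib.MTwelveType.M4 × Cfsg.Lib.MTwelveType.M4 // CommPair q} = 352 := by
  intro _
  letI : Fintype Cfsg.Lib.MTwelveType.M4 := Fintype.ofEquiv _ Cfsg.Lib.GTwoType.Mdl.equivProd.symm
  rw [Nat.card_eq_fintype_card, Fintype.card_subtype]
  decide +kernel

theorem not_model_twelve (e : Cfsg.Lib.MTwelveType.M4 ≃* M8) : False := by
  haveI : Fintype Cfsg.Lib.MTwelveType.M4 := Fintype.ofEquiv _ e.symm.toEquiv
  have h : Nat.card {q : Cfsg.Lib.MTwelveType.M4 × Cfsg.Lib.MTwelveType.M4 // CommPair q} =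
      Nat.card {q : M8 × M8 // CommPair q} :=
    Nat.card_congr ((e.toEquiv.prodCongr e.toEquiv).subtypeEquiv fun q => by
      simp only [CommPair, Equiv.prodCongr_apply, Prod.map, MulEquiv.toEquiv_eq_coe, MulEquiv.coe_toEquiv,
        ← map_mul, MulEquiv.map_eq_one_iff, EmbeddingLike.apply_eq_iff_eq])
  rw [pair_count_twelve inferInstance, Nat.card_eq_fintype_card, Fintype.card_subtype, pair_count] at h
  omega

/-- A group with such a Sylow 2-subgroup is not `M₁₂`. -/
theorem not_M12 {G : Type u} [Group G] [Finite G] (S : Sylow 2 G) (e : M8 ≃* ↥(S : Subgroup G))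
    (h : Cfsg.Spor.IsoM12 G) : False := by
  haveI : Fact (Nat.Prime 2) := ⟨Nat.prime_two⟩
  obtain ⟨f⟩ := h
  let P : Sylow 2 ↥Cfsg.Spor.M12 := S.mapSurjective (f := f.toMonoidHom) f.surjective
  obtain ⟨c, hc⟩ := Cfsg.Lib.MTwelveType.exists_typed S P
    ⟨(S : Subgroup G).equivMapOfInjective f.toMonoidHom f.injective⟩
  subst hc
  exact not_model_twelve (c.e.trans e.symm)

end Cfsg.Lib.AltEightSolv
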