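import Cfsg.Agent.AltEightSolv.EFacts
import Cfsg.Agent.S2775
import Cfsg.Agent.S1324
import Cfsg.Agent.LFourType.Moved
import Cfsg.Agent.TwoFusion.FusionTools

/-!
# The central type involutions of a Sylow subgroup do not form a subgroup of order eight
-/

set_option autoImplicit false
set_option linter.style.haveILetI false
set_option linter.unusedSectionVars false

namespace Cfsg.Lib.AltEightSolv

open Subgroup

universe u

variable {G : Type u} [Group G] [Finite G] (c : Typed G)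

/-- The subgroup `InE i` of the model. -/
def EMn (i : Fin 3) : Subgroup M8 where
  carrier := {q | InE i q}
  one_mem' := (inE_group i).1
  mul_mem' := fun hp hq => (inE_mul i _ hp _ hq).1
  inv_mem' := fun {p} hp => ((inE_group i).2.1 p hp).2

namespace Typed

/-- The elementary subgroup of order eight inside the group. -/
def EG (i : Fin 3) : Subgroup G := (EMn i).map c.ι

theorem mem_EG {i : Fin 3} {x : G} : x ∈ c.EG i ↔ ∃ q, InE i q ∧ c.ι q = x := Subgroup.mem_map

theorem EG_le (i : Fin 3) : c.EG i ≤ (c.S : Subgroup G) := by rintro _ ⟨q, -, rfl⟩; exact c.ι_mem q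

theorem card_EG (i : Fin 3) : Nat.card (c.EG i) = 8 := by
  have h : Nat.card ↥(Finset.univ.filter fun q : M8 => InE i q) = Nat.card (c.EG i) :=
    (Nat.card_congr (Equiv.subtypeEquivRight fun q =>
        Finset.mem_filter.trans (and_iff_right (Finset.mem_univ q)))).trans
      (Nat.card_congr ((EMn i).equivMapOfInjective c.ι c.ι_inj).toEquiv)
  rw [← h, Nat.card_eq_finsetCard, inE_card]

theorem EG_comm (i : Fin 3) {x y : G} (hx : x ∈ c.EG i) (hy : y ∈ c.EG i) : x * y = y * x := by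
  obtain ⟨p, hp, rfl⟩ := c.mem_EG.1 hx
  obtain ⟨q, hq, rfl⟩ := c.mem_EG.1 hy
  rw [← map_mul, ← map_mul, (inE_mul i p hp q hq).2]

theorem EG_sq (i : Fin 3) {x : G} (hx : x ∈ c.EG i) : x * x = 1 := by
  obtain ⟨p, hp, rfl⟩ := c.mem_EG.1 hx
  rw [← map_mul, ((inE_group i).2.1 p hp).1, map_one]

theorem S_le_normalizer_EG (i : Fin 3) : (c.S : Subgroup G) ≤ normalizer (c.EG i : Set G) := fun s hs => by
  refine Cfsg.Lib.ZStarApps.mem_normalizer_of_maps fun x hx => ?_
  obtain ⟨g, rfl⟩ := c.exists_ι hs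
  obtain ⟨q, hq, rfl⟩ := c.mem_EG.1 hx
  exact c.mem_EG.2 ⟨_, (inE_group i).2.2 g q hq, by rw [map_mul, map_mul, map_inv]⟩

end Typed

/-- The elementary subgroup of order eight is not strongly closed. -/
theorem not_strongly_closed (hcore2 : Cfsg.pCore 2 G = ⊥) (hodd : Cfsg.oddCore G = ⊥) (i : Fin 3)
    (hsc : Cfsg.IsStronglyClosed (c.EG i) (c.S : Subgroup G)) : False := by
  classical
  haveI : Fact (Nat.Prime 2) := ⟨Nat.prime_two⟩
  set E := c.EG i with hEdef
  set K := normalClosure (E : Set G) with hK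
  have hEK : E ≤ K := subset_normalClosure
  have hO : Cfsg.pPrimeCore 2 ↥K = ⊥ := by
    have h := Cfsg.Lib.Components.pPrimeCore_map_subtype_eq (p := 2) (H := K) (normalClosure_normal.isSubnormal)
    rw [show Cfsg.pPrimeCore 2 G = ⊥ from hodd, bot_inf_eq] at h
    exact (map_eq_bot_iff_of_injective _ K.subtype_injective).1 h
  obtain ⟨hperf, -, ⟨T, hET, hTE⟩, -⟩ := Cfsg.Agent.S2775.result c.S E
    ⟨⟨fun a b => Subtype.ext (c.EG_comm i a.2 b.2)⟩⟩ hsc K hK ↥K (MonoidHom.id ↥K) Function.surjective_id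
    (by rw [MonoidHom.ker_id, hO])
  have h2 : Cfsg.pCore 2 ↥K = ⊥ := by
    haveI : (Cfsg.pCore 2 ↥K).Characteristic := Cfsg.Lib.Components.pCore_characteristic
    haveI : K.Normal := normalClosure_normal
    haveI : ((Cfsg.pCore 2 ↥K).map K.subtype).Normal := ConjAct.normal_of_characteristic_of_normal
    have h : (Cfsg.pCore 2 ↥K).map K.subtype ≤ Cfsg.pCore 2 G :=
      Cfsg.Lib.Components.le_pCore ((Cfsg.Lib.Components.isPGroup_pCore (p := 2)).map K.subtype)
    rw [hcore2, le_bot_iff] at h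
    exact (map_eq_bot_iff_of_injective _ K.subtype_injective).1 h
  rw [h2, bot_sup_eq] at hperf hTE
  rw [map_id] at hTE
  -- the Sylow subgroup of `K` inside `S` is `E`
  set R : Subgroup ↥K := ((c.S : Subgroup G) ⊓ K).subgroupOf K with hR
  obtain ⟨k, hk⟩ : ∃ k : ↥K, ∀ x ∈ R, k⁻¹ * x * k ∈ (T : Subgroup ↥K) :=
    Cfsg.Lib.InvolCalc.exists_conj_le T ((c.S.2.to_le inf_le_left).of_equiv
      (subgroupOfEquivOfLe (inf_le_right : (c.S : Subgroup G) ⊓ K ≤ K)).symm)
  have hinvE : ∀ x : G, x ∈ (c.S : Subgroup G) → x ∈ K → x * x = 1 → x ∈ E := by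
    intro x hxS hxK hx
    have hm := hk ⟨x, hxK⟩ ⟨hxS, hxK⟩
    have hm2 : k⁻¹ * ⟨x, hxK⟩ * k ∈ E.subgroupOf K := by
      rw [hTE]
      refine subset_closure ⟨hm, ?_⟩
      rw [pow_two, show k⁻¹ * ⟨x, hxK⟩ * k * (k⁻¹ * ⟨x, hxK⟩ * k) = k⁻¹ * (⟨x, hxK⟩ * ⟨x, hxK⟩) * k by group,
        show (⟨x, hxK⟩ * ⟨x, hxK⟩ : ↥K) = 1 from Subtype.ext hx, mul_one, inv_mul_cancel]
    have h3 := hsc.2 _ hm2 (k : G) (by simpa [mul_assoc] using hxS)
    simpa [mul_assoc] using h3
  have hSK : ∀ x : G, x ∈ (c.S : Subgroup G) → x ∈ K → x ∈ E := by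
    intro x hxS hxK
    obtain ⟨g, rfl⟩ := c.exists_ι hxS
    by_contra hne
    have hg : ¬ InE i g := fun h => hne (c.mem_EG.2 ⟨g, h, rfl⟩)
    have hEm : ∀ v : Fin 8, c.ι (elE i v) ∈ K := fun v => hEK (c.mem_EG.2 ⟨_, (elE_mem i v).1, rfl⟩)
    obtain ⟨v, ⟨he, hne'⟩ | ⟨s, -, he, hne'⟩⟩ := inE_extend i g hg
    · have hm : c.ι (g * elE i v) ∈ E := hinvE _ (c.ι_mem _) (by rw [map_mul]; exact mul_mem hxK (hEm v))
        (by rw [← map_mul, he, map_one])
      obtain ⟨q, hq, e⟩ := c.mem_EG.1 hm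
      exact hne' (c.ι_inj e ▸ hq)
    · have hm : c.ι (g * s * g⁻¹ * s⁻¹ * elE i v) ∈ E := hinvE _ (c.ι_mem _) (by
          rw [map_mul, map_mul, map_mul, map_mul, map_inv, map_inv]
          refine mul_mem ?_ (hEm v)
          rw [mul_assoc, mul_assoc, ← mul_assoc (c.ι s)]
          exact mul_mem hxK (normalClosure_normal.conj_mem _ (inv_mem hxK) _))
        (by rw [← map_mul, he, map_one])
      obtain ⟨q, hq, e⟩ := c.mem_EG.1 hm
      exact hne' (c.ι_inj e ▸ hq)
  -- `E` is a Sylow subgroup of `K`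
  haveI : K.Normal := normalClosure_normal
  obtain ⟨P0⟩ := (inferInstance : Nonempty (Sylow 2 ↥K))
  have hP0 : Nat.card (P0 : Subgroup ↥K) = 8 := by
    obtain ⟨e⟩ := Cfsg.Lib.TwoFusion.sylow_inf_normal c.S K P0
    rw [Nat.card_congr e.toEquiv, Nat.card_congr (subgroupOfEquivOfLe inf_le_left).toEquiv, ← c.card_EG i]
    exact congrArg (fun H : Subgroup G => Nat.card H)
      (le_antisymm (fun x hx => hSK x hx.1 hx.2) (le_inf (c.EG_le i) hEK))
  have hEsyl : ¬ 2 ∣ (E.subgroupOf K).index := by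
    have h1 := (P0 : Subgroup ↥K).card_mul_index
    have h3 := (E.subgroupOf K).card_mul_index
    rw [Nat.card_congr (subgroupOfEquivOfLe hEK).toEquiv, c.card_EG, ← h1, hP0] at h3
    rw [Nat.eq_of_mul_eq_mul_left (by norm_num : 0 < 8) h3]
    exact P0.not_dvd_index
  let P : Sylow 2 ↥K :=
    ((c.S.2.to_le (c.EG_le i)).of_equiv (subgroupOfEquivOfLe hEK).symm).toSylow hEsyl
  -- the automizer of `E` in `K`
  set N := normalizer (E : Set G) with hN
  let θ : ↥N →* MulAut ↥E := E.normalizerMonoidHom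
  set Y : Subgroup (MulAut ↥E) := (K.subgroupOf N).map θ with hY
  have hsN : ∀ q : M8, c.ι q ∈ N := fun q => c.S_le_normalizer_EG i (c.ι_mem q)
  have hYodd : Odd (Nat.card Y) := by
    have hker : E.subgroupOf N ≤ θ.ker := fun e he => MulEquiv.ext fun x => Subtype.ext (by
      show (e : G) * x * (e : G)⁻¹ = x
      rw [c.EG_comm i (show (e : G) ∈ E from he) x.2, mul_inv_cancel_right])
    let ψ := θ.comp (K.subgroupOf N).subtype
    have hψ : ψ.range = Y := by rw [hY, MonoidHom.range_comp, range_subtype]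
    have hle : (E.subgroupOf N).subgroupOf (K.subgroupOf N) ≤ ψ.ker := fun e he => hker he
    have h1 : Nat.card Y ∣ ((E.subgroupOf N).subgroupOf (K.subgroupOf N)).index := by
      rw [← hψ, ← index_ker]
      exact index_dvd_of_le hle
    have h4 : ((E.subgroupOf N).subgroupOf (K.subgroupOf N)).index ∣ (E.subgroupOf K).index := by
      show (E.subgroupOf N).relIndex (K.subgroupOf N) ∣ E.relIndex K
      rw [relIndex, ← relIndex]
      rw [← relIndex_map_map_of_injective (E.subgroupOf N) (K.subgroupOf N) N.subtype_injective,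
        subgroupOf_map_subtype, subgroupOf_map_subtype, inf_eq_left.2 (le_normalizer : E ≤ N)]
      exact ⟨_, (relIndex_mul_relIndex E (K ⊓ N) K (le_inf hEK le_normalizer) inf_le_left).symm⟩
    rw [← Nat.not_even_iff_odd, even_iff_two_dvd]
    exact fun hd => hEsyl (hd.trans (h1.trans h4))
  -- the four-group of transvections
  obtain ⟨hc12, htr⟩ := transvection i
  set g1 := g1E i
  set V : Subgroup (MulAut ↥E) := (zpowers g1 ⊔ zpowers M8.gd).map (θ.comp (c.ι.codRestrict N hsN)) with hV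
  have hact : ∀ g ∈ [g1, M8.gd, g1 * M8.gd], ∀ y ∈ Y,
      y * θ ⟨c.ι g, hsN g⟩ = θ ⟨c.ι g, hsN g⟩ * y → y = 1 := by
    intro g hg y hy hc
    obtain ⟨hgg, x, hx, hgv⟩ := htr g hg
    -- the map given by `y`
    let el : ℕ → ↥E := fun v => ⟨c.ι (elE i v), c.mem_EG.2 ⟨_, by
      rcases lt_or_ge v 8 with hv | hv
      · exact (elE_mem i ⟨v, hv⟩).1
      · have : InE i (elE i v) := by
          have h1 : ∀ b : Bool, ∀ e : M8, InE i e → InE i (bif b then e else 1) := fun b e he => by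
            cases b
            · exact (inE_group i).1
            · exact he
          exact (inE_mul i _ (inE_mul i _ (h1 _ _ (inE_z i).1) _ (h1 _ _ (inE_z i).2.1)).1 _
            (h1 _ _ (inE_z i).2.2)).1
        exact this, rfl⟩⟩
    have helx : ∀ u v : Fin 8, el (Nat.xor u v) = el u * el v := fun u v =>
      Subtype.ext (by show c.ι _ = c.ι _ * c.ι _; rw [elE_mul, map_mul])
    have hsurj : ∀ a : ↥E, ∃ v : Fin 8, el v = a := fun a => by
      obtain ⟨q, hq, e⟩ := c.mem_EG.1 a.2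
      exact ⟨⟨codeE i q, (elE_code i q hq).2⟩, Subtype.ext (by show c.ι _ = _; rw [(elE_code i q hq).1, e])⟩
    have hinj : ∀ u v : Fin 8, el u = el v → u = v := fun u v h => Fin.ext (by
      have h' : c.ι (elE i u) = c.ι (elE i v) := congrArg (fun z : ↥E => (z : G)) h
      rw [← (elE_mem i u).2, ← (elE_mem i v).2, c.ι_inj h'])
    choose f hf using fun v : Fin 8 => hsurj (y (el v))
    set m : Col := ⟨(f 1 : ℕ), (f 2 : ℕ), (f 4 : ℕ), 0⟩ with hm
    have hlt : ∀ v : Fin 8, m.app v < 8 := by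
      intro v
      have h8 : ∀ r b : ℕ, r < 2 → b < 8 → Nat.mul r b < 8 := fun r b hr hb => by
        interval_cases r <;> simp [Nat.mul_eq, hb]
      exact Nat.xor_lt_two_pow (n := 3)
        (Nat.xor_lt_two_pow (n := 3) (h8 _ _ (Nat.mod_lt _ two_pos) (f 1).2) (h8 _ _ (Nat.mod_lt _ two_pos) (f 2).2))
        (Nat.xor_lt_two_pow (n := 3) (h8 _ _ (Nat.mod_lt _ two_pos) (f 4).2) (h8 _ _ (Nat.mod_lt _ two_pos) (by norm_num)))
    have h00 : ∀ i, elE i 0 = 1 := by decide +kernel
    have h0 : el 0 = 1 := Subtype.ext (by show c.ι (elE i 0) = 1; rw [h00, map_one])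
    have key : ∀ v : Fin 8, y (el v) = el (m.app v) := by
      intro v
      have hx' : ∀ a b : Fin 8, y (el (Nat.xor a b)) = y (el a) * y (el b) := fun a b => by rw [helx, map_mul]
      have e1 : y (el 1) = el (f 1 : ℕ) := (hf 1).symm
      have e2 : y (el 2) = el (f 2 : ℕ) := (hf 2).symm
      have e4 : y (el 4) = el (f 4 : ℕ) := (hf 4).symm
      have e0 : y (el 0) = el 0 := by rw [h0, map_one]
      have e3 : y (el 3) = el (Nat.xor (f 1) (f 2)) := by
        rw [show (3 : ℕ) = Nat.xor ((1 : Fin 8) : ℕ) ((2 : Fin 8) : ℕ) from rfl, hx', helx]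
        exact congrArg₂ (· * ·) e1 e2
      have e5 : y (el 5) = el (Nat.xor (f 1) (f 4)) := by
        rw [show (5 : ℕ) = Nat.xor ((1 : Fin 8) : ℕ) ((4 : Fin 8) : ℕ) from rfl, hx', helx]
        exact congrArg₂ (· * ·) e1 e4
      have e6 : y (el 6) = el (Nat.xor (f 2) (f 4)) := by
        rw [show (6 : ℕ) = Nat.xor ((2 : Fin 8) : ℕ) ((4 : Fin 8) : ℕ) from rfl, hx', helx]
        exact congrArg₂ (· * ·) e2 e4
      have e7 : y (el 7) = el (Nat.xor (Nat.xor (f 1) (f 2)) (f 4)) := by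
        have hlt' : Nat.xor (f 1 : ℕ) (f 2) < 8 := Nat.xor_lt_two_pow (n := 3) (f 1).2 (f 2).2
        refine Eq.trans (hx' 3 4) ?_
        rw [helx ⟨_, hlt'⟩]
        exact congrArg₂ (· * ·) e3 e4
      fin_cases v <;> simp only [hm, Col.app, Nat.mul_eq] <;> norm_num <;>
        first
          | exact e0
          | exact e1
          | exact e2
          | exact e3
          | exact e4
          | exact e5
          | exact e6
          | exact e7
    have hg' : ∀ v : Fin 8, θ ⟨c.ι g, hsN g⟩ (el v) = el ((⟨1, 2, x, 0⟩ : Col).app v) := fun v => by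
      refine Subtype.ext ?_
      show c.ι g * c.ι (elE i v) * (c.ι g)⁻¹ = c.ι _
      rw [← hgv v, (elE_code i _ ((inE_group i).2.2 g _ (elE_mem i v).1)).1, map_mul, map_mul, map_inv]
    have hxlt : ∀ v : Fin 8, (⟨1, 2, x, 0⟩ : Col).app v < 8 := fun v => by
      rw [← hgv v]; exact (elE_code i _ ((inE_group i).2.2 g _ (elE_mem i v).1)).2
    have hmb : ∀ v : Fin 8, ((⟨(f 1 : ℕ), (f 2 : ℕ), (f 4 : ℕ), 0⟩ : Col).app v) = m.app v := fun v => rfl
    have hinjm : ∀ v : Fin 8, m.app v = 0 → v = 0 := fun v hv => hinj v 0 (y.injective (by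
      rw [key v, hv, show ((0 : Fin 8) : ℕ) = 0 from rfl, h0, map_one]))
    have hcomm : ∀ v : Fin 8, m.app ((⟨1, 2, x, 0⟩ : Col).app v) = (⟨1, 2, x, 0⟩ : Col).app (m.app v) := by
      intro v
      have h1 := DFunLike.congr_fun hc (el v)
      rw [MulAut.mul_apply, MulAut.mul_apply, hg', key v, key ⟨_, hxlt v⟩, hg' ⟨_, hlt v⟩] at h1
      exact congrArg Fin.val (hinj ⟨_, hlt ⟨_, hxlt v⟩⟩ ⟨_, hxlt ⟨_, hlt v⟩⟩ h1)
    have h4 := transvection_cent x hx (f 1) (f 2) (f 4) hinjm hcomm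
    have hpow : ∀ (k : ℕ) (v : Fin 8), m.iter k v < 8 ∧ (y ^ k) (el v) = el (m.iter k v) := by
      intro k
      induction k with
      | zero => exact fun v => ⟨v.2, by rw [pow_zero]; rfl⟩
      | succ k ih =>
        intro v
        obtain ⟨h1, h2⟩ := ih v
        exact ⟨hlt ⟨_, h1⟩, by rw [pow_succ', MulAut.mul_apply, h2]; exact key ⟨_, h1⟩⟩
    have hy4 : y ^ 4 = 1 := MulEquiv.ext fun a => by
      obtain ⟨v, rfl⟩ := hsurj a
      rw [(hpow 4 v).2, h4 v]
      rfl
    exact orderOf_eq_one_iff.1 (Nat.eq_one_of_dvd_coprimes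
      (Nat.Coprime.pow_left 2 (Nat.coprime_two_left.2
        (hYodd.of_dvd_nat (Subgroup.orderOf_dvd_natCard _ hy)))) (orderOf_dvd_of_pow_eq_one hy4) dvd_rfl)
  -- `Y` is trivial
  have hYbot : Y = ⊥ := by
    set a : MulAut ↥E := θ ⟨c.ι g1, hsN g1⟩ with ha
    set b : MulAut ↥E := θ ⟨c.ι M8.gd, hsN M8.gd⟩ with hb
    have hθ : ∀ p q : M8, θ ⟨c.ι p, hsN p⟩ * θ ⟨c.ι q, hsN q⟩ = θ ⟨c.ι (p * q), hsN _⟩ := fun p q => by
      rw [← map_mul]; exact congrArg θ (Subtype.ext (map_mul c.ι p q).symm)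
    have hab : a * b = θ ⟨c.ι (g1 * M8.gd), hsN _⟩ := hθ _ _
    have hcomm : Commute a b := by
      show a * b = b * a
      rw [hab, hb, ha, hθ]; exact congrArg θ (Subtype.ext (congrArg c.ι hc12))
    have hsq : ∀ p ∈ [g1, M8.gd, g1 * M8.gd], θ ⟨c.ι p, hsN p⟩ * θ ⟨c.ι p, hsN p⟩ = 1 := fun p hp => by
      rw [hθ, ← map_one θ]
      exact congrArg θ (Subtype.ext (by show c.ι (p * p) = 1; rw [(htr p hp).1, map_one]))
    have hnb : ∀ g, θ ⟨c.ι g, hsN g⟩ ∈ normalizer (Y : Set (MulAut ↥E)) := fun g => by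
      refine Cfsg.Lib.ZStarApps.mem_normalizer_of_maps ?_
      rintro _ ⟨w, hw, rfl⟩
      exact ⟨⟨c.ι g, hsN g⟩ * w * ⟨c.ι g, hsN g⟩⁻¹, (inferInstance : K.Normal).conj_mem _ hw _,
        by rw [map_mul, map_mul, map_inv]⟩
    set F : Subgroup (MulAut ↥E) := closure {a, b} with hF
    have hFc : ∀ x ∈ F, ∀ y ∈ F, Commute x y := by
      intro x hx y hy
      haveI : IsMulCommutative F := isMulCommutative_closure (by
        rintro x (rfl | rfl) y (rfl | rfl)
        exacts [rfl, hcomm.eq, hcomm.eq.symm, rfl])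
      exact congrArg Subtype.val (mul_comm' (⟨x, hx⟩ : F) ⟨y, hy⟩)
    have hne : ∀ p ∈ [g1, M8.gd, g1 * M8.gd], θ ⟨c.ι p, hsN p⟩ ≠ 1 := fun p hp e => by
      obtain ⟨-, x, hx, hv⟩ := htr p hp
      have hm4 : c.ι (elE i 4) ∈ E := c.mem_EG.2 ⟨_, (elE_mem i 4).1, rfl⟩
      have h0 := DFunLike.congr_fun e ⟨c.ι (elE i 4), hm4⟩
      have h1 : c.ι p * c.ι (elE i 4) * (c.ι p)⁻¹ = c.ι (elE i 4) := congrArg (fun z : ↥E => (z : G)) h0
      rw [← map_inv, ← map_mul, ← map_mul] at h1
      have h2 := hv 4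
      rw [show ((4 : Fin 8) : ℕ) = 4 from rfl, c.ι_inj h1] at h2
      rw [show codeE i (elE i 4) = 4 from (elE_mem i 4).2] at h2
      revert h2
      fin_cases hx <;> decide
    have hmemF : ∀ x ∈ F, x = 1 ∨ x = a ∨ x = b ∨ x = a * b := by
      let W : Subgroup (MulAut ↥E) :=
        { carrier := {x | x = 1 ∨ x = a ∨ x = b ∨ x = a * b}
          one_mem' := Or.inl rfl
          mul_mem' := by
            have ha2 : a * a = 1 := hsq g1 (by simp)
            have hb2 : b * b = 1 := hsq M8.gd (by simp)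
            have e1 : b * a = a * b := hcomm.eq.symm
            have e2 : a * (a * b) = b := by rw [← mul_assoc, ha2, one_mul]
            have e3 : b * (a * b) = a := by rw [← mul_assoc, e1, mul_assoc, hb2, mul_one]
            have e4 : a * b * a = b := by rw [mul_assoc, e1, ← mul_assoc, ha2, one_mul]
            have e5 : a * b * b = a := by rw [mul_assoc, hb2, mul_one]
            have e6 : a * b * (a * b) = 1 := by rw [← mul_assoc, e4, hb2]
            rintro x y (rfl | rfl | rfl | rfl) (rfl | rfl | rfl | rfl) <;>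
              simp [ha2, hb2, e1, e2, e3, e4, e5, e6]
          inv_mem' := by
            rintro x (rfl | rfl | rfl | rfl)
            · exact Or.inl inv_one
            · exact Or.inr (Or.inl (inv_eq_of_mul_eq_one_right (hsq g1 (by simp))))
            · exact Or.inr (Or.inr (Or.inl (inv_eq_of_mul_eq_one_right (hsq M8.gd (by simp)))))
            · refine Or.inr (Or.inr (Or.inr (inv_eq_of_mul_eq_one_right ?_)))
              rw [hab]; exact hsq _ (by simp) }
      exact fun x hx => ((closure_le W).2 (by rintro x (rfl | rfl) <;> simp [W]) hx : x ∈ W)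
    have h4 : 4 ≤ Nat.card F := by
      have hab1 : a * b ≠ 1 := by rw [hab]; exact hne _ (by simp)
      let f : Fin 4 → F := ![1, ⟨a, subset_closure (by simp)⟩, ⟨b, subset_closure (by simp)⟩,
        ⟨a * b, mul_mem (subset_closure (by simp)) (subset_closure (by simp))⟩]
      have ha1 : a ≠ 1 := hne g1 (by simp)
      have hb1 : b ≠ 1 := hne M8.gd (by simp)
      have hab' : a ≠ b := fun e => hab1 (by rw [← e]; exact hsq g1 (by simp))
      have hinjf : Function.Injective f := by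
        intro u v h
        fin_cases u <;> fin_cases v <;> simp [f, Subtype.ext_iff] at h ⊢ <;>
          first
            | exact absurd h ha1 | exact absurd h.symm ha1
            | exact absurd h hb1 | exact absurd h.symm hb1
            | exact absurd h hab1 | exact absurd h.symm hab1
            | exact absurd h hab' | exact absurd h.symm hab'
            | exact absurd h (fun e => hb1 (mul_left_cancel (e.trans (mul_one a).symm)))
            | exact absurd h.symm (fun e => hb1 (mul_left_cancel (e.trans (mul_one a).symm)))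
            | exact absurd h (fun e => ha1 (mul_right_cancel (e.trans (one_mul b).symm)))
            | exact absurd h.symm (fun e => ha1 (mul_right_cancel (e.trans (one_mul b).symm)))
      simpa using Nat.card_le_card_of_injective f hinjf
    refine le_bot_iff.1 (Cfsg.Lib.LFourType.le_of_four' h4 hFc ?_ hYodd ((closure_le _).2 ?_) ?_)
    · intro x hx
      rcases hmemF x hx with rfl | rfl | rfl | rfl
      · exact one_mul 1
      · exact hsq g1 (by simp)
      · exact hsq M8.gd (by simp)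
      · rw [hab]; exact hsq _ (by simp)
    · rintro x (rfl | rfl) <;> exact hnb _
    · intro e he he1
      rintro y ⟨hy, hyc⟩
      have hcom : y * e = e * y := mem_centralizer_singleton_iff.1 hyc
      rw [mem_bot]
      rcases hmemF e he with rfl | rfl | rfl | rfl
      · exact absurd rfl he1
      · exact hact g1 (by simp) y hy hcom
      · exact hact M8.gd (by simp) y hy hcom
      · rw [hab] at hcom; exact hact _ (by simp) y hy hcom
  -- transfer
  have hNC : normalizer ((P : Subgroup ↥K) : Set ↥K) ≤ centralizer ((P : Subgroup ↥K) : Set ↥K) := by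
    intro w hw
    have hwN : (w : G) ∈ N := by
      refine Cfsg.Lib.ZStarApps.mem_normalizer_of_maps fun x hx => ?_
      exact (mem_normalizer_iff.1 hw ⟨x, hEK hx⟩).1 hx
    have hθw : θ ⟨w, hwN⟩ ∈ Y := ⟨⟨w, hwN⟩, w.2, rfl⟩
    rw [hYbot, mem_bot] at hθw
    refine mem_centralizer_iff.2 fun x hx => Subtype.ext ?_
    have := congrArg Subtype.val (DFunLike.congr_fun hθw ⟨(x : G), hx⟩)
    show (x : G) * w = w * x
    exact (mul_inv_eq_iff_eq_mul.1 (show (w : G) * x * (w : G)⁻¹ = x from this)).symm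
  have hc := MonoidHom.ker_transferSylow_isComplement' P hNC
  haveI : IsMulCommutative (P : Subgroup ↥K) :=
    ⟨⟨fun a b => Subtype.ext (Subtype.ext (c.EG_comm i a.2 b.2))⟩⟩
  have hcom : commutator ↥K ≤ (MonoidHom.transferSylow P hNC).ker := by
    rw [commutator_eq_closure, closure_le]
    rintro _ ⟨g, h, rfl⟩
    rw [SetLike.mem_coe, MonoidHom.mem_ker, map_commutatorElement]
    exact commutatorElement_eq_one_iff_mul_comm.2 (mul_comm' _ _)
  rw [hperf, top_le_iff] at hcom
  have hz : (⟨c.ι M8.z, hEK (c.mem_EG.2 ⟨_, (inE_z i).1, rfl⟩)⟩ : ↥K) ∈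
      (MonoidHom.transferSylow P hNC).ker ⊓ (P : Subgroup ↥K) :=
    ⟨hcom ▸ mem_top _, show c.ι M8.z ∈ E from c.mem_EG.2 ⟨_, (inE_z i).1, rfl⟩⟩
  rw [disjoint_iff.1 hc.disjoint, mem_bot] at hz
  exact M8.z_facts.2.1 (c.ι_eq_one.1 (congrArg Subtype.val hz))

end Cfsg.Lib.AltEightSolv
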