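import Cfsg.Agent.AltEightSolv.OrbitFacts

/-!
# The orbit of `z` when the stabiliser has order four
-/

set_option autoImplicit false
set_option linter.style.haveILetI false
set_option linter.unusedSectionVars false

namespace Cfsg.Lib.AltEightSolv

open Subgroup

universe u

variable {G : Type u} [Group G] [Finite G] (c : Typed G)

theorem el_gens_ne : ∀ g ∈ [M8.ga, M8.gf, M8.ga * M8.gf],
    code (g * M8.gd * g⁻¹) ≠ code M8.gd := by decide +kernel

namespace Typed

theorem πι_ker : c.πι.ker = M8.A := by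
  ext q
  refine ⟨fun h => ?_, fun h => c.πι_inA h⟩
  have hne : ∀ g ∈ [M8.ga, M8.gf, M8.ga * M8.gf], c.πι g ≠ 1 := fun g hg e => el_gens_ne g hg (by
    have := congrArg Subtype.val (DFunLike.congr_fun e (c.el (code M8.gd)))
    rw [c.πι_apply, MulAut.one_apply, c.el_code (by decide), ← map_inv, ← map_mul, ← map_mul] at this
    rw [c.ι_inj this])
  have hc : M8.InA q ∨ M8.InA (M8.ga⁻¹ * q) ∨ M8.InA (M8.gf⁻¹ * q) ∨ M8.InA ((M8.ga * M8.gf)⁻¹ * q) := by
    clear h; revert q; decide +kernel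
  have hh : ∀ g, M8.InA (g⁻¹ * q) → c.πι g = 1 := fun g hg => by
    rw [show g = q * (g⁻¹ * q)⁻¹ by group, map_mul, map_inv, c.πι_inA hg, MonoidHom.mem_ker.1 h, inv_one, one_mul]
  rcases hc with e | e | e | e
  · exact e
  · exact absurd (hh _ e) (hne _ (by simp))
  · exact absurd (hh _ e) (hne _ (by simp))
  · exact absurd (hh _ e) (hne _ (by simp))

theorem card_image : Nat.card c.πι.range = 4 := by
  have h := M8.A.card_mul_index
  rw [M8.card_M8, ← c.πι_ker, index_ker] at h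
  have h16 : Nat.card c.πι.ker = 16 := by
    rw [c.πι_ker, ← c.card_Ag]
    exact Nat.card_congr ((M8.A).equivMapOfInjective c.ι c.ι_inj).toEquiv
  rw [h16] at h
  omega

theorem mem_fixed {a : c.Ag} (h : ∀ q, c.πι q a = a) : a = c.el 0 ∨ a = c.el 2 := by
  obtain ⟨v, hv, rfl⟩ := c.el_surj a
  have ha := c.el_inj (c.acts_a v hv).1 hv ((c.acts_a v hv).2.symm.trans (h _))
  have hf := c.el_inj (c.acts_f v hv).1 hv ((c.acts_f v hv).2.symm.trans (h _))
  rcases Col.fixed_two ⟨v, hv⟩ ha hf with e | e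
  · exact Or.inl (congrArg c.el e)
  · exact Or.inr (congrArg c.el e)

theorem el_two : ((c.el 2 : c.Ag) : G) = c.zG := c.el_code (q := M8.z) (by decide)

/-- An element of prime order at least five of the automizer normalised by the Sylow image is impossible. -/
theorem no_big_prime {r : ℕ} (hr : r.Prime) (hr5 : 5 ≤ r) {x : MulAut c.Ag} (hx : orderOf x = r)
    (hn : ∀ q, c.πι q * x * (c.πι q)⁻¹ ∈ zpowers x) : False := by
  haveI : Fact r.Prime := ⟨hr⟩
  have key : ∀ q, c.πι q * x * (c.πι q)⁻¹ = x ∨ c.πι q * x * (c.πι q)⁻¹ = x⁻¹ := by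
    intro q
    obtain ⟨m, hm⟩ := mem_zpowers_iff.1 (hn q)
    have h2 : x ^ (m * m) = x := by
      rw [zpow_mul, hm, conj_zpow, hm]
      calc c.πι q * (c.πι q * x * (c.πι q)⁻¹) * (c.πι q)⁻¹
          = (c.πι q * c.πι q) * x * (c.πι q * c.πι q)⁻¹ := by group
        _ = x := by rw [c.πι_sq]; group
    have h3 : ((m * m : ℤ) : ZMod r) = ((1 : ℤ) : ZMod r) := by
      rw [ZMod.intCast_eq_intCast_iff, ← hx, ← zpow_eq_zpow_iff_modEq, h2, zpow_one]
    have hcast : ∀ j : ℤ, (m : ZMod r) = (j : ZMod r) → x ^ m = x ^ j := fun j hj => by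
      rw [zpow_eq_zpow_iff_modEq, hx, ← ZMod.intCast_eq_intCast_iff]; exact hj
    push_cast at h3
    rcases mul_self_eq_one_iff.1 h3 with e | e
    · left; rw [← hm, hcast 1 (by push_cast; exact e), zpow_one]
    · right; rw [← hm, hcast (-1) (by push_cast; exact e), zpow_neg_one]
  obtain ⟨q, hq1, hq⟩ : ∃ q, c.πι q ≠ 1 ∧ c.πι q * x * (c.πι q)⁻¹ = x := by
    have hne : ∀ {g : M8}, ¬ M8.InA g → c.πι g ≠ 1 := fun {g} hg e => hg (by
      have : g ∈ c.πι.ker := MonoidHom.mem_ker.2 e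
      rwa [c.πι_ker] at this)
    rcases key M8.ga with e | e
    · exact ⟨_, hne (by decide), e⟩
    rcases key M8.gf with e' | e'
    · exact ⟨_, hne (by decide), e'⟩
    refine ⟨M8.ga * M8.gf, hne (by decide), ?_⟩
    calc c.πι (M8.ga * M8.gf) * x * (c.πι (M8.ga * M8.gf))⁻¹
        = c.πι M8.ga * (c.πι M8.gf * x * (c.πι M8.gf)⁻¹) * (c.πι M8.ga)⁻¹ := by rw [map_mul]; group
      _ = (c.πι M8.ga * x * (c.πι M8.ga)⁻¹)⁻¹ := by rw [e']; group
      _ = x := by rw [e, inv_inv]
  have h12 := orderOf_dvd_of_pow_eq_one (c.exp_twelve hq1 (mul_inv_eq_iff_eq_mul.1 hq).symm)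
  rw [hx] at h12
  have := Nat.le_of_dvd (by norm_num) h12
  revert hr h12; interval_cases r <;> norm_num

/-- No prime at least five divides the number of conjugates of `z` in `A`. -/
theorem three_group (hst : StabS c) :
    ∀ r : ℕ, r.Prime → 5 ≤ r → r ∣ Nat.card {q : M8 // M8.InA q ∧ ZT c q} →
      Nat.card {q : M8 // M8.InA q ∧ ZT c q} ≤ 15 → False := by
  classical
  intro r hr hr5 hrk hk15
  haveI : Fact r.Prime := ⟨hr⟩
  haveI : Fact (Nat.Prime 2) := ⟨Nat.prime_two⟩
  obtain ⟨P, hP⟩ := c.exists_sylowX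
  let v : M8 → c.π.range := fun q => ⟨c.πι q, ⟨⟨c.ι q, c.ι_NN q⟩, rfl⟩⟩
  have hP4 : Nat.card (P : Subgroup c.π.range) = 4 := by
    rw [Nat.card_congr ((P : Subgroup c.π.range).equivMapOfInjective c.π.range.subtype c.π.range.subtype_injective).toEquiv,
      hP, c.card_image]
  have hmemP : ∀ {y : c.π.range}, y ∈ (P : Subgroup c.π.range) ↔ ∃ q, c.πι q = (y : MulAut c.Ag) := fun {y} => by
    constructor
    · intro hy
      obtain ⟨q, hq⟩ : (y : MulAut c.Ag) ∈ c.πι.range := hP ▸ ⟨y, hy, rfl⟩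
      exact ⟨q, hq⟩
    · rintro ⟨q, hq⟩
      obtain ⟨y', hy', e⟩ : (y : MulAut c.Ag) ∈ (P : Subgroup c.π.range).map c.π.range.subtype := by
        rw [hP]; exact ⟨q, hq⟩
      exact (c.π.range.subtype_injective e) ▸ hy'
  have hfixz : ∀ q, c.πι q (c.el 2) = c.el 2 := fun q => Subtype.ext (by
    rw [c.πι_apply, c.el_two, c.zG_comm (c.ι_mem q), mul_inv_cancel_right])
  -- the stabiliser of `z`
  have hstab : MulAction.stabilizer c.π.range (c.el 2) = (P : Subgroup c.π.range) := by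
    ext y
    rw [MulAction.mem_stabilizer_iff, hmemP]
    constructor
    · intro hy
      obtain ⟨y, n, rfl⟩ := y
      obtain ⟨q, hq⟩ := hst n n.2 (by
        have := congrArg Subtype.val (show c.π n (c.el 2) = c.el 2 from hy)
        rwa [c.π_apply, c.el_two] at this)
      exact ⟨q, MulEquiv.ext fun a => Subtype.ext (by rw [c.πι_apply, c.π_apply, hq a a.2])⟩
    · rintro ⟨q, hq⟩
      show (y : MulAut c.Ag) (c.el 2) = c.el 2
      rw [← hq, hfixz]
  have horb : Nat.card (MulAction.orbit c.π.range (c.el 2)) = Nat.card {q : M8 // M8.InA q ∧ ZT c q} := by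
    refine (Nat.card_eq_of_bijective (fun q : {q : M8 // M8.InA q ∧ ZT c q} =>
      (⟨c.el (code q.1), ?_⟩ : MulAction.orbit c.π.range (c.el 2))) ⟨?_, ?_⟩).symm
    · obtain ⟨n, hn, hne⟩ := c.zt_fused q.2.1 q.2.2
      refine ⟨⟨c.π ⟨n, hn⟩, _, rfl⟩, Subtype.ext ?_⟩
      show n * ((c.el 2 : c.Ag) : G) * n⁻¹ = _
      rw [c.el_two, c.el_code q.2.1]
      exact hne
    · intro p q h
      exact Subtype.ext (code_injOn p.2.1 q.2.1
        (c.el_inj (code_lt _) (code_lt _) (congrArg Subtype.val h)))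
    · rintro ⟨a, ⟨y, n, rfl⟩, rfl⟩
      obtain ⟨q, hq, he⟩ := c.mem_Ag.1 (c.π n (c.el 2)).2
      refine ⟨⟨q, hq, isConj_iff.2 ⟨n, ?_⟩⟩, Subtype.ext (Subtype.ext ?_)⟩
      · rw [he, c.π_apply, c.el_two]
      · rw [c.el_code hq, he]; rfl
  have hidx : (P : Subgroup c.π.range).index = Nat.card {q : M8 // M8.InA q ∧ ZT c q} := by
    rw [← hstab, ← horb, index_eq_card]
    exact (Nat.card_congr (MulAction.orbitEquivQuotientStabilizer c.π.range (c.el 2))).symm
  -- a normal complement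
  have hNC : normalizer ((P : Subgroup c.π.range) : Set c.π.range) ≤ centralizer ((P : Subgroup c.π.range) : Set c.π.range) := by
    intro y hy
    have hfix : (y : MulAut c.Ag) (c.el 2) = c.el 2 := by
      rcases c.mem_fixed (a := (y : MulAut c.Ag) (c.el 2)) (fun q => by
        have hm : y⁻¹ * v q * y ∈
            (P : Subgroup c.π.range) := ((mem_normalizer_iff''.1 hy) _).1 (hmemP.2 ⟨q, rfl⟩)
        obtain ⟨q', hq'⟩ := hmemP.1 hm
        have : c.πι q * (y : MulAut c.Ag) = (y : MulAut c.Ag) * c.πι q' := by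
          rw [hq']; simp [mul_assoc, v]
        rw [← MulAut.mul_apply, this, MulAut.mul_apply, hfixz]) with e | e
      · exfalso
        have h1 : c.el 2 = c.el 0 := by
          refine (y : MulAut c.Ag).injective (e.trans ?_)
          have h0 : c.el 0 = 1 := Subtype.ext (show c.ι (elA 0) = 1 by rw [show elA 0 = 1 from rfl, map_one])
          rw [h0, map_one]
        exact absurd (c.el_inj (by norm_num) (by norm_num) h1) (by norm_num)
      · exact e
    have hyP : y ∈ (P : Subgroup c.π.range) := hstab ▸ (MulAction.mem_stabilizer_iff.2 hfix)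
    refine mem_centralizer_iff.2 fun w hw => Subtype.ext ?_
    obtain ⟨q, hq⟩ := hmemP.1 hyP
    obtain ⟨q', hq'⟩ := hmemP.1 hw
    show (w : MulAut c.Ag) * y = y * w
    rw [← hq, ← hq', ← map_mul, ← map_mul]
    refine mul_inv_eq_one.1 ?_
    rw [← map_inv, ← map_mul]
    exact c.πι_inA (by rw [show q' * q * (q * q')⁻¹ = q' * q * q'⁻¹ * q⁻¹ by group]; exact M8.comm_inA q' q)
  have hc := MonoidHom.ker_transferSylow_isComplement' P hNC
  set K := (MonoidHom.transferSylow P hNC).ker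
  have hKc : Nat.card K = Nat.card {q : M8 // M8.InA q ∧ ZT c q} := by
    rw [← hidx]
    have h1 := hc.card_mul
    rw [← (P : Subgroup c.π.range).card_mul_index, mul_comm (Nat.card (P : Subgroup c.π.range))] at h1
    exact Nat.eq_of_mul_eq_mul_right Nat.card_pos h1
  obtain ⟨R⟩ := (inferInstance : Nonempty (Sylow r K))
  have hR : Nat.card (R : Subgroup K) = r := by
    rw [R.card_eq_multiplicity]
    have hv : r ^ (Nat.card K).factorization r ∣ Nat.card K := Nat.ordProj_dvd _ _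
    have hpos : 1 ≤ (Nat.card K).factorization r := hr.factorization_pos_of_dvd Nat.card_pos.ne' (hKc ▸ hrk)
    rcases eq_or_lt_of_le hpos with h | h
    · rw [← h, pow_one]
    · exfalso
      have h2 : r ^ 2 ≤ 15 := ((Nat.pow_le_pow_right hr.pos h).trans (Nat.le_of_dvd Nat.card_pos hv)).trans (hKc ▸ hk15)
      nlinarith
  have hsup := R.normalizer_sup_eq_top
  set N := normalizer (((R : Subgroup K).map K.subtype : Subgroup c.π.range) : Set c.π.range)
  have h4N : 4 ∣ Nat.card N := by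
    have h := Cfsg.Lib.Components.card_sup_dvd_mul K N
    rw [sup_comm, hsup, card_top, ← (P : Subgroup c.π.range).card_mul_index, hP4, hidx, ← hKc, mul_comm _ (Nat.card K),
      mul_comm (Nat.card K) (Nat.card N)] at h
    have h' : 4 * Nat.card K ∣ Nat.card N * Nat.card K := by rwa [mul_comm (Nat.card K) 4] at h
    exact Nat.dvd_of_mul_dvd_mul_right Nat.card_pos h'
  obtain ⟨Q, hQ⟩ := Sylow.exists_subgroup_card_pow_prime 2 (n := 2) (G := N) (by simpa using h4N)
  have hQ2 : IsPGroup 2 (Q.map N.subtype) :=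
    IsPGroup.of_card (n := 2) (by rw [card_map_of_injective N.subtype_injective, hQ])
  obtain ⟨d, hd⟩ := Cfsg.Lib.InvolCalc.exists_conj_le P hQ2
  have hdQ : (Q.map N.subtype).map (MulAut.conj d⁻¹).toMonoidHom = (P : Subgroup c.π.range) := by
    refine eq_of_le_of_card_ge (by
      rintro _ ⟨w, hw, rfl⟩
      have := hd w hw
      simpa using this) ?_
    rw [card_map_of_injective (MulEquiv.injective _), card_map_of_injective N.subtype_injective, hQ, hP4]
    norm_num
  set R' := ((R : Subgroup K).map K.subtype).map (MulAut.conj d⁻¹).toMonoidHom with hR'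
  have hR'c : Nat.card R' = r := by
    rw [hR', card_map_of_injective (MulEquiv.injective _), card_map_of_injective K.subtype_injective, hR]
  haveI : IsCyclic R' := isCyclic_of_prime_card hR'c
  obtain ⟨⟨x, hx⟩, hgen⟩ := IsCyclic.exists_generator (α := R')
  have hxo : orderOf (x : MulAut c.Ag) = r := by
    rw [Subgroup.orderOf_coe, ← Subgroup.orderOf_mk x hx, orderOf_eq_card_of_forall_mem_zpowers hgen, hR'c]
  refine c.no_big_prime hr hr5 hxo fun q => ?_
  obtain ⟨w, ⟨w0, hw0, rfl⟩, hwe⟩ : (v q) ∈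
      (Q.map N.subtype).map (MulAut.conj d⁻¹).toMonoidHom := hdQ ▸ hmemP.2 ⟨q, rfl⟩
  obtain ⟨x0, hx0, hxe⟩ := hx
  have hm : (w0 : c.π.range) * x0 * (w0 : c.π.range)⁻¹ ∈ (R : Subgroup K).map K.subtype := (mem_normalizer_iff.1 w0.2 x0).1 hx0
  have hm' : (v q) * x *
      (v q)⁻¹ ∈ R' := by
    rw [← hwe, ← hxe]
    exact ⟨_, hm, by simp [mul_assoc]⟩
  obtain ⟨i, hi⟩ := mem_zpowers_iff.1 (hgen ⟨_, hm'⟩)
  refine mem_zpowers_iff.2 ⟨i, ?_⟩
  have := congrArg (fun z : R' => ((z : c.π.range) : MulAut c.Ag)) hi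
  simpa using this

end Typed

/-- With a stabiliser of order four, `z` has three or nine conjugates in `A`. -/
theorem orbit_three (hst : StabS c) (hmv : ∃ q, M8.InA q ∧ q ≠ 1 ∧ q ≠ M8.z ∧ ZT c q) :
    (∃ i, ∀ q, M8.InA q → q ≠ 1 → (ZT c q ↔ InE i q)) ∨ ∃ j k, PatThree c j k := by
  classical
  obtain ⟨q0, hq0, hq01, hq0z, hq0t⟩ := hmv
  set p : Fin 3 → Bool := fun i => decide (ZT c (pE i)) with hp
  set f : Bool → Bool := fun k => decide (ZT c (rep4 k)) with hf
  have hsel : ∀ q, (M8.InA q ∧ ZT c q) ↔ selA (p 0) (p 1) (p 2) (f false) (f true) q = true := by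
    intro q
    rw [selA_spec]
    constructor
    · rintro ⟨hq, ht⟩
      refine ⟨hq, ?_⟩
      rcases class_cases q hq (fun e => by
          rw [e] at ht
          obtain ⟨g, hg⟩ := isConj_iff.1 ht
          rw [map_one] at hg
          exact M8.z_facts.2.1 (c.ι_eq_one.1 (conj_eq_one_iff.1 hg))) with e | ⟨i, e⟩ | ⟨k, hk⟩
      · exact Or.inl e
      · exact Or.inr (Or.inl ⟨i, e, decide_eq_true ((c.zt_pair i e).1 ht)⟩)
      · exact Or.inr (Or.inr ⟨k, hk, decide_eq_true ((c.zt_four hk).1 ht)⟩)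
    · rintro ⟨hq, e | ⟨i, e, hi⟩ | ⟨k, hk, hk'⟩⟩
      · exact ⟨hq, e ▸ c.zt_z⟩
      · exact ⟨hq, (c.zt_pair i e).2 (of_decide_eq_true hi)⟩
      · exact ⟨hq, (c.zt_four hk).2 (of_decide_eq_true hk')⟩
  have hcard : Nat.card {q : M8 // M8.InA q ∧ ZT c q} = selN (p 0) (p 1) (p 2) (f false) (f true) := by
    rw [← selA_card, ← Nat.card_eq_finsetCard]
    exact Nat.card_congr (Equiv.subtypeEquivRight fun q => by
      rw [hsel q, Finset.mem_filter]; exact (and_iff_right (Finset.mem_univ q)).symm)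
  have hle : Nat.card {q : M8 // M8.InA q ∧ ZT c q} ≤ 15 := hcard ▸ (selN_le _ _ _ _ _).1
  have hprime : ∀ r, r.Prime → 5 ≤ r → ¬ selN (p 0) (p 1) (p 2) (f false) (f true) % r = 0 := fun r hr h5 h =>
    c.three_group hst r hr h5 (hcard ▸ Nat.dvd_of_mod_eq_zero h) hle
  have hcls : ∀ q, M8.InA q → q ≠ 1 → (ZT c q ↔ q = M8.z ∨ (∃ i, (q = pE i ∨ q = M8.z * pE i) ∧ p i = true) ∨
      ∃ k, Four k q ∧ f k = true) := fun q hq _ => by
    have h1 := hsel q
    rw [selA_spec] at h1
    exact ⟨fun h => (h1.1 ⟨hq, h⟩).2, fun h => (h1.2 ⟨hq, h⟩).2⟩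
  have hmove : ¬ ∀ p q, NFused c p q → Pairs p → Pairs q := fun hinv =>
    hq0z (c.fix_of_pairs hinv (c.zt_fused hq0 hq0t))
  have hztinv : ∀ {p q : M8}, NFused c p q → (ZT c p ↔ ZT c q) := fun ⟨g, _, e⟩ => c.zt_congr e
  have hinA : ∀ {p q : M8}, NFused c p q → M8.InA p → p ≠ 1 → M8.InA q ∧ q ≠ 1 := by
    rintro p q ⟨g, hg, e⟩ hp hp1
    obtain ⟨q', hq', e'⟩ := c.ι_conj_inA hg hp
    refine ⟨c.ι_inj (e.symm.trans e') ▸ hq', fun h1 => hp1 (c.ι_eq_one.1 (conj_eq_one_iff.1 (e.trans ?_)))⟩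
    rw [h1, map_one]
  rcases selN_cases (p 0) (p 1) (p 2) (f false) (f true) with
    hdiv | ⟨h0, h1, h2, h3, h4⟩ | ⟨h0, h1, h2, h3, h4⟩ | hone | hnine
  · rcases hdiv with h | h | h | h
    · exact absurd h (hprime 5 (by norm_num) le_rfl)
    · exact absurd h (hprime 7 (by norm_num) (by norm_num))
    · exact absurd h (hprime 11 (by norm_num) (by norm_num))
    · exact absurd h (hprime 13 (by norm_num) (by norm_num))
  · exfalso
    rcases (hcls q0 hq0 hq01).1 hq0t with e | ⟨i, -, hi⟩ | ⟨k, -, hk⟩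
    · exact hq0z e
    · fin_cases i <;> simp_all
    · cases k <;> simp_all
  · exfalso
    refine hmove fun a b hab ha => ?_
    obtain ⟨hbA, hb1⟩ := hinA hab ha.1 ha.2.1
    have hna : ¬ ZT c a := fun h => by
      rcases (hcls a ha.1 ha.2.1).1 h with e | ⟨i, -, hi⟩ | ⟨k, hk, -⟩
      · exact ha.2.2.1 e
      · fin_cases i <;> simp_all
      · exact ((four_facts k).2.2.2 a hk).2.2.1 ha
    rcases class_cases b hbA hb1 with e | hh | ⟨k, hk⟩
    · exact absurd ((hztinv hab).2 (e ▸ c.zt_z)) hna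
    · exact (pairs_iff b).2 hh
    · exact absurd ((hztinv hab).2 ((hcls b hbA hb1).2 (Or.inr (Or.inr ⟨k, hk, by cases k <;> assumption⟩)))) hna
  · left
    obtain ⟨hf0, hf1, hpi⟩ := hone
    obtain ⟨i, hi⟩ : ∃ i, ∀ i', p i' = decide (i' = i) := by
      rcases hpi with ⟨a, b, d⟩ | ⟨a, b, d⟩ | ⟨a, b, d⟩
      · exact ⟨0, fun i' => by fin_cases i' <;> simp_all⟩
      · exact ⟨1, fun i' => by fin_cases i' <;> simp_all⟩
      · exact ⟨2, fun i' => by fin_cases i' <;> simp_all⟩
    refine ⟨i, fun q hq hq1 => ?_⟩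
    rw [hcls q hq hq1, pair_inE i q hq hq1]
    constructor
    · rintro (e | ⟨i', e, hi'⟩ | ⟨k, -, hk⟩)
      · exact Or.inl e
      · rw [hi] at hi'; rw [of_decide_eq_true hi'] at e; exact Or.inr e
      · cases k <;> simp_all
    · rintro (e | e)
      · exact Or.inl e
      · exact Or.inr (Or.inl ⟨i, e, by rw [hi]; simp⟩)
  · right
    obtain ⟨hff, hpi⟩ := hnine
    obtain ⟨j, hj⟩ : ∃ j, ∀ i', p i' = !decide (i' = j) := by
      rcases hpi with ⟨a, b, d⟩ | ⟨a, b, d⟩ | ⟨a, b, d⟩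
      · exact ⟨0, fun i' => by fin_cases i' <;> simp_all⟩
      · exact ⟨1, fun i' => by fin_cases i' <;> simp_all⟩
      · exact ⟨2, fun i' => by fin_cases i' <;> simp_all⟩
    set k := f false with hk0
    have hfk : ∀ k', f k' = !decide (k' = k) := fun k' => by
      cases k' <;> cases hh : f true <;> simp_all
    have hpj : ∀ q, (q = pE j ∨ q = M8.z * pE j) → ¬ ZT c q := fun q hq h => by
      have := decide_eq_true ((c.zt_pair j hq).1 h)
      rw [show decide (ZT c (pE j)) = p j from rfl, hj] at this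
      simp at this
    have hzt : ∀ q, M8.InA q → q ≠ 1 → (ZT c q ↔ ¬ Six j k q) := by
      intro q hq hq1
      rw [hcls q hq hq1]
      constructor
      · rintro h (e | e | e)
        · exact hpj q (Or.inl e) ((hcls q hq hq1).2 h)
        · exact hpj q (Or.inr e) ((hcls q hq hq1).2 h)
        · have h' : f k = true := decide_eq_true ((c.zt_four e).1 ((hcls q hq hq1).2 h))
          rw [hfk] at h'
          simp at h'
      · intro h
        rcases class_cases q hq hq1 with e | ⟨i, e⟩ | ⟨k', hk'⟩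
        · exact Or.inl e
        · refine Or.inr (Or.inl ⟨i, e, ?_⟩)
          rw [hj]
          by_cases hij : i = j
          · subst hij; exact absurd (e.imp id Or.inl) h
          · simp [hij]
        · refine Or.inr (Or.inr ⟨k', hk', ?_⟩)
          rw [hfk]
          by_cases hkk : k' = k
          · subst hkk; exact absurd (Or.inr (Or.inr hk')) h
          · simp [hkk]
    refine ⟨j, k, ⟨hzt, fun q hq hq1 h => c.zt_fused hq ((hzt q hq hq1).2 h), ?_⟩⟩
    obtain ⟨q1, hq1k, hq1f⟩ : ∃ q1, Four k q1 ∧ NFused c (pE j) q1 := by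
      by_contra hcon
      refine hq0z (c.fix_of_pair j (fun a b hab ha => ?_) (c.zt_fused hq0 hq0t))
      have hna := hpj a ha
      have haA : M8.InA a ∧ a ≠ 1 := by
        rcases ha with rfl | rfl
        · exact ⟨(pair_facts j).1, (pair_facts j).2.1⟩
        · exact ⟨(pair_facts j).2.2.2.2.1, (pair_facts j).2.2.2.2.2.1⟩
      obtain ⟨hbA, hb1⟩ := hinA hab haA.1 haA.2
      have hnb : Six j k b := by
        by_contra h
        exact hna ((hztinv hab).2 ((hzt b hbA hb1).2 h))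
      rcases hnb with e | e | e
      · exact Or.inl e
      · exact Or.inr e
      · exact absurd ⟨b, e, c.nfused_trans (c.nfused_pair j ha) hab⟩ hcon
    rintro q (e | e | e)
    · exact c.nfused_pair j (Or.inl e)
    · exact c.nfused_pair j (Or.inr e)
    · exact c.nfused_trans hq1f (c.nfused_trans (c.nfused_symm (c.nfused_four hq1k)) (c.nfused_four e))

end Cfsg.Lib.AltEightSolv
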