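import Cfsg.Agent.AltEightSolv.ShapeQ

/-!
# The possible shapes of a solvable group with the Sylow subgroup of the alternating group of degree eight
-/

set_option autoImplicit false

namespace Cfsg.Lib.AltEightSolv

universe u

/-- A solvable group with trivial odd core, central involution `z` and Sylow subgroup of type `A₈` has one of the
three shapes. -/
theorem local_shapes {H : Type u} [Group H] [Finite H] (D : LocalHyp H) :
    ShapeA D ∨ ShapeThree D ∨ ShapeNine D := by
  by_cases hA : (M8.A.map D.ι).Normal
  · haveI := hA
    exact Or.inl (shapeA_of_normal D)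
  · obtain h | ⟨hQ, hR⟩ := core_cases D
    · exact absurd h hA
    · exact Or.inr ((⟨hQ, hR, hA⟩ : QHyp D).shape)

end Cfsg.Lib.AltEightSolv
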