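import Cfsg.Agent.AltEightSolv.CoreTrivial
import Cfsg.Agent.AltEightSolv.OrbitThree
import Cfsg.Agent.AltEightSolv.Moved
import Cfsg.Agent.AltEightSolv.NoE
import Cfsg.Agent.AltEightSolv.Shapes
import Cfsg.Agent.AltEightSolv.Distinct
import Cfsg.Agent.LargeExtra.Coprime
import Cfsg.Agent.S3344

/-!
# The configuration with a centraliser of index three over the Sylow subgroup
-/

set_option autoImplicit false
set_option maxRecDepth 100000
set_option linter.style.haveILetI false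
set_option linter.unusedSectionVars false

namespace Cfsg.Lib.AltEightSolv

open Subgroup
open Cfsg.Lib.Walter (Qt qm mem_Oc Oc)

universe u

namespace Assembly

open scoped commutatorElement

theorem Q_extra : (∀ a : M8, M8.InQ a → ∀ b : M8, M8.InQ b → a * b * a⁻¹ * b⁻¹ = 1 ∨ a * b * a⁻¹ * b⁻¹ = M8.z) ∧
    (∀ a : M8, M8.InQ a → a * a = 1 ∨ a * a = M8.z) ∧
    (∀ w : M8, M8.InQ w → (∀ a : M8, M8.InQ a → a * w = w * a) → w = 1 ∨ w = M8.z) ∧
    (∃ a : M8, M8.InQ a ∧ ∃ b : M8, M8.InQ b ∧ a * b ≠ b * a) := by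
  refine ⟨?_, ?_, ?_, ?_⟩ <;> decide +kernel

theorem parity_unique : ∀ (i i' : Fin 3) (q : M8), InE i q → M8.Out q → q.a = (oE i').a → q.f = (oE i').f →
    i' = i := by decide +kernel

theorem other_pE : ∀ (j : Fin 3) (k : Bool), ∃ i : Fin 3, M8.InA (pE i) ∧ M8.InQ (pE i) ∧ pE i ≠ 1 ∧
    pE i ≠ M8.z ∧ ¬ Six j k (pE i) := by decide +kernel

variable {G : Type u} [Group G] [Finite G] (c : Typed G)

/-- An element of the centraliser of `z` normalising `A` acts on `A` as its image modulo the core says. -/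
theorem action_eq {g n : G} (hg : g ∈ centralizer ({c.zG} : Set G)) (hgN : g ∈ normalizer (c.Ag : Set G))
    (hn : n ∈ centralizer ({c.zG} : Set G)) (hnN : n ∈ normalizer (c.Ag : Set G)) {q : M8}
    (h : qm c.zG ⟨g, hg⟩ = c.κ q * qm c.zG ⟨n, hn⟩) {x : G} (hx : x ∈ c.Ag) :
    g * x * g⁻¹ = c.ι q * n * x * (c.ι q * n)⁻¹ := by
  obtain ⟨p, hp, rfl⟩ := c.mem_Ag.1 hx
  obtain ⟨p1, -, h1⟩ := c.mem_Ag.1 ((mem_normalizer_iff.1 hgN _).1 hx)
  obtain ⟨p2, -, h2⟩ := c.mem_Ag.1 ((mem_normalizer_iff.1 hnN _).1 hx)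
  have e1 : c.κ p1 = qm c.zG ⟨g, hg⟩ * c.κ p * (qm c.zG ⟨g, hg⟩)⁻¹ := by
    rw [c.κ_def, c.κ_def, ← map_inv, ← map_mul, ← map_mul]
    exact congrArg _ (Subtype.ext h1)
  have e2 : c.κ p2 = qm c.zG ⟨n, hn⟩ * c.κ p * (qm c.zG ⟨n, hn⟩)⁻¹ := by
    rw [c.κ_def, c.κ_def, ← map_inv, ← map_mul, ← map_mul]
    exact congrArg _ (Subtype.ext h2)
  have e3 : p1 = q * p2 * q⁻¹ := c.κ_inj (by rw [map_mul, map_mul, map_inv, e1, e2, h]; group)
  rw [← h1, e3, map_mul, map_mul, map_inv, h2]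
  group

/-- The image of an element normalising `A` normalises the image of `A`. -/
theorem qm_mem_NA (hsol : Group.IsSolvable ↥(centralizer ({c.zG} : Set G))) {g : G}
    (hg : g ∈ centralizer ({c.zG} : Set G)) (hgN : g ∈ normalizer (c.Ag : Set G)) :
    qm c.zG ⟨g, hg⟩ ∈ (c.loc hsol).NA := by
  refine Cfsg.Lib.ZStarApps.mem_normalizer_of_maps ?_
  rintro _ ⟨q, hq, rfl⟩
  obtain ⟨q', hq', he⟩ := c.mem_Ag.1 ((mem_normalizer_iff.1 hgN _).1 (c.mem_Ag.2 ⟨q, hq, rfl⟩))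
  refine ⟨q', hq', ?_⟩
  show c.κ q' = qm c.zG ⟨g, hg⟩ * c.κ q * (qm c.zG ⟨g, hg⟩)⁻¹
  rw [c.κ_def, c.κ_def, ← map_inv, ← map_mul, ← map_mul]
  exact congrArg _ (Subtype.ext he)

/-- With trivial core the centraliser maps isomorphically to its quotient. -/
theorem qm_bijective (hO : Oc c.zG = ⊥) : Function.Bijective (qm c.zG) := by
  refine ⟨(MonoidHom.ker_eq_bot_iff _).1 ?_, QuotientGroup.mk'_surjective _⟩
  rw [QuotientGroup.ker_mk']
  exact (map_eq_bot_iff_of_injective _ (centralizer ({c.zG} : Set G)).subtype_injective).1 hO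

theorem stabS_of_shapeThree {hsol : Group.IsSolvable ↥(centralizer ({c.zG} : Set G))}
    (h : ShapeThree (c.loc hsol)) : StabS c := by
  intro g hgN hgz
  have hg : g ∈ centralizer ({c.zG} : Set G) := mem_centralizer_singleton_iff.2 (mul_inv_eq_iff_eq_mul.1 hgz)
  have hm := qm_mem_NA c hsol hg hgN
  rw [h.2.2.1] at hm
  obtain ⟨q, hq⟩ := hm
  refine ⟨q, fun x hx => ?_⟩
  have h' := action_eq c hg hgN (one_mem _) (one_mem _) (q := q) (by
    rw [show (⟨1, one_mem _⟩ : centralizer ({c.zG} : Set G)) = 1 from rfl, map_one, mul_one]; exact hq.symm) hx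
  simpa using h'

/-- The pattern with three central type involutions in `A` gives a strongly closed subgroup. -/
theorem strongly_closed {hsol : Group.IsSolvable ↥(centralizer ({c.zG} : Set G))} (h : ShapeThree (c.loc hsol))
    {i : Fin 3} (hi : ∀ q, M8.InA q → q ≠ 1 → (ZT c q ↔ InE i q)) :
    Cfsg.IsStronglyClosed (c.EG i) (c.S : Subgroup G) := by
  have hf := h.2.2.2.2.2.1
  refine ⟨c.EG_le i, fun x hx g hgx => ?_⟩
  obtain ⟨q, hq, rfl⟩ := c.mem_EG.1 hx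
  by_cases hq1 : q = 1
  · rw [hq1, map_one, mul_one, mul_inv_cancel]; exact one_mem _
  obtain ⟨hqq, -⟩ := (inE_group i).2.1 q hq
  have hzt : ZT c q := by
    by_cases hA : M8.InA q
    · exact (hi q hA hq1).2 hq
    · obtain ⟨i', n, -, ha, hf', hn⟩ := c.outer_fused hsol hf hqq hA
      obtain rfl : i' = i := parity_unique i i' q hq hA ha hf'
      obtain ⟨-, -, -, hE, hpA, hp1, -, -⟩ := oE_facts i'
      exact c.ZT_conj ((hi _ hpA hp1).2 hE) hn
  obtain ⟨q', hq'⟩ := c.exists_ι hgx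
  obtain ⟨hqq', hq1'⟩ := c.inv_pre (q := q') (by rw [hq']; exact order_conj g (c.order_ι hqq hq1))
  have hzt' : ZT c q' := c.ZT_conj hzt hq'.symm
  refine c.mem_EG.2 ⟨q', ?_, hq'⟩
  by_cases hA : M8.InA q'
  · exact (hi q' hA hq1').1 hzt'
  · obtain ⟨i', n, -, ha, hf', hn⟩ := c.outer_fused hsol hf hqq' hA
    obtain ⟨-, -, -, -, hpA, hp1, -, -⟩ := oE_facts i'
    obtain rfl : i = i' := pE_inE i i' ((hi _ hpA hp1).1 ((c.zt_congr hn).2 hzt'))
    exact inE_parity i q' hqq' ha hf'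

theorem card_Qg : Nat.card c.Qg = 32 := by
  rw [Typed.Qg, card_map_of_injective c.ι_inj]
  exact (Nat.card_eq_fintype_card (α := {q : M8 // M8.InQ q})).trans M8.card_Q_elts

theorem extraspecial_Qg : Cfsg.IsExtraspecial 2 c.Qg := by
  obtain ⟨hc, hs, hz, a, ha, b, hb, hab⟩ := Q_extra
  refine Cfsg.Lib.LargeExtra.isExtraspecial_of (z := c.zG) (IsPGroup.of_card (n := 5) (card_Qg c))
    (c.mem_Qg.2 ⟨M8.z, M8.z_facts.2.2.2, rfl⟩) (fun e => M8.z_facts.2.1 (c.ι_eq_one.1 e))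
    (c.ι_sq M8.z_facts.1) ?_ ?_ ?_ ?_ ⟨c.ι a, c.mem_Qg.2 ⟨a, ha, rfl⟩, c.ι b, c.mem_Qg.2 ⟨b, hb, rfl⟩,
      fun e => hab (c.ι_inj (by rw [map_mul, map_mul]; exact e.eq))⟩
  · intro x hx
    obtain ⟨q, -, rfl⟩ := c.mem_Qg.1 hx
    exact c.ι_comm (M8.z_central q)
  · intro x hx y hy
    obtain ⟨p, hp, rfl⟩ := c.mem_Qg.1 hx
    obtain ⟨q, hq, rfl⟩ := c.mem_Qg.1 hy
    rw [commutatorElement_def, ← map_inv, ← map_inv, ← map_mul, ← map_mul, ← map_mul]
    rcases hc p hp q hq with e | e <;> rw [e]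
    · exact Or.inl (map_one _)
    · exact Or.inr rfl
  · intro x hx
    obtain ⟨p, hp, rfl⟩ := c.mem_Qg.1 hx
    rw [← map_mul]
    rcases hs p hp with e | e <;> rw [e]
    · exact Or.inl (map_one _)
    · exact Or.inr rfl
  · intro x hx hall
    obtain ⟨w, hw, rfl⟩ := c.mem_Qg.1 hx
    rcases hz w hw (fun a ha => c.ι_inj (by
        rw [map_mul, map_mul]; exact (hall _ (c.mem_Qg.2 ⟨a, ha, rfl⟩)).eq)) with e | e <;> rw [e]
    · exact Or.inl (map_one _)
    · exact Or.inr rfl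

/-- The configuration leads to the alternating groups of degree eight and nine. -/
theorem shapeThree_result (hcore2 : Cfsg.pCore 2 G = ⊥) (hodd : Cfsg.oddCore G = ⊥)
    {hsol : Group.IsSolvable ↥(centralizer ({c.zG} : Set G))} (h : ShapeThree (c.loc hsol)) :
    Nonempty (G ≃* ↥(alternatingGroup (Fin 8))) ∨ Nonempty (G ≃* ↥(alternatingGroup (Fin 9))) := by
  haveI : Fact (Nat.Prime 2) := ⟨Nat.prime_two⟩
  haveI : Fact (Nat.Prime 3) := ⟨Nat.prime_three⟩
  rcases orbit_three c (stabS_of_shapeThree c h) (exists_moved c hcore2 hodd) with ⟨i, hi⟩ | ⟨j, k, hp⟩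
  · exact (not_strongly_closed c hcore2 hodd i (strongly_closed c h hi)).elim
  have hO := core_three c hodd hsol h hp
  obtain ⟨hQn, hidx, hNA, -, -, -, hfree⟩ := h
  set D := c.loc hsol with hD
  set L := centralizer ({c.zG} : Set G) with hL
  have hbij := qm_bijective c hO
  let E : ↥L ≃* Qt c.zG := MulEquiv.ofBijective (qm c.zG) hbij
  have hnA : ¬ (M8.A.map D.ι).Normal := fun hn => by
    haveI := hn
    have : D.NA = ⊤ := normalizer_eq_top _
    rw [hNA] at this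
    rw [this, index_top] at hidx
    omega
  have hR : Cfsg.pCore 2 (Qt c.zG) = M8.Q.map c.κ := by
    obtain h' | ⟨-, h'⟩ := core_cases D
    · exact absurd h' hnA
    · show D.R = M8.Q.map D.ι
      rw [← map_RM D, h']
  have hmem : ∀ x : ↥L, x ∈ Cfsg.pCore 2 ↥L ↔ qm c.zG x ∈ M8.Q.map c.κ := fun x => by
    rw [← hR, ← Cfsg.Lib.Components.pCore_map_equiv (p := 2) E]
    exact ⟨fun hx => ⟨x, hx, rfl⟩, fun ⟨y, hy, e⟩ => hbij.1 e ▸ hy⟩
  have hQ : c.Qg = (Cfsg.pCore 2 ↥L).map L.subtype := by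
    ext x
    constructor
    · intro hx
      obtain ⟨q, hq, rfl⟩ := c.mem_Qg.1 hx
      exact ⟨⟨c.ι q, c.ι_cent q⟩, (hmem _).2 ⟨q, hq, rfl⟩, rfl⟩
    · rintro ⟨y, hy, rfl⟩
      obtain ⟨q, hq, e⟩ := (hmem y).1 hy
      obtain rfl : (⟨c.ι q, c.ι_cent q⟩ : ↥L) = y := hbij.1 e
      exact c.mem_Qg.2 ⟨q, hq, rfl⟩
  -- orders
  have hcQ : Nat.card (Qt c.zG) = 192 := by
    rw [← D.ι.range.card_mul_index, hidx, Nat.card_congr (MonoidHom.ofInjective D.inj).toEquiv.symm, M8.card_M8]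
  have hcL : Nat.card ↥L = 192 := (Nat.card_congr E.toEquiv).trans hcQ
  have hcP : Nat.card (Cfsg.pCore 2 ↥L) = 32 := by
    rw [← card_map_of_injective L.subtype_injective, ← hQ, card_Qg]
  -- the quotient by the two-core
  set R' : Subgroup ↥L := c.κ.range.comap (qm c.zG) with hR'
  have hR'i : R'.index = 3 := by rw [hR', index_comap_of_surjective _ hbij.2]; exact hidx
  have hker : (MulAction.toPermHom ↥L (↥L ⧸ R')).ker = Cfsg.pCore 2 ↥L := by
    rw [← normalCore_eq_ker]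
    refine le_antisymm (le_sSup ⟨normalCore_normal R', ?_⟩) (normal_le_normalCore.2 fun x hx => ?_)
    · have h2 : IsPGroup 2 c.κ.range := IsPGroup.of_card (n := 6) (by
        rw [Nat.card_congr (MonoidHom.ofInjective c.κ_inj).toEquiv.symm, M8.card_M8]; rfl)
      exact (h2.comap_of_injective _ hbij.1).to_le (normalCore_le R')
    · obtain ⟨q, -, e⟩ := (hmem x).1 hx
      exact ⟨q, e⟩
  let f : ↥L ⧸ Cfsg.pCore 2 ↥L →* Equiv.Perm (↥L ⧸ R') :=
    QuotientGroup.lift _ (MulAction.toPermHom ↥L (↥L ⧸ R')) hker.ge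
  have hfb : Function.Bijective f := by
    refine (Nat.bijective_iff_injective_and_card f).2 ⟨?_, ?_⟩
    · refine (MonoidHom.ker_eq_bot_iff f).1 ?_
      rw [QuotientGroup.ker_lift, hker, QuotientGroup.map_mk'_self]
    · have h1 := (Cfsg.pCore 2 ↥L).card_eq_card_quotient_mul_card_subgroup
      rw [hcL, hcP] at h1
      rw [Nat.card_perm, (index_eq_card R').symm.trans hR'i, show Nat.factorial 3 = 6 from rfl]
      omega
  have e3 : (↥L ⧸ R') ≃ Fin 3 := Finite.equivFinOfCardEq (by rw [← index_eq_card, hR'i])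
  let e : ↥L ⧸ Cfsg.pCore 2 ↥L ≃* Equiv.Perm (Fin 3) :=
    (MulEquiv.ofBijective f hfb).trans e3.permCongrHom
  -- a Sylow three-subgroup
  obtain ⟨X⟩ : Nonempty (Sylow 3 ↥L) := inferInstance
  have hX3 : Nat.card (X : Subgroup ↥L) = 3 := by
    rw [X.card_eq_multiplicity, hcL, show (192 : ℕ) = 2 ^ 6 * 3 by norm_num,
      Nat.factorization_mul (by norm_num) (by norm_num), Finsupp.add_apply,
      Nat.Prime.factorization_pow Nat.prime_two, Nat.Prime.factorization Nat.prime_three]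
    simp
  obtain ⟨x, hx1⟩ : ∃ x : (X : Subgroup ↥L), x ≠ 1 := by
    have : Nontrivial (X : Subgroup ↥L) := Finite.one_lt_card_iff_nontrivial.1 (by omega)
    exact exists_ne 1
  have hx3 : (x : ↥L) * x * x = 1 := by
    have h1 := pow_card_eq_one' (x := x)
    rw [hX3, pow_succ, pow_two] at h1
    exact congrArg Subtype.val h1
  have hCQ : c.Qg ⊓ centralizer (((X : Subgroup ↥L).map L.subtype : Subgroup G) : Set G) = zpowers c.zG := by
    refine le_antisymm ?_ (zpowers_le.2 ⟨c.mem_Qg.2 ⟨M8.z, M8.z_facts.2.2.2, rfl⟩, mem_centralizer_iff.2 ?_⟩)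
    · rintro y ⟨hy, hyc⟩
      obtain ⟨q, hq, rfl⟩ := c.mem_Qg.1 hy
      have hcomm : (x : ↥L) * ⟨c.ι q, c.ι_cent q⟩ = ⟨c.ι q, c.ι_cent q⟩ * x :=
        Subtype.ext (mem_centralizer_iff.1 hyc _ ⟨x, x.2, rfl⟩)
      have hq' := hfree (qm c.zG x) (by rw [← map_mul, ← map_mul, hx3, map_one])
        (fun e => hx1 (Subtype.ext (hbij.1 (e.trans (map_one _).symm)))) q hq (by
          show qm c.zG x * qm c.zG ⟨c.ι q, c.ι_cent q⟩ = qm c.zG ⟨c.ι q, c.ι_cent q⟩ * qm c.zG x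
          rw [← map_mul, ← map_mul, hcomm])
      rcases hq' with rfl | rfl
      · rw [map_one]; exact one_mem _
      · exact mem_zpowers _
    · rintro _ ⟨w, -, rfl⟩
      exact mem_centralizer_singleton_iff.1 w.2
  -- the central involution is not weakly closed
  obtain ⟨i, hiA, hiQ, hi1, hiz, hi6⟩ := other_pE j k
  obtain ⟨g, hg⟩ := isConj_iff.1 ((hp.zt _ hiA hi1).2 hi6)
  have hnwc : ∃ g : G, g * c.zG * g⁻¹ ∈ c.Qg ∧ g * c.zG * g⁻¹ ≠ c.zG :=
    ⟨g, hg ▸ c.mem_Qg.2 ⟨_, hiQ, rfl⟩, fun e => hiz (c.ι_inj (hg.symm.trans e))⟩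
  rcases Cfsg.Agent.S3344.result c.zG c.orderOf_zG L rfl c.Qg hQ (extraspecial_Qg c) (card_Qg c) e X hCQ hnwc with
    ⟨N, hN, -, -, hN8, -⟩ | h8 | h9 | h12
  · have hle : N ≤ Cfsg.pCore 2 G := le_sSup ⟨hN, IsPGroup.of_card (n := 3) hN8⟩
    rw [hcore2, le_bot_iff] at hle
    rw [hle, card_bot] at hN8
    omega
  · exact Or.inl h8
  · exact Or.inr h9
  · exact (not_M12 c.S c.e h12).elim

end Assembly

end Cfsg.Lib.AltEightSolv
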