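import Cfsg.Agent.AltEightSolv.Model
import Cfsg.Prelude

/-!
# The possible shapes of the centraliser of a central involution modulo its odd core

Only definitions: the four shapes of a solvable group with trivial odd core, central involution `z` and Sylow
2-subgroup in the coordinates of the model.
-/

set_option autoImplicit false

namespace Cfsg.Lib.AltEightSolv

universe u

/-- The three normal elementary subgroups of order eight meeting `A` in a four-group. -/
def InE : Fin 3 → M8 → Prop
  | 0, q => q.d = false ∧ q.e = false ∧ q.f = false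
  | 1, q => q.a = false ∧ q.b = false ∧ q.d = false
  | 2, q => q.d = false ∧ q.a = q.f ∧ q.b = q.e

instance : ∀ (i : Fin 3) (q : M8), Decidable (InE i q)
  | 0, q => inferInstanceAs (Decidable (q.d = false ∧ q.e = false ∧ q.f = false))
  | 1, q => inferInstanceAs (Decidable (q.a = false ∧ q.b = false ∧ q.d = false))
  | 2, q => inferInstanceAs (Decidable (q.d = false ∧ q.a = q.f ∧ q.b = q.e))

/-- The non-central involution of `InE i` inside `A`. -/
def pE : Fin 3 → M8 := ![M8.gb, M8.ge, M8.gb * M8.ge]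

/-- An involution of `InE i` outside `A`. -/
def oE : Fin 3 → M8 := ![M8.ga, M8.gf, M8.ga * M8.gf]

/-- The data of the problem: Sylow 2-subgroup in coordinates, solvable, no odd core, central `z`. -/
structure LocalHyp (H : Type u) [Group H] [Finite H] where
  /-- the coordinates -/
  ι : M8 →* H
  inj : Function.Injective ι
  sylow : ¬ 2 ∣ ι.range.index
  solv : IsSolvable H
  core : Cfsg.oddCore H = ⊥
  central : ι M8.z ∈ Subgroup.center H

variable {H : Type u} [Group H] [Finite H]

/-- An element of order three normalising the Sylow subgroup and permuting the cosets of `A` in it cyclically. -/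
def IsTri (D : LocalHyp H) (k : H) : Prop :=
  k * k * k = 1 ∧ k ≠ 1 ∧ ∀ q : M8, ∃ q' : M8, k * D.ι q * k⁻¹ = D.ι q' ∧ q'.a = q.f ∧ q'.f = (q.a ^^ q.f)

/-- The normaliser of `A`. -/
def LocalHyp.NA (D : LocalHyp H) : Subgroup H := Subgroup.normalizer ((M8.A.map D.ι : Subgroup H) : Set H)

/-- No odd subgroup other than the trivial one is normalised by `A`. -/
def NoOddA (D : LocalHyp H) : Prop :=
  ∀ K : Subgroup H, Odd (Nat.card K) → (∀ q, M8.InA q → ∀ x ∈ K, D.ι q * x * (D.ι q)⁻¹ ∈ K) → K = ⊥

/-- `A` is normal and the group is the Sylow subgroup, possibly extended by an element of order three. -/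
def ShapeA (D : LocalHyp H) : Prop :=
  (M8.A.map D.ι).Normal ∧ (D.ι.range = ⊤ ∨ (D.ι.range.index = 3 ∧ ∃ k, IsTri D k))

/-- The extension of the extraspecial group by the symmetric group of degree three. -/
def ShapeThree (D : LocalHyp H) : Prop :=
  (M8.Q.map D.ι).Normal ∧ D.ι.range.index = 3 ∧ D.NA = D.ι.range ∧ NoOddA D ∧
    (∀ i, ∀ h : H, ∀ q, InE i q → ∃ q', InE i q' ∧ h * D.ι q * h⁻¹ = D.ι q') ∧
    (∀ i, ∃ h : H, h * D.ι (pE i) * h⁻¹ = D.ι (oE i)) ∧
    (∀ k : H, k * k * k = 1 → k ≠ 1 → ∀ q, M8.InQ q → k * D.ι q = D.ι q * k → q = 1 ∨ q = M8.z)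

/-- The extension of the extraspecial group by a group of order eighteen. -/
def ShapeNine (D : LocalHyp H) : Prop :=
  (M8.Q.map D.ι).Normal ∧ D.ι.range.index = 9 ∧ NoOddA D ∧
    (D.ι.range.subgroupOf D.NA).index = 3 ∧ (∃ k, IsTri D k) ∧
    (∀ i, ∃ h : H, h * D.ι (pE i) * h⁻¹ = D.ι (oE i)) ∧
    (Subgroup.closure ((D.ι.range : Set H) ∪ (D.NA : Set H) ∪
      {h : H | ∀ q, InE 0 q → ∃ q', InE 0 q' ∧ h * D.ι q * h⁻¹ = D.ι q'}) = ⊤)

end Cfsg.Lib.AltEightSolv
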