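import Cfsg.Agent.AltEightSolv.Fusion
import Cfsg.Agent.AltEightSolv.Local
import Cfsg.Agent.Walter.LocalQuot
import Cfsg.Agent.LFourType.Moved

/-!
# The centraliser of the central involution modulo its odd core
-/

set_option autoImplicit false
set_option linter.style.haveILetI false
set_option linter.unusedSectionVars false

namespace Cfsg.Lib.AltEightSolv

open Subgroup
open Cfsg.Lib.Walter (Qt qm mem_Oc Oc)
open Cfsg.Lib.LFourType (odd_Oc Oc_le Oc_normalized)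

universe u

variable {G : Type u} [Group G] [Finite G] (c : Typed G)

namespace Typed

theorem S_le_cent : (c.S : Subgroup G) ≤ centralizer ({c.zG} : Set G) := fun _ hs =>
  mem_centralizer_singleton_iff.2 (c.zG_comm hs)

theorem ι_cent (q : M8) : c.ι q ∈ centralizer ({c.zG} : Set G) := c.S_le_cent (c.ι_mem q)

/-- The coordinates in the quotient. -/
def κ : M8 →* Qt c.zG := (qm c.zG).comp (c.ι.codRestrict _ c.ι_cent)

theorem κ_def (q : M8) : c.κ q = qm c.zG ⟨c.ι q, c.ι_cent q⟩ := rfl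

theorem κ_inj : Function.Injective c.κ := by
  refine (injective_iff_map_eq_one c.κ).2 fun q hq => c.ι_eq_one.1 ?_
  have hm : c.ι q ∈ Oc c.zG := mem_Oc.2 ⟨c.ι_cent q, hq⟩
  obtain ⟨j, hj⟩ := c.S.2 ⟨c.ι q, c.ι_mem q⟩
  have hj' : c.ι q ^ 2 ^ j = 1 := congrArg Subtype.val hj
  refine orderOf_eq_one_iff.1 (Nat.eq_one_of_dvd_coprimes
    ((Nat.coprime_two_left.2 ((odd_Oc c.zG).of_dvd_nat (Subgroup.orderOf_dvd_natCard _ hm))).pow_left j)
    (orderOf_dvd_of_pow_eq_one hj') dvd_rfl)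

theorem κ_sylow : ¬ 2 ∣ c.κ.range.index := by
  haveI : Fact (Nat.Prime 2) := ⟨Nat.prime_two⟩
  let P : Sylow 2 (Qt c.zG) := (c.S.subtype c.S_le_cent).mapSurjective (QuotientGroup.mk'_surjective _)
  have h : (P : Subgroup (Qt c.zG)) = c.κ.range := by
    ext y
    constructor
    · rintro ⟨⟨x, hx⟩, hxS, rfl⟩
      obtain ⟨q, rfl⟩ := c.exists_ι hxS
      exact ⟨q, rfl⟩
    · rintro ⟨q, rfl⟩
      exact ⟨⟨c.ι q, c.ι_cent q⟩, c.ι_mem q, rfl⟩
  exact h ▸ P.not_dvd_index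

theorem κ_central : c.κ M8.z ∈ center (Qt c.zG) := by
  refine mem_center_iff.2 fun y => ?_
  obtain ⟨⟨x, hx⟩, rfl⟩ := QuotientGroup.mk'_surjective _ y
  rw [c.κ_def, ← map_mul, ← map_mul]
  exact congrArg _ (Subtype.ext (mem_centralizer_singleton_iff.1 hx))

/-- The centraliser modulo its core as local data. -/
def loc (hsol : IsSolvable ↥(centralizer ({c.zG} : Set G))) : LocalHyp (Qt c.zG) where
  ι := c.κ
  inj := c.κ_inj
  sylow := c.κ_sylow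
  solv :=
    haveI : Group.IsSolvable ↥(centralizer ({c.zG} : Set G)) := hsol
    solvable_of_surjective (QuotientGroup.mk'_surjective _)
  core := Cfsg.Lib.Components.pPrimeCore_quotient_eq_bot
  central := c.κ_central

/-- A conjugation in the quotient of the image of a subgroup of the model lifts exactly. -/
theorem lift {g : G} (hg : g ∈ centralizer ({c.zG} : Set G)) (D E : Subgroup M8)
    (h : ∀ q ∈ D, ∃ q' ∈ E, qm c.zG ⟨g, hg⟩ * c.κ q * (qm c.zG ⟨g, hg⟩)⁻¹ = c.κ q') :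
    ∃ o ∈ Oc c.zG, ∀ q ∈ D, ∃ q' ∈ E, qm c.zG ⟨g, hg⟩ * c.κ q * (qm c.zG ⟨g, hg⟩)⁻¹ = c.κ q' ∧
      o * g * c.ι q * (o * g)⁻¹ = c.ι q' := by
  haveI : Fact (Nat.Prime 2) := ⟨Nat.prime_two⟩
  set O := Oc c.zG with hO
  set P := E.map c.ι with hP
  set K := P ⊔ O with hK
  have hPc : P ≤ centralizer ({c.zG} : Set G) := by rintro _ ⟨q, -, rfl⟩; exact c.ι_cent q
  have hPN : P ≤ normalizer (O : Set G) := fun x hx => Oc_normalized (hPc hx)
  have hP2 : IsPGroup 2 P := c.S.2.to_le (by rintro _ ⟨q, -, rfl⟩; exact c.ι_mem q)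
  have hPK : ¬ 2 ∣ (P.subgroupOf K).index := by
    show ¬ 2 ∣ P.relIndex K
    haveI : (O.subgroupOf K).Normal :=
      (normal_subgroupOf_iff_le_normalizer le_sup_right).2 (sup_le hPN le_normalizer)
    have hd : P.relIndex K ∣ Nat.card O := by
      have h1 : Nat.card K ∣ Nat.card P * Nat.card O := by
        have := Cfsg.Lib.Components.card_sup_dvd_mul (O.subgroupOf K) (P.subgroupOf K)
        rw [sup_comm, ← subgroupOf_sup le_sup_left le_sup_right, subgroupOf_self, card_top,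
          Nat.card_congr (subgroupOfEquivOfLe (le_sup_right : O ≤ K)).toEquiv,
          Nat.card_congr (subgroupOfEquivOfLe (le_sup_left : P ≤ K)).toEquiv, mul_comm] at this
        exact this
      rw [← relIndex_bot_left K, ← relIndex_mul_relIndex ⊥ P K bot_le le_sup_left, relIndex_bot_left] at h1
      exact Nat.dvd_of_mul_dvd_mul_left Nat.card_pos h1
    intro h2
    exact Nat.not_even_iff_odd.2 (odd_Oc c.zG) (even_iff_two_dvd.2 (h2.trans hd))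
  let PS : Sylow 2 K := (hP2.of_equiv (subgroupOfEquivOfLe (le_sup_left : P ≤ K)).symm).toSylow hPK
  set R := (D.map c.ι).map (MulAut.conj g).toMonoidHom with hR
  have hRK : R ≤ K := by
    rintro _ ⟨_, ⟨q, hq, rfl⟩, rfl⟩
    obtain ⟨q', hq', he⟩ := h q hq
    have hm : g * c.ι q * g⁻¹ * (c.ι q')⁻¹ ∈ O := mem_Oc.2
      ⟨mul_mem (mul_mem (mul_mem hg (c.ι_cent q)) (inv_mem hg)) (inv_mem (c.ι_cent q')), by
        show qm c.zG (⟨g, hg⟩ * ⟨c.ι q, c.ι_cent q⟩ * ⟨g, hg⟩⁻¹ * ⟨c.ι q', c.ι_cent q'⟩⁻¹) = 1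
        rw [map_mul, map_mul, map_mul, map_inv, map_inv, ← c.κ_def, ← c.κ_def, he, mul_inv_cancel]⟩
    simpa using mul_mem (mem_sup_right hm : g * c.ι q * g⁻¹ * (c.ι q')⁻¹ ∈ K)
      (mem_sup_left (⟨q', hq', rfl⟩ : c.ι q' ∈ P))
  obtain ⟨d, hd⟩ := Cfsg.Lib.InvolCalc.exists_conj_le PS
    ((((c.S.2.to_le (show D.map c.ι ≤ _ by rintro _ ⟨q, -, rfl⟩; exact c.ι_mem q)).map
      (MulAut.conj g).toMonoidHom)).of_equiv (subgroupOfEquivOfLe hRK).symm)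
  obtain ⟨o, ho, p, hp, hop⟩ : ∃ o ∈ O, ∃ p ∈ P, o * p = (d : G) := by
    have hm : (d : G) ∈ ((P ⊔ O : Subgroup G) : Set G) := d.2
    rw [sup_comm, coe_mul_of_right_le_normalizer_left _ _ hPN] at hm
    exact hm
  refine ⟨o⁻¹, inv_mem ho, fun q hq => ?_⟩
  have hm : g * c.ι q * g⁻¹ ∈ R := ⟨c.ι q, ⟨q, hq, rfl⟩, rfl⟩
  have h2 : (d : G)⁻¹ * (g * c.ι q * g⁻¹) * (d : G) ∈ P := hd ⟨_, hRK hm⟩ hm
  rw [← hop] at h2
  have h3 : o⁻¹ * g * c.ι q * (o⁻¹ * g)⁻¹ ∈ P := by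
    have := mul_mem (mul_mem hp h2) (inv_mem hp)
    rwa [show p * ((o * p)⁻¹ * (g * c.ι q * g⁻¹) * (o * p)) * p⁻¹ = o⁻¹ * g * c.ι q * (o⁻¹ * g)⁻¹ by group] at this
  obtain ⟨q'', hq'', he⟩ := h3
  refine ⟨q'', hq'', ?_, he.symm⟩
  obtain ⟨hoC, ho1⟩ := mem_Oc.1 (inv_mem ho)
  have : c.κ q'' = qm c.zG (⟨o⁻¹, hoC⟩ * ⟨g, hg⟩ * ⟨c.ι q, c.ι_cent q⟩ * (⟨o⁻¹, hoC⟩ * ⟨g, hg⟩)⁻¹) := by
    rw [c.κ_def]; exact congrArg _ (Subtype.ext he)
  rw [this, map_mul, map_mul, map_inv, map_mul, ho1, one_mul, ← c.κ_def]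

/-- A single element. -/
theorem lift_one {g : G} (hg : g ∈ centralizer ({c.zG} : Set G)) {q q' : M8}
    (h : qm c.zG ⟨g, hg⟩ * c.κ q * (qm c.zG ⟨g, hg⟩)⁻¹ = c.κ q') :
    ∃ n ∈ centralizer ({c.zG} : Set G), n * c.ι q * n⁻¹ = c.ι q' := by
  obtain ⟨o, ho, ho'⟩ := c.lift hg (zpowers q) (zpowers q') fun x hx => by
    obtain ⟨i, rfl⟩ := mem_zpowers_iff.1 hx
    exact ⟨q' ^ i, ⟨i, rfl⟩, by rw [map_zpow, map_zpow, ← h, conj_zpow]⟩
  obtain ⟨q'', -, he, he'⟩ := ho' q (mem_zpowers q)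
  exact ⟨o * g, mul_mem (Oc_le _ ho) hg, c.κ_inj (h.symm.trans he) ▸ he'⟩

/-- Fusion in the quotient of elements of the model lifts. -/
theorem fused_of_κ {y : Qt c.zG} {q q' : M8} (h : y * c.κ q * y⁻¹ = c.κ q') :
    ∃ n ∈ centralizer ({c.zG} : Set G), n * c.ι q * n⁻¹ = c.ι q' := by
  obtain ⟨⟨g, hg⟩, rfl⟩ := QuotientGroup.mk'_surjective _ y
  exact c.lift_one hg h

end Typed

end Cfsg.Lib.AltEightSolv
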