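import Cfsg.Agent.AltEightSolv.CoreTools

/-!
# Common part of the two core arguments
-/

set_option autoImplicit false
set_option linter.unusedSectionVars false
set_option linter.style.haveILetI false
set_option maxRecDepth 100000

namespace Cfsg.Lib.AltEightSolv

open Subgroup
open Cfsg.Lib.Walter (Oc qm Qt mem_Oc)
open Cfsg.Lib.LFourType (conj_Oc odd_Oc Oc_le Oc_normalized le_of_four' sq_mem_imp)

universe u

variable {G : Type u} [Group G] [Finite G]

/-- Two commuting involutions and an involution stabilising their pair generate a 2-group. -/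
theorem pair_two_group {b p y : G} (hb : orderOf b = 2) (hp : orderOf p = 2) (hy : orderOf y = 2)
    (hbp : p * b = b * p) (hyb : y * b = b * y) (h : y * p * y⁻¹ = p ∨ y * p * y⁻¹ = p * b) :
    IsPGroup 2 (zpowers y ⊔ (zpowers b ⊔ zpowers p) : Subgroup G) := by
  haveI : Fact (Nat.Prime 2) := ⟨Nat.prime_two⟩
  have h2 : ∀ {x : G}, orderOf x = 2 → IsPGroup 2 (zpowers x) := fun {x} hx =>
    IsPGroup.of_card (n := 1) (by rw [Nat.card_zpowers, hx, pow_one])
  have hpb : zpowers p ≤ normalizer ((zpowers b : Subgroup G) : Set G) := zpowers_le.2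
    (ZStarApps.mem_normalizer_of_maps fun x hx => by
      obtain ⟨i, rfl⟩ := mem_zpowers_iff.1 hx
      exact ⟨i, by rw [← conj_zpow, hbp, mul_inv_cancel_right]⟩)
  have hV := (h2 hb).to_sup_of_normal_left' (h2 hp) hpb
  refine (h2 hy).to_sup_of_normal_right' hV (zpowers_le.2 (ZStarApps.mem_normalizer_of_maps fun x hx => ?_))
  have hle : zpowers b ⊔ zpowers p ≤ (zpowers b ⊔ zpowers p).comap (MulAut.conj y).toMonoidHom := by
    refine sup_le (zpowers_le.2 ?_) (zpowers_le.2 ?_)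
    · show y * b * y⁻¹ ∈ zpowers b ⊔ zpowers p
      rw [hyb, mul_inv_cancel_right]; exact mem_sup_left (mem_zpowers b)
    · show y * p * y⁻¹ ∈ zpowers b ⊔ zpowers p
      rcases h with e | e <;> rw [e]
      · exact mem_sup_right (mem_zpowers p)
      · exact mul_mem (mem_sup_right (mem_zpowers p)) (mem_sup_left (mem_zpowers b))
  exact hle hx

/-- The centraliser of `b` is solvable if it is core times pair stabiliser and the centraliser of `p` is. -/
theorem solvable_of_decomp {b p : G} (hb : b * b = 1) (hp : p * p = 1)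
    (hdec : ∀ g ∈ centralizer ({b} : Set G), ∃ o ∈ Oc b, o⁻¹ * g ∈ pairStab hb p)
    (hs : Group.IsSolvable ↥(centralizer ({p} : Set G))) : Group.IsSolvable ↥(centralizer ({b} : Set G)) := by
  haveI := hs
  set T := pairStab hb p with hT
  haveI : Group.IsSolvable ↥(zpowers b) := Group.isSolvable_of_comm fun x y => by
    obtain ⟨i, hi⟩ := mem_zpowers_iff.1 x.2
    obtain ⟨j, hj⟩ := mem_zpowers_iff.1 y.2
    exact Subtype.ext (by show (x : G) * y = y * x; rw [← hi, ← hj, ← zpow_add, ← zpow_add, add_comm])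
  let χ : ↥T →* ↥(zpowers b) := MonoidHom.mk' (fun t => ⟨p * ((t : G) * p * (t : G)⁻¹), by
      rcases t.2.2 with e | e <;> rw [e]
      · rw [hp]; exact one_mem _
      · rw [← mul_assoc, hp, one_mul]; exact mem_zpowers b⟩) fun s t => Subtype.ext (by
    show p * ((s : G) * t * p * ((s : G) * t)⁻¹) = p * (s * p * (s : G)⁻¹) * (p * (t * p * (t : G)⁻¹))
    have hsb : (s : G) * b * (s : G)⁻¹ = b := by rw [s.2.1, mul_inv_cancel_right]
    rw [show (s : G) * t * p * ((s : G) * t)⁻¹ = (s : G) * ((t : G) * p * (t : G)⁻¹) * (s : G)⁻¹ by group]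
    rcases t.2.2 with e | e <;> rw [e]
    · rw [hp, mul_one]
    · rw [← mul_assoc p p b, hp, one_mul]
      calc p * ((s : G) * (p * b) * (s : G)⁻¹) = p * ((s : G) * p * (s : G)⁻¹) * ((s : G) * b * (s : G)⁻¹) := by
            group
        _ = _ := by rw [hsb])
  haveI : Group.IsSolvable ↥(T ⊓ centralizer ({p} : Set G)) :=
    Group.isSolvable_of_isSolvable_injective (f := inclusion inf_le_right) (inclusion_injective _)
  haveI : Group.IsSolvable ↥T := Group.isSolvable_of_ker_le_range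
    (inclusion (inf_le_left : T ⊓ centralizer ({p} : Set G) ≤ T)) χ fun t ht => by
    refine ⟨⟨t, t.2, mem_centralizer_singleton_iff.2 ?_⟩, rfl⟩
    have h1 : p * ((t : G) * p * (t : G)⁻¹) = 1 := congrArg Subtype.val (MonoidHom.mem_ker.1 ht)
    rw [mul_eq_one_iff_eq_inv, eq_inv_iff_mul_eq_one] at h1
    refine mul_inv_eq_iff_eq_mul.1 ?_
    calc (t : G) * p * (t : G)⁻¹ = p * (p * ((t : G) * p * (t : G)⁻¹)) := by rw [← mul_assoc p p, hp, one_mul]
      _ = p := by rw [h1, mul_one]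
  haveI : Group.IsSolvable ↥(Cfsg.pPrimeCore 2 ↥(centralizer ({b} : Set G))) :=
    Cfsg.Agent.PF.isSolvable_of_odd _ (Cfsg.Lib.AltEightType.odd_oddCore _)
  have hTC : T ≤ centralizer ({b} : Set G) := fun t ht => mem_centralizer_singleton_iff.2 ht.1
  haveI : Group.IsSolvable (↥(centralizer ({b} : Set G)) ⧸ Cfsg.pPrimeCore 2 ↥(centralizer ({b} : Set G))) :=
    Group.isSolvable_of_surjective (f := (qm b).comp (inclusion hTC)) fun x => by
      obtain ⟨⟨g, hg⟩, rfl⟩ := QuotientGroup.mk'_surjective _ x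
      obtain ⟨o, ho, ht⟩ := hdec g hg
      obtain ⟨hoC, ho1⟩ := mem_Oc.1 ho
      refine ⟨⟨_, ht⟩, ?_⟩
      show qm b (⟨o, hoC⟩⁻¹ * ⟨g, hg⟩) = qm b ⟨g, hg⟩
      rw [map_mul, map_inv, ho1, inv_one, one_mul]
  exact Group.isSolvable_of_ker_le_range (Cfsg.pPrimeCore 2 ↥(centralizer ({b} : Set G))).subtype (qm b)
    (by rw [QuotientGroup.ker_mk', range_subtype])

/-- The elementary subgroup `InE i` of the model. -/
def EM (i : Fin 3) : Subgroup M8 where
  carrier := {q | InE i q}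
  one_mem' := by revert i; decide +kernel
  mul_mem' := fun {p q} => by revert i p q; decide +kernel
  inv_mem' := fun {p} => by revert i p; decide +kernel

theorem EM_elem : ∀ (i : Fin 3) (p q : M8), InE i p → InE i q → p * q = q * p ∧ p * p = 1 := by decide +kernel

theorem EM_card : ∀ i : Fin 3, (Finset.univ.filter fun q : M8 => InE i q).card = 8 ∧
    (Finset.univ.filter fun q : M8 => InE i q ∧ M8.InA q).card = 4 := by decide +kernel

theorem out_oE : ∀ q : M8, q * q = 1 → M8.Out q → ∃ i : Fin 3, q.a = (oE i).a ∧ q.f = (oE i).f := by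
  decide +kernel

theorem oE_facts : ∀ i : Fin 3, oE i * oE i = 1 ∧ M8.Out (oE i) ∧ InE i (oE i) ∧
    InE i (pE i) ∧ M8.InA (pE i) ∧ pE i ≠ 1 ∧ pE i ≠ M8.z ∧ InE i M8.z := by decide +kernel

namespace Typed

variable (c : Typed G)

theorem ι_comm {p q : M8} (h : p * q = q * p) : c.ι p * c.ι q = c.ι q * c.ι p := by
  rw [← map_mul, ← map_mul, h]

theorem ι_sq {q : M8} (h : q * q = 1) : c.ι q * c.ι q = 1 := by rw [← map_mul, h, map_one]

theorem pre_sq {q : M8} (h : c.ι q * c.ι q = 1) : q * q = 1 := c.ι_inj (by rw [map_mul, h, map_one])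

theorem ι_cent_of {p q : M8} (h : p * q = q * p) : c.ι p ∈ centralizer ({c.ι q} : Set G) :=
  mem_centralizer_singleton_iff.2 (c.ι_comm h)

theorem pre_cent {p q : M8} (h : c.ι p ∈ centralizer ({c.ι q} : Set G)) : p * q = q * p :=
  c.ι_inj (by rw [map_mul, map_mul]; exact mem_centralizer_singleton_iff.1 h)

theorem card_map_ι (P : Subgroup M8) (π : M8 → Prop) [DecidablePred π] (h : ∀ q, q ∈ P ↔ π q) :
    Nat.card (P.map c.ι) = (Finset.univ.filter π).card := by
  rw [← Nat.card_eq_finsetCard, ← Nat.card_congr (P.equivMapOfInjective c.ι c.ι_inj).toEquiv]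
  exact Nat.card_congr (Equiv.subtypeEquivRight fun q => by rw [h, Finset.mem_filter]; simp)

/-- The elementary subgroup `InE i` inside the group. -/
def Eg (i : Fin 3) : Subgroup G := (EM i).map c.ι

theorem mem_Eg {i : Fin 3} {x : G} : x ∈ c.Eg i ↔ ∃ q, InE i q ∧ c.ι q = x := Subgroup.mem_map

theorem Eg_comm (i : Fin 3) : ∀ x ∈ c.Eg i, ∀ y ∈ c.Eg i, x * y = y * x := by
  rintro _ ⟨p, hp, rfl⟩ _ ⟨q, hq, rfl⟩
  exact c.ι_comm (EM_elem i p q hp hq).1

theorem Eg_sq (i : Fin 3) : ∀ x ∈ c.Eg i, x * x = 1 := by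
  rintro _ ⟨p, hp, rfl⟩
  exact c.ι_sq (EM_elem i p p hp hp).2

theorem card_Eg (i : Fin 3) : Nat.card (c.Eg i) = 8 :=
  (c.card_map_ι (EM i) (InE i) fun _ => Iff.rfl).trans (EM_card i).1

theorem card_Eg_inf (i : Fin 3) : Nat.card (c.Eg i ⊓ c.Ag : Subgroup G) = 4 := by
  rw [Eg, Typed.Ag, ← Subgroup.map_inf _ _ _ c.ι_inj]
  exact (c.card_map_ι (EM i ⊓ M8.A) (fun q => InE i q ∧ M8.InA q) fun _ => Iff.rfl).trans (EM_card i).2

theorem S_le_normalizer_Ag : (c.S : Subgroup G) ≤ normalizer (c.Ag : Set G) := fun s hs =>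
  c.mem_normalizer_Ag fun x hx => by
    obtain ⟨g, rfl⟩ := c.exists_ι hs
    obtain ⟨q, hq, rfl⟩ := c.mem_Ag.1 hx
    exact c.mem_Ag.2 ⟨_, M8.inA_conj g q hq, by rw [map_mul, map_mul, map_inv]⟩

theorem conj_Ag {n x : G} (hn : n ∈ normalizer (c.Ag : Set G)) (hx : x ∈ c.Ag) : n * x * n⁻¹ ∈ c.Ag :=
  (mem_normalizer_iff.1 hn x).1 hx

theorem not_ZT_conj {p q : M8} (hp : ¬ ZT c p) {g : G} (h : g * c.ι p * g⁻¹ = c.ι q) : ¬ ZT c q := fun hq =>
  hp (hq.trans (isConj_iff.2 ⟨g, h⟩).symm)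

theorem ZT_conj {p q : M8} (hp : ZT c p) {g : G} (h : g * c.ι p * g⁻¹ = c.ι q) : ZT c q :=
  hp.trans (isConj_iff.2 ⟨g, h⟩)

variable {c}

theorem solvable_ZT (hsol : Group.IsSolvable ↥(centralizer ({c.zG} : Set G))) {q : M8} (h : ZT c q) :
    Group.IsSolvable ↥(centralizer ({c.ι q} : Set G)) := by
  obtain ⟨g, hg⟩ := isConj_iff.1 h
  exact hg ▸ solvable_cent_conj hsol g

variable (c)

/-- Each involution outside `A` is conjugate inside the centraliser of `z` to some `pE i`. -/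
theorem outer_fused (hsol : Group.IsSolvable ↥(centralizer ({c.zG} : Set G)))
    (hf : ∀ i, ∃ h : Qt c.zG, h * (c.loc hsol).ι (pE i) * h⁻¹ = (c.loc hsol).ι (oE i))
    {q : M8} (hq : q * q = 1) (ho : M8.Out q) :
    ∃ i : Fin 3, ∃ n ∈ centralizer ({c.zG} : Set G), q.a = (oE i).a ∧ q.f = (oE i).f ∧
      n * c.ι (pE i) * n⁻¹ = c.ι q := by
  obtain ⟨i, ha, hfq⟩ := out_oE q hq ho
  obtain ⟨g, hg⟩ := M8.out_class (oE i) (oE_facts i).1 (oE_facts i).2.1 q hq ha hfq
  obtain ⟨h, hh⟩ := hf i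
  obtain ⟨n, hn, hn'⟩ := c.fused_of_κ hh
  refine ⟨i, c.ι g * n, mul_mem (c.ι_cent g) hn, ha, hfq, ?_⟩
  rw [show c.ι g * n * c.ι (pE i) * (c.ι g * n)⁻¹ = c.ι g * (n * c.ι (pE i) * n⁻¹) * (c.ι g)⁻¹ by group, hn',
    ← map_inv, ← map_mul, ← map_mul, hg]

/-- A 2-subgroup between the centraliser in the Sylow subgroup and the centraliser of an involution that is not
of central type is conjugate into the Sylow subgroup. -/
theorem cent_sylow {q : M8} (_hqq : q * q = 1) (hq1 : q ≠ 1) (hz : ¬ ZT c q)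
    (h32 : (Finset.univ.filter fun g : M8 => g * q = q * g).card = 32) {T : Subgroup G}
    (hT : T ≤ centralizer ({c.ι q} : Set G)) (hR : ∀ r : M8, r * q = q * r → c.ι r ∈ T)
    {Y : Subgroup G} (hY : IsPGroup 2 Y) (hYT : Y ≤ T) :
    ∃ t ∈ T, ∀ y ∈ Y, ∃ r : M8, r * q = q * r ∧ c.ι r = t * y * t⁻¹ := by
  haveI : Fact (Nat.Prime 2) := ⟨Nat.prime_two⟩
  set R := centralizer ({c.ι q} : Set G) ⊓ (c.S : Subgroup G) with hRdef
  have hcard : Nat.card R = 32 := by rw [hRdef, c.card_cent, h32]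
  have hRT : R ≤ T := fun x hx => by
    obtain ⟨r, rfl⟩ := c.exists_ι hx.2
    exact hR r (c.pre_cent hx.1)
  obtain ⟨P, hP⟩ := ((c.S.2.to_le (inf_le_right : R ≤ _)).of_equiv
    (subgroupOfEquivOfLe hRT).symm).exists_le_sylow
  set PG := (P : Subgroup T).map T.subtype with hPG
  have hPT : PG ≤ T := map_subtype_le _
  have hRP : R ≤ PG := fun r hr => ⟨⟨r, hRT hr⟩, hP hr, rfl⟩
  obtain ⟨h, -, hh⟩ := Cfsg.Lib.TwoFusion.exists_sylow_conj (H := ⊤) c.S le_top (P.isPGroup'.map T.subtype) le_top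
  set PS := PG.map (MulAut.conj h).toMonoidHom with hPS
  have hPSle : PS ≤ (c.S : Subgroup G) := by rintro _ ⟨x, hx, rfl⟩; exact hh x hx
  have hPSc : Nat.card PS = Nat.card PG := card_map_of_injective (MulEquiv.injective _)
  have hdvd := card_dvd_of_le hPSle
  rw [c.card_S, hPSc] at hdvd
  have h32le : 32 ≤ Nat.card PG := hcard ▸ Nat.card_le_card_of_injective _ (inclusion_injective hRP)
  have hne : Nat.card PG ≠ 64 := fun e => by
    have heq : PS = (c.S : Subgroup G) := eq_of_le_of_card_ge hPSle (by rw [c.card_S, hPSc, e])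
    obtain ⟨q', hq'⟩ := c.exists_ι (hh _ (hRP ⟨mem_centralizer_singleton_iff.2 rfl, c.ι_mem q⟩))
    have hcom : ∀ g : M8, q' * g = g * q' := fun g => c.ι_inj (by
      obtain ⟨x, hx, hxe⟩ : c.ι g ∈ PS := heq ▸ c.ι_mem g
      have hxq := mem_centralizer_singleton_iff.1 (hT (hPT hx))
      rw [map_mul, map_mul, hq', ← hxe]
      show h * c.ι q * h⁻¹ * (h * x * h⁻¹) = h * x * h⁻¹ * (h * c.ι q * h⁻¹)
      rw [conj_mul, conj_mul, hxq])
    rcases M8.center_eq q' ⟨hcom _, hcom _, hcom _⟩ with e' | e'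
    · rw [e', map_one] at hq'
      exact hq1 (c.ι_eq_one.1 (conj_eq_one_iff.1 hq'.symm))
    · exact hz ((isConj_iff.2 ⟨h, by rw [Typed.zG, ← e', hq']⟩ : IsConj (c.ι q) c.zG).symm)
  have hle : Nat.card PG ≤ 32 := by
    obtain ⟨m, hm⟩ := hdvd
    rcases Nat.lt_or_ge m 2 with hm2 | hm2
    · interval_cases m <;> omega
    · nlinarith
  have hPR : PG = R := (eq_of_le_of_card_ge hRP (by rw [hcard]; exact hle)).symm
  obtain ⟨d, hd⟩ := Cfsg.Lib.InvolCalc.exists_conj_le P (hY.of_equiv (subgroupOfEquivOfLe hYT).symm)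
  refine ⟨(d : G)⁻¹, inv_mem d.2, fun y hy => ?_⟩
  have h1 : (d : G)⁻¹ * y * (d : G) ∈ PG := ⟨_, hd ⟨y, hYT hy⟩ hy, rfl⟩
  rw [hPR] at h1
  obtain ⟨r, hr⟩ := c.exists_ι h1.2
  exact ⟨r, c.pre_cent (by rw [hr]; exact h1.1), by rw [hr, inv_inv]⟩

/-- The decomposition of the centraliser of an involution from the fusion of a pair. -/
theorem cent_decomp {q p : M8} (hqq : q * q = 1) (hq1 : q ≠ 1) (hz : ¬ ZT c q)
    (h32 : (Finset.univ.filter fun g : M8 => g * q = q * g).card = 32)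
    (hpp : p * p = 1) (hp1 : p ≠ 1) (hpq : p * q = q * p) (hne : p ≠ q)
    (key : ∀ g ∈ centralizer ({c.ι q} : Set G), ∀ r : M8, r * q = q * r → c.ι r = g * c.ι p * g⁻¹ →
      r = p ∨ r = p * q) {g : G} (hg : g ∈ centralizer ({c.ι q} : Set G)) :
    ∃ o ∈ Oc (c.ι q), o⁻¹ * g ∈ pairStab (c.ι_sq hqq) (c.ι p) := by
  refine pair_decomp (c.order_ι hqq hq1) (c.order_ι hpp hp1) (c.ι_comm hpq) (fun e => hne (c.ι_inj e))
    (c.ι_sq hqq) (fun g hgb hy => ?_) hg
  set b := c.ι q with hb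
  set y := g * c.ι p * g⁻¹ with hydef
  have hgC : g ∈ centralizer ({b} : Set G) := mem_centralizer_singleton_iff.2 hgb
  have hyC : y ∈ centralizer ({b} : Set G) := mul_mem (mul_mem hgC (c.ι_cent_of hpq)) (inv_mem hgC)
  obtain ⟨t, ht, htY⟩ := c.cent_sylow hqq hq1 hz h32 le_rfl (fun r hr => c.ι_cent_of hr)
    (pair_two_group (c.order_ι hqq hq1) (c.order_ι hpp hp1) (order_conj g (c.order_ι hpp hp1)) (c.ι_comm hpq)
      (mem_centralizer_singleton_iff.1 hyC) hy)
    (sup_le (zpowers_le.2 hyC) (sup_le (zpowers_le.2 (mem_centralizer_singleton_iff.2 rfl))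
      (zpowers_le.2 (c.ι_cent_of hpq))))
  obtain ⟨r, hr, hre⟩ := htY y (mem_sup_left (mem_zpowers _))
  obtain ⟨r1, hr1, hre1⟩ := htY (c.ι p) (mem_sup_right (mem_sup_right (mem_zpowers _)))
  have k1 := key t ht r1 hr1 hre1
  have k2 := key (t * g) (mul_mem ht hgC) r hr (by rw [hre, hydef]; group)
  have htb : t⁻¹ * b * t = b := by
    rw [mul_assoc, ← mem_centralizer_singleton_iff.1 ht, inv_mul_cancel_left]
  have hr' : r = r1 ∨ r = r1 * q := by
    rcases k1 with e1 | e1 <;> rcases k2 with e2 | e2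
    · exact Or.inl (e2.trans e1.symm)
    · exact Or.inr (by rw [e2, e1])
    · exact Or.inr (by rw [e2, e1, mul_assoc, hqq, mul_one])
    · exact Or.inl (e2.trans e1.symm)
  rcases hr' with e | e
  · left
    refine mul_left_cancel (a := t) (mul_right_cancel (b := t⁻¹) ?_)
    rw [← hre, ← hre1, e]
  · right
    calc y = t⁻¹ * c.ι r * t := by rw [hre]; group
      _ = c.ι p * (t⁻¹ * b * t) := by rw [e, map_mul, hre1, ← hb]; group
      _ = c.ι p * b := by rw [htb]

/-- The normaliser of `A` and a fused pair: the centralisers correspond. -/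
theorem cent_fused_le {M : Subgroup G} (hNA : normalizer (c.Ag : Set G) ≤ M) {p q : M8} (h : NFused c p q)
    (hp : centralizer ({c.ι p} : Set G) ≤ M) : centralizer ({c.ι q} : Set G) ≤ M := by
  obtain ⟨n, hn, e⟩ := h
  exact e ▸ cent_conj_le (hNA hn) hp

/-- An element of the centraliser of `z` whose image permutes a subgroup of the model lies in any overgroup of
the core and of the stabiliser of that subgroup. -/
theorem mem_of_lift {M : Subgroup G} (hOc : Oc c.zG ≤ M) (D : Subgroup M8)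
    (hD : ∀ n : G, (∀ q ∈ D, ∃ q' ∈ D, n * c.ι q * n⁻¹ = c.ι q') → n ∈ M) {g : G}
    (hg : g ∈ centralizer ({c.zG} : Set G))
    (h : ∀ q ∈ D, ∃ q' ∈ D, qm c.zG ⟨g, hg⟩ * c.κ q * (qm c.zG ⟨g, hg⟩)⁻¹ = c.κ q') : g ∈ M := by
  obtain ⟨o, ho, ho'⟩ := c.lift hg D D h
  have hn : o * g ∈ M := hD _ fun q hq => by
    obtain ⟨q', hq', -, e⟩ := ho' q hq
    exact ⟨q', hq', e⟩
  exact (mul_mem_cancel_left (hOc ho)).1 hn

end Typed

end Cfsg.Lib.AltEightSolv
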