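import Cfsg.Agent.AltEightSolv.CoreCommon

/-!
# The core in the configuration with a centraliser of index nine over the Sylow subgroup

The cores at the involutions of `A` generate an odd subgroup whose normaliser contains the centralisers of `z` and
`b`, and would be strongly embedded.
-/

set_option autoImplicit false
set_option linter.unusedSectionVars false
set_option linter.style.haveILetI false
set_option maxRecDepth 100000

namespace Cfsg.Lib.AltEightSolv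

open Subgroup
open Cfsg.Lib.Walter (Oc qm Qt mem_Oc)
open Cfsg.Lib.LFourType (conj_Oc odd_Oc Oc_le Oc_normalized le_of_four' sq_mem_imp)

universe u

/-- A representative of the pair at `gb`. -/
def z9 (k : Bool) : M8 := ⟨false, false, k, true, false, false⟩

theorem z9_facts : ∀ k : Bool, Four k (z9 k) ∧ Four k (z9 k * M8.gb) ∧ z9 k * z9 k = 1 ∧ z9 k ≠ 1 ∧
    z9 k * M8.gb = M8.gb * z9 k ∧ z9 k ≠ M8.gb ∧ M8.ga * M8.gb = M8.gb * M8.ga ∧
    M8.ga * z9 k * M8.ga⁻¹ = z9 k * M8.gb := by decide +kernel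

theorem gb_facts : M8.gb * M8.gb = 1 ∧ M8.gb ≠ 1 ∧ M8.gb ≠ M8.z ∧ M8.InA M8.gb ∧
    (∀ k, ¬ Four k M8.gb) ∧ (∀ k, ∀ i : Fin 3, ¬ Four k (pE i)) ∧
    (Finset.univ.filter fun g : M8 => g * M8.gb = M8.gb * g).card = 32 := by decide +kernel

theorem nine_pair : ∀ (k : Bool) (r : M8), M8.InA r → (r = M8.z ∨ Four k r) →
    (r * M8.gb = M8.z ∨ Four k (r * M8.gb)) → r = z9 k ∨ r = z9 k * M8.gb := by decide +kernel

variable {G : Type u} [Group G] [Finite G] (c : Typed G)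

theorem core_nine (hodd : Cfsg.oddCore G = ⊥)
    (hsol : Group.IsSolvable ↥(Subgroup.centralizer ({c.zG} : Set G))) (h : ShapeNine (c.loc hsol)) {k : Bool}
    (hp : PatNine c k) : Cfsg.Lib.Walter.Oc c.zG = ⊥ := by
  haveI : Fact (Nat.Prime 2) := ⟨Nat.prime_two⟩
  obtain ⟨hQ, hidx, hno, hNAi, htri, hf, hclo⟩ := h
  obtain ⟨hbb, hb1, hbz, hbA, hbF, hpEF, hb32⟩ := gb_facts
  obtain ⟨hzF, hzbF, hzz, hz1, hzb, hzne, hgab, hswap⟩ := z9_facts k
  -- types of the involutions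
  have hnb : ¬ ZT c M8.gb := fun e => ((hp.zt _ hbA hb1).1 e).elim hbz (hbF k)
  have houtB : ∀ q : M8, q * q = 1 → M8.Out q → ¬ ZT c q := fun q hq ho => by
    obtain ⟨i, n, -, -, -, hn⟩ := c.outer_fused hsol hf hq ho
    obtain ⟨-, -, -, -, hA, h1, hz, -⟩ := oE_facts i
    exact c.not_ZT_conj (fun e => ((hp.zt _ hA h1).1 e).elim hz (hpEF k i)) hn
  have hz9ZT : ZT c (z9 k) := (hp.zt _ hzF.1 hz1).2 (Or.inr hzF)
  have hz9bZT : ZT c (z9 k * M8.gb) :=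
    (hp.zt _ hzbF.1 (fun e => by simpa [e] using hzbF.2.1)).2 (Or.inr hzbF)
  -- the centraliser of `b`
  have hdec : ∀ g ∈ centralizer ({c.ι M8.gb} : Set G),
      ∃ o ∈ Oc (c.ι M8.gb), o⁻¹ * g ∈ pairStab (c.ι_sq hbb) (c.ι (z9 k)) := by
    intro g hg
    refine c.cent_decomp hbb hb1 hnb hb32 hzz hz1 hzb hzne (fun g hg r hr hre => ?_) hg
    have hZr : ZT c r := c.ZT_conj hz9ZT hre.symm
    have hgb : g * c.ι M8.gb * g⁻¹ = c.ι M8.gb := by
      rw [mem_centralizer_singleton_iff.1 hg, mul_inv_cancel_right]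
    have hZrb : ZT c (r * M8.gb) := c.ZT_conj (g := g) hz9bZT (by
      rw [map_mul, map_mul, hre, ← conj_mul, hgb])
    have hrr : r * r = 1 := c.pre_sq (by
      rw [hre, conj_mul, c.ι_sq hzz, mul_one, mul_inv_cancel])
    have hr1 : r ≠ 1 := fun e => hz1 (c.ι_eq_one.1 (conj_eq_one_iff.1 (by rw [← hre, e, map_one])))
    have hrA : M8.InA r := by_contra fun ho => houtB r hrr ho hZr
    have hrbA : M8.InA (r * M8.gb) := (M8.inA_mul _ _ hrA hbA).1
    have hrb1 : r * M8.gb ≠ 1 := fun e => hnb (by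
      rwa [← show r = M8.gb by rw [mul_eq_one_iff_eq_inv.1 e, inv_eq_of_mul_eq_one_right hbb]])
    exact nine_pair k r hrA ((hp.zt r hrA hr1).1 hZr) ((hp.zt _ hrbA hrb1).1 hZrb)
  have hsolb : Group.IsSolvable ↥(centralizer ({c.ι M8.gb} : Set G)) :=
    solvable_of_decomp (c.ι_sq hbb) (c.ι_sq hzz) hdec (c.solvable_ZT hsol hz9ZT)
  have hsolA : ∀ q, M8.InA q → q ≠ 1 → Group.IsSolvable ↥(centralizer ({c.ι q} : Set G)) := fun q hq hq1 => by
    by_cases hq' : q = M8.z ∨ Four k q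
    · exact c.solvable_ZT hsol ((hp.zt q hq hq1).2 hq')
    · push Not at hq'
      obtain ⟨n, -, hn⟩ := hp.fusedB q hq hq1 hq'.1 hq'.2
      exact hn ▸ solvable_cent_conj hsolb n
  -- the odd subgroup
  obtain ⟨hWodd, hW⟩ := WE_data (E := c.Ag) (fun _ hx _ hy => c.Ag_comm hx hy) (fun _ hx => c.Ag_sq hx)
    (by rw [c.card_Ag]; norm_num) (fun x hx hx1 => by
      obtain ⟨q, hq, rfl⟩ := c.mem_Ag.1 hx
      exact hsolA q hq fun e => hx1 (by rw [e, map_one]))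
  set W := WE c.Ag with hWdef
  set M := normalizer (W : Set G) with hM
  have hWM : W ≤ M := le_normalizer
  have hNA : normalizer (c.Ag : Set G) ≤ M := fun g hg => WE_normalized fun a ha => c.conj_Ag hg ha
  have hSM : (c.S : Subgroup G) ≤ M := c.S_le_normalizer_Ag.trans hNA
  -- it is also generated on the elementary group of order eight
  have hWE0 : W = WE (c.Eg 0) := by
    apply le_antisymm
    · refine le_of_four' (E := c.Eg 0 ⊓ c.Ag) (by rw [c.card_Eg_inf]) (fun x hx y hy => c.Ag_comm hx.2 hy.2)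
        (fun x hx => c.Ag_sq hx.2) hWodd (fun x hx => hSM (c.Ag_le hx.2)) fun e he he1 => ?_
      rw [hW e he.2 he1]
      exact le_WE he.1 he1
    · refine iSup_le fun a => ?_
      obtain ⟨x, hx, hx1⟩ := a
      obtain ⟨q, hq, rfl⟩ := c.mem_Eg.1 hx
      have hqq := (EM_elem 0 q q hq hq).2
      have hq1 : q ≠ 1 := fun e => hx1 (by rw [e, map_one])
      by_cases hA : M8.InA q
      · exact le_WE (c.mem_Ag.2 ⟨q, hA, rfl⟩) hx1
      obtain ⟨i, n, -, -, -, hn⟩ := c.outer_fused hsol hf hqq hA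
      have hsolq : Group.IsSolvable ↥(centralizer ({c.ι q} : Set G)) :=
        hn ▸ solvable_cent_conj (hsolA _ (oE_facts i).2.2.2.2.1 (oE_facts i).2.2.2.2.2.1) n
      refine le_of_four' (E := c.Eg 0 ⊓ c.Ag) (by rw [c.card_Eg_inf]) (fun x hx y hy => c.Ag_comm hx.2 hy.2)
        (fun x hx => c.Ag_sq hx.2) (odd_Oc _) (fun x hx' => ?_) fun e he he1 => ?_
      · exact Oc_normalized (mem_centralizer_singleton_iff.2 (c.Eg_comm 0 x hx'.1 _ hx))
      · obtain ⟨p, hp', rfl⟩ := c.mem_Ag.1 he.2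
        have hp1 : p ≠ 1 := fun e => he1 (by rw [e, map_one])
        exact (Oc_balance (c.order_ι hqq hq1) (c.order_ι (M8.inA_sq p hp').1 hp1) (c.Eg_comm 0 _ hx _ he.1)
          hsolq (hsolA p hp' hp1)).trans (le_WE he.2 he1)
  have hNE : ∀ g : G, (∀ a ∈ c.Eg 0, g * a * g⁻¹ ∈ c.Eg 0) → g ∈ M := fun g hg => by
    rw [hM, hWE0]; exact WE_normalized hg
  have hzA : c.zG ∈ c.Ag := c.mem_Ag.2 ⟨_, M8.z_facts.2.2.1, rfl⟩
  have hz1' : c.zG ≠ 1 := fun e => M8.z_facts.2.1 (c.ι_eq_one.1 e)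
  have hOc : Oc c.zG ≤ M := (le_WE hzA hz1').trans hWM
  -- the centraliser of `z`
  have hCz : centralizer ({c.zG} : Set G) ≤ M := by
    intro g hg
    have hle : Subgroup.closure (((c.loc hsol).ι.range : Set (Qt c.zG)) ∪ ((c.loc hsol).NA : Set (Qt c.zG)) ∪
        {h | ∀ q, InE 0 q → ∃ q', InE 0 q' ∧ h * (c.loc hsol).ι q * h⁻¹ = (c.loc hsol).ι q'}) ≤
        (M.subgroupOf (centralizer ({c.zG} : Set G))).map (qm c.zG) := by
      refine (closure_le _).2 ?_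
      rintro y ((⟨q, rfl⟩ | hy) | hy)
      · exact ⟨⟨c.ι q, c.ι_cent q⟩, hSM (c.ι_mem q), rfl⟩
      · obtain ⟨⟨x, hx⟩, rfl⟩ := QuotientGroup.mk'_surjective _ y
        refine ⟨⟨x, hx⟩, c.mem_of_lift hOc M8.A (fun n hn => hNA (c.mem_normalizer_Ag fun a ha => ?_)) hx
          (fun q hq => ?_), rfl⟩
        · obtain ⟨q, hq, rfl⟩ := c.mem_Ag.1 ha
          obtain ⟨q', hq', e⟩ := hn q hq
          exact c.mem_Ag.2 ⟨q', hq', e.symm⟩
        · obtain ⟨q', hq', e⟩ := (mem_normalizer_iff.1 hy _).1 (mem_map_of_mem _ hq)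
          exact ⟨q', hq', e.symm⟩
      · obtain ⟨⟨x, hx⟩, rfl⟩ := QuotientGroup.mk'_surjective _ y
        refine ⟨⟨x, hx⟩, c.mem_of_lift hOc (EM 0) (fun n hn => hNE n fun a ha => ?_) hx hy, rfl⟩
        obtain ⟨q, hq, rfl⟩ := c.mem_Eg.1 ha
        obtain ⟨q', hq', e⟩ := hn q hq
        exact c.mem_Eg.2 ⟨q', hq', e.symm⟩
    obtain ⟨⟨m, hm⟩, hmM, hme⟩ := hle (hclo.symm ▸ mem_top (qm c.zG ⟨g, hg⟩))
    have hd : g * m⁻¹ ∈ Oc c.zG := mem_Oc.2 ⟨mul_mem hg (inv_mem hm), by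
      show qm c.zG (⟨g, hg⟩ * ⟨m, hm⟩⁻¹) = 1
      rw [map_mul, map_inv, hme, mul_inv_cancel]⟩
    exact (mul_mem_cancel_right (inv_mem (show m ∈ M from hmM))).1 (hOc hd)
  -- the centraliser of `b`
  have hbAg : c.ι M8.gb ∈ c.Ag := c.mem_Ag.2 ⟨_, hbA, rfl⟩
  have hC1 : centralizer ({c.ι (z9 k)} : Set G) ≤ M := c.cent_fused_le hNA (hp.fusedZ _ hzF) hCz
  have hCb : centralizer ({c.ι M8.gb} : Set G) ≤ M := by
    intro g hg
    obtain ⟨o, ho, htb, ht | ht⟩ := hdec g hg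
    all_goals
      refine (mul_mem_cancel_left (inv_mem ((le_WE hbAg (fun e => hb1 (c.ι_eq_one.1 e))).trans hWM ho))).1 ?_
    · exact hC1 (mem_centralizer_singleton_iff.2 (mul_inv_eq_iff_eq_mul.1 ht))
    · have hs : c.ι M8.ga ∈ M := hSM (c.ι_mem _)
      refine (mul_mem_cancel_left hs).1 (hC1 (mem_centralizer_singleton_iff.2 (mul_inv_eq_iff_eq_mul.1 ?_)))
      rw [show c.ι M8.ga * (o⁻¹ * g) * c.ι (z9 k) * (c.ι M8.ga * (o⁻¹ * g))⁻¹ =
        c.ι M8.ga * ((o⁻¹ * g) * c.ι (z9 k) * (o⁻¹ * g)⁻¹) * (c.ι M8.ga)⁻¹ by group, ht, ← conj_mul, ← map_inv,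
        ← map_mul, ← map_mul, ← map_mul, ← map_mul, hswap, hgab, mul_inv_cancel_right, ← map_mul, mul_assoc,
        hbb, mul_one]
  -- the two classes
  have hW0 : W = ⊥ := eq_bot_of_two_classes hodd c.S hWodd (c.ι_mem _) c.orderOf_zG (c.order_ι hbb hb1)
    hnb hSM hCz hCb fun t ht ht2 => by
    obtain ⟨q, rfl⟩ := c.exists_ι ht
    obtain ⟨hqq, hq1⟩ := c.inv_pre ht2
    by_cases hA : M8.InA q
    · by_cases hq' : Four k q
      · obtain ⟨n, hn, e⟩ := hp.fusedZ q hq'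
        exact ⟨n, hNA hn, Or.inl e⟩
      · by_cases hqz : q = M8.z
        · exact ⟨1, one_mem _, Or.inl (by rw [hqz, one_mul, inv_one, mul_one])⟩
        · obtain ⟨n, hn, e⟩ := hp.fusedB q hA hq1 hqz hq'
          exact ⟨n, hNA hn, Or.inr e⟩
    · obtain ⟨i, n, hn, -, -, hne⟩ := c.outer_fused hsol hf hqq hA
      obtain ⟨-, -, -, -, hA', h1', hz', -⟩ := oE_facts i
      obtain ⟨m, hm, hme⟩ := hp.fusedB _ hA' h1' hz' (hpEF k i)
      refine ⟨n * m, mul_mem (hCz hn) (hNA hm), Or.inr ?_⟩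
      rw [show n * m * c.ι M8.gb * (n * m)⁻¹ = n * (m * c.ι M8.gb * m⁻¹) * n⁻¹ by group, hme, hne]
  exact le_bot_iff.1 (hW0 ▸ le_WE hzA hz1')

end Cfsg.Lib.AltEightSolv
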