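import Cfsg.Agent.AltEightSolv.ShapeA
import Cfsg.Agent.Coprime.Sylow
import Cfsg.Agent.PGroups.Basic

/-!
# The two-core is the extraspecial subgroup unless `A` is normal
-/

set_option autoImplicit false
set_option linter.unusedSectionVars false
set_option linter.style.haveILetI false

namespace Cfsg.Lib.AltEightSolv

namespace M8

theorem word : ∀ q : M8, ∃ a d f b e c : Bool,
    q = cond a ga 1 * cond d gd 1 * cond f gf 1 * cond b (ga * gd * (ga * gd)) 1 * cond e (gd * gf * (gd * gf)) 1 *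
      cond c (ga * (gd * gf * (gd * gf)) * (ga * (gd * gf * (gd * gf)))) 1 := by decide +kernel

theorem word_coord : ∀ a d f b e c : Bool, ∀ w : M8,
    w = cond a ga 1 * cond d gd 1 * cond f gf 1 * cond b (ga * gd * (ga * gd)) 1 * cond e (gd * gf * (gd * gf)) 1 *
      cond c (ga * (gd * gf * (gd * gf)) * (ga * (gd * gf * (gd * gf)))) 1 → w.a = a ∧ w.d = d ∧ w.f = f := by
  decide +kernel

theorem A_word : ∀ q : M8, InA q → ∃ d b e c : Bool,
    q = cond d gd 1 * cond b (ga * gd * (ga * gd)) 1 * cond e (gd * gf * (gd * gf)) 1 *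
      cond c (ga * (gd * gf * (gd * gf)) * (ga * (gd * gf * (gd * gf)))) 1 := by decide +kernel

/-- The index-two subgroup with the given exponents. -/
def InR (α φ : Bool) (q : M8) : Prop := ((α && q.a) ^^ q.d ^^ (φ && q.f)) = false

instance (α φ : Bool) : DecidablePred (InR α φ) := fun q =>
  inferInstanceAs (Decidable (((α && q.a) ^^ q.d ^^ (φ && q.f)) = false))

/-- The extra generator of the involutions of the index-two subgroup. -/
def uR : Bool → Bool → M8
  | true, false => gf
  | false, true => ga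
  | _, _ => ga * gf

theorem R_invol : ∀ α φ : Bool, ¬ (α = false ∧ φ = false) → ∀ q : M8, InR α φ q → q * q = 1 → InQ q := by
  decide +kernel

theorem uR_facts : ∀ α φ : Bool, ¬ (α = false ∧ φ = false) → InR α φ (uR α φ) ∧ uR α φ * uR α φ = 1 ∧
    InQ (uR α φ) := by decide +kernel

theorem J_cases : ∀ α φ : Bool, ¬ (α = false ∧ φ = false) → ∀ q : M8, InR α φ q → InQ q →
    (InA q ∧ InQ q) ∨ (InA (uR α φ * q) ∧ InQ (uR α φ * q)) := by decide +kernel

theorem bce_squares : ∀ α φ : Bool, ¬ (α = false ∧ φ = false) → ∀ q : M8, InA q → InQ q →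
    ∃ x y : M8, InR α φ x ∧ InR α φ y ∧ q = x * x * (y * y) := by decide +kernel

theorem R_parity : ∀ p q : M8, ¬ InQ p → ¬ InQ q → InQ (p * q) := by decide +kernel

end M8

universe u

variable {H : Type u} [Group H] [Finite H] (D : LocalHyp H)

open M8 (InA InQ)

/-- The action on the Frattini quotient of the two-core. -/
noncomputable def actR : H →* MulAut (↥D.R ⧸ frattini ↥D.R) :=
  MonoidHom.mk' (fun g => QuotientGroup.congr _ _ (MulAut.conjNormal g)
      ((Subgroup.characteristic_iff_map_eq.1 frattini_characteristic) _)) fun g h => by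
    refine MulEquiv.ext fun v => ?_
    obtain ⟨r, rfl⟩ := QuotientGroup.mk_surjective v
    rw [map_mul]
    rfl

theorem actR_mk (g : H) (r : ↥D.R) : actR D g (r : ↥D.R ⧸ frattini ↥D.R) = (MulAut.conjNormal g r : ↥D.R) := rfl

theorem R_quot_exp (v : ↥D.R ⧸ frattini ↥D.R) : v * v = 1 := by
  haveI : Fact (Nat.Prime 2) := ⟨Nat.prime_two⟩
  rw [← pow_two]
  exact Cfsg.Lib.PGroups.pow_prime_quotient_frattini D.R_isPGroup v

theorem actR_of_mem {g : H} (h : g ∈ D.R) : actR D g = 1 := by
  haveI : Fact (Nat.Prime 2) := ⟨Nat.prime_two⟩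
  refine MulEquiv.ext fun v => ?_
  obtain ⟨r, rfl⟩ := QuotientGroup.mk_surjective v
  have e : (MulAut.conjNormal g r : ↥D.R) = ⟨g, h⟩ * r * ⟨g, h⟩⁻¹ := Subtype.ext (by
    simp [MulAut.conjNormal_apply])
  rw [actR_mk, MulAut.one_apply, e, QuotientGroup.mk_mul, QuotientGroup.mk_mul, QuotientGroup.mk_inv,
    comm_of_exp_two (R_quot_exp D) (⟨g, h⟩ : ↥D.R), mul_inv_cancel_right]

theorem eq_one_of_actR {g : H} (hg : Odd (orderOf g)) (h : actR D g = 1) : g = 1 := by
  haveI : Fact (Nat.Prime 2) := ⟨Nat.prime_two⟩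
  refine D.eq_one_of_cent_R hg fun r hr => ?_
  have hle : Subgroup.zpowers g ≤ Subgroup.centralizer (D.R : Set H) := by
    refine Cfsg.Lib.Coprime.le_centralizer_of_frattini ?_ ?_ ?_
    · haveI := D.R_normal
      rw [Subgroup.normalizer_eq_top]; exact le_top
    · obtain ⟨k, hk⟩ := IsPGroup.iff_card.1 (D.R_isPGroup.to_subgroup (frattini ↥D.R))
      rw [Nat.card_zpowers, hk]
      exact Nat.Coprime.pow_right k (Nat.coprime_two_right.2 hg)
    · intro a ha x hx
      obtain ⟨n, rfl⟩ := Subgroup.mem_zpowers_iff.1 ha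
      have h1 : actR D (g ^ n) = 1 := by rw [map_zpow, h, one_zpow]
      have h2 := congrArg (fun f : MulAut _ => f ((⟨x, hx⟩ : ↥D.R) : ↥D.R ⧸ frattini ↥D.R)) h1
      simp only [actR_mk, MulAut.one_apply] at h2
      refine ⟨MulAut.conjNormal (g ^ n) ⟨x, hx⟩ * (⟨x, hx⟩ : ↥D.R)⁻¹, ?_, ?_⟩
      · rw [SetLike.mem_coe, ← QuotientGroup.eq_one_iff, QuotientGroup.mk_mul, QuotientGroup.mk_inv, h2,
          mul_inv_cancel]
      · simp only [map_mul, map_inv, Subgroup.coe_subtype, MulAut.conjNormal_apply]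
  exact Subgroup.mem_centralizer_iff.1 (hle (Subgroup.mem_zpowers g)) r hr

theorem actR_ker {g : H} (h : actR D g = 1) : g ∈ D.R := by
  have hK : IsPGroup 2 (actR D).ker := by
    rw [IsPGroup.iff_orderOf]
    intro x
    obtain ⟨k, r, hr, e⟩ := Nat.exists_eq_two_pow_mul_odd (orderOf_pos (x : H)).ne'
    refine ⟨k, ?_⟩
    rw [← Subgroup.orderOf_coe]
    have ho : orderOf ((x : H) ^ 2 ^ k) = r := by
      rw [orderOf_pow' _ (Nat.two_pow_pos k).ne', e, Nat.gcd_eq_right (Dvd.intro r rfl),
        Nat.mul_div_cancel_left _ (Nat.two_pow_pos k)]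
    rw [eq_one_of_actR D (g := (x : H) ^ 2 ^ k) (ho ▸ hr) (by rw [map_pow, MonoidHom.mem_ker.1 x.2, one_pow]),
      orderOf_one] at ho
    rw [e, ← ho, mul_one]
  exact D.le_R hK (MonoidHom.mem_ker.2 h)

/-- The two-core in coordinates. -/
def RM : Subgroup M8 := D.R.comap D.ι

theorem mem_RM {q : M8} : q ∈ RM D ↔ D.ι q ∈ D.R := Iff.rfl

theorem map_RM : (RM D).map D.ι = D.R := Subgroup.map_comap_eq_self D.R_le_range

theorem card_RM : Nat.card (RM D) = Nat.card D.R := by
  rw [← Subgroup.card_map_of_injective D.inj, map_RM]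

theorem RM_not_small (hA : ¬ (M8.A.map D.ι).Normal) : ¬ Nat.card (RM D) ≤ 16 := by
  intro h16
  haveI : Fact (Nat.Prime 2) := ⟨Nat.prime_two⟩
  haveI : Group.IsSolvable H := D.solv
  set V := ↥D.R ⧸ frattini ↥D.R
  set n := Nat.card (RM D) with hn
  have hV : Nat.card V ≤ 8 := by
    have hmul : Nat.card D.R = Nat.card V * Nat.card (frattini ↥D.R) :=
      Subgroup.card_eq_card_quotient_mul_card_subgroup _
    rw [← card_RM, ← hn] at hmul
    by_cases hb : frattini ↥D.R = ⊥
    · obtain ⟨j, hj⟩ := IsPGroup.iff_card.1 D.R_isPGroup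
      rw [← card_RM, ← hn] at hj
      rw [hb, Subgroup.card_bot, mul_one] at hmul
      have hj4 : j ≤ 4 := by
        by_contra hj4
        have := Nat.pow_le_pow_right (show 2 > 0 by norm_num) (show 5 ≤ j by omega)
        omega
      rcases hj4.lt_or_eq with hlt | heq
      · have := Nat.pow_le_pow_right (show 2 > 0 by norm_num) (show j ≤ 3 by omega)
        omega
      · exfalso
        rw [heq] at hj
        have hexp : ∀ x ∈ RM D, x * x = 1 := fun x hx => D.inj (by
          have h2 := Cfsg.Lib.PGroups.pow_mem_frattini D.R_isPGroup (⟨D.ι x, hx⟩ : ↥D.R)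
          rw [hb, Subgroup.mem_bot, pow_two] at h2
          rw [map_mul, map_one]
          exact congrArg Subtype.val h2)
        refine hA (normal_A_of_le D ?_)
        rw [← M8.eq_A_of_elementary (RM D) hexp (by rw [← hn, hj]; rfl), map_RM]
    · have h2 : 2 ≤ Nat.card (frattini ↥D.R) := by
        have : Nat.card (frattini ↥D.R) ≠ 1 := fun e => hb (Subgroup.card_eq_one.1 e)
        have := Nat.card_pos (α := frattini ↥D.R)
        omega
      have := Nat.mul_le_mul_left (Nat.card V) h2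
      omega
  set X := (actR D).range
  set f : H →* X := (actR D).rangeRestrict
  have hf : Function.Surjective f := MonoidHom.rangeRestrict_surjective _
  haveI : Group.IsSolvable X := Group.isSolvable_of_surjective hf
  have f1 : ∀ {x : H}, f x = 1 ↔ x ∈ D.R := fun {x} =>
    ⟨fun h => actR_ker D (congrArg Subtype.val h), fun h => Subtype.ext (actR_of_mem D h)⟩
  haveI : Nontrivial X := by
    by_contra hX
    rw [not_nontrivial_iff_subsingleton] at hX
    have : RM D = ⊤ := (Subgroup.eq_top_iff' _).2 fun q => f1.1 (Subsingleton.elim _ _)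
    rw [this, Subgroup.card_top, M8.card_M8] at hn
    omega
  have hfree : ∀ τ : X, τ * τ = 1 → τ ≠ 1 → ∀ k : X, Odd (orderOf k) → τ * k = k * τ → k = 1 := by
    intro τ hτ hτ1 k hk hc
    refine Subtype.ext (eq_one_of_card_le_eight (R_quot_exp D) hV k.1 τ.1 (congrArg Subtype.val hc).symm
      (by rwa [Subgroup.orderOf_coe]) (congrArg Subtype.val hτ) fun e => hτ1 (Subtype.ext e))
  rcases core_or_unique hfree with ⟨M, hMn, hM1, hM2⟩ | huniq
  · haveI := hMn
    have hker : f.ker = D.R := Subgroup.ext fun x => f1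
    have hW : IsPGroup 2 (M.comap f) := IsPGroup.comap_of_ker_isPGroup hM2 f (by rw [hker]; exact D.R_isPGroup)
    refine hM1 (M.eq_bot_iff_forall.2 fun m hm => ?_)
    obtain ⟨w, rfl⟩ := hf m
    exact f1.2 (D.le_R hW hm)
  · set ψ := f.comp D.ι
    have hT : IsPGroup 2 (D.ι.range.map f) := D.range_isPGroup.map f
    have h2 : ∀ q : M8, q * q = 1 → ψ q * ψ q = 1 := fun q hq => by rw [← map_mul, hq, map_one]
    have hmemT : ∀ q : M8, ψ q ∈ D.ι.range.map f := fun q => ⟨_, ⟨q, rfl⟩, rfl⟩
    obtain ⟨τ, hτ2, hga, hgd, hgf⟩ : ∃ τ : X, τ * τ = 1 ∧ (ψ M8.ga = 1 ∨ ψ M8.ga = τ) ∧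
        (ψ M8.gd = 1 ∨ ψ M8.gd = τ) ∧ (ψ M8.gf = 1 ∨ ψ M8.gf = τ) := by
      have key : ∀ p q : M8, p * p = 1 → q * q = 1 → ψ p ≠ 1 → ψ q = 1 ∨ ψ q = ψ p := fun p q hp hq h => by
        by_cases hq1 : ψ q = 1
        · exact Or.inl hq1
        · exact Or.inr (huniq _ hT _ (hmemT q) _ (hmemT p) (h2 q hq) hq1 (h2 p hp) h)
      have i1 : M8.ga * M8.ga = 1 ∧ M8.gd * M8.gd = 1 ∧ M8.gf * M8.gf = 1 := by decide +kernel
      by_cases a1 : ψ M8.ga = 1
      · by_cases d1 : ψ M8.gd = 1
        · exact ⟨ψ M8.gf, h2 _ i1.2.2, Or.inl a1, Or.inl d1, Or.inr rfl⟩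
        · exact ⟨ψ M8.gd, h2 _ i1.2.1, Or.inl a1, Or.inr rfl, key _ _ i1.2.1 i1.2.2 d1⟩
      · exact ⟨ψ M8.ga, h2 _ i1.1, Or.inr rfl, key _ _ i1.1 i1.2.1 a1, key _ _ i1.1 i1.2.2 a1⟩
    have hpair : ∀ q : M8, ψ q = 1 ∨ ψ q = τ := by
      intro q
      obtain ⟨a, d, fb, b, e, c, rfl⟩ := M8.word q
      have hb : ψ (M8.ga * M8.gd * (M8.ga * M8.gd)) = 1 := by
        rcases hga with u | u <;> rcases hgd with v | v <;> simp [map_mul, u, v, hτ2]
      have he : ψ (M8.gd * M8.gf * (M8.gd * M8.gf)) = 1 := by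
        rcases hgd with u | u <;> rcases hgf with v | v <;> simp [map_mul, u, v, hτ2]
      have hc : ψ (M8.ga * (M8.gd * M8.gf * (M8.gd * M8.gf)) * (M8.ga * (M8.gd * M8.gf * (M8.gd * M8.gf)))) = 1 := by
        rw [map_mul, map_mul, he, mul_one]
        rcases hga with u | u <;> simp [u, hτ2]
      rw [map_mul, map_mul, map_mul, map_mul, map_mul]
      rcases hga with u | u <;> rcases hgd with v | v <;> rcases hgf with w | w <;> cases a <;> cases d <;>
        cases fb <;> cases b <;> cases e <;> cases c <;>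
        simp only [cond_true, cond_false, map_one, hb, he, hc, u, v, w, mul_one, one_mul, hτ2, true_or, or_true]
    have hle : Nat.card M8 ≤ 2 * n := by
      by_cases hq0 : ∃ q0, ψ q0 ≠ 1
      · obtain ⟨q0, hq0⟩ := hq0
        have hq0' : ψ q0 = τ := (hpair q0).resolve_left hq0
        classical
        let e : M8 → Bool × RM D := fun q =>
          if h : ψ q = 1 then (false, ⟨q, f1.1 h⟩)
          else (true, ⟨q0 * q, f1.1 (show ψ (q0 * q) = 1 by rw [map_mul, hq0', (hpair q).resolve_left h, hτ2])⟩)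
        have he : Function.Injective e := fun a b hab => by
          by_cases ha : ψ a = 1
          · by_cases hb : ψ b = 1
            · rw [show e a = (false, ⟨a, f1.1 ha⟩) from dif_pos ha,
                show e b = (false, ⟨b, f1.1 hb⟩) from dif_pos hb] at hab
              exact congrArg (fun w => (w.2 : M8)) hab
            · rw [show e a = (false, ⟨a, f1.1 ha⟩) from dif_pos ha, show e b = _ from dif_neg hb] at hab
              exact absurd (congrArg Prod.fst hab) Bool.false_ne_true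
          · by_cases hb : ψ b = 1
            · rw [show e a = _ from dif_neg ha, show e b = (false, ⟨b, f1.1 hb⟩) from dif_pos hb] at hab
              exact absurd (congrArg Prod.fst hab).symm Bool.false_ne_true
            · rw [show e a = _ from dif_neg ha, show e b = _ from dif_neg hb] at hab
              exact mul_left_cancel (congrArg (fun w => (w.2 : M8)) hab)
        have := Nat.card_le_card_of_injective e he
        rwa [Nat.card_prod, Nat.card_eq_fintype_card (α := Bool), Fintype.card_bool, ← hn] at this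
      · push_neg at hq0
        have : RM D = ⊤ := (Subgroup.eq_top_iff' _).2 fun q => f1.1 (hq0 q)
        rw [this, Subgroup.card_top] at hn
        omega
    rw [M8.card_M8] at hle
    omega

/-- Either `A` or the extraspecial subgroup is normal, and in the second case the latter is the two-core. -/
theorem core_cases : (M8.A.map D.ι).Normal ∨ ((M8.Q.map D.ι).Normal ∧ RM D = M8.Q) := by
  by_cases hA : (M8.A.map D.ι).Normal
  · exact Or.inl hA
  haveI : Fact (Nat.Prime 2) := ⟨Nat.prime_two⟩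
  have hbig := RM_not_small D hA
  have hAnot : ¬ M8.A ≤ RM D := fun h => hA (normal_A_of_le D (by rw [← map_RM D]; exact Subgroup.map_mono h))
  have hidx : (RM D).index = 2 := by
    have hmul := (RM D).card_mul_index
    rw [M8.card_M8] at hmul
    have hne : (RM D).index ≠ 1 := fun e => hAnot (by rw [Subgroup.index_eq_one.1 e]; exact le_top)
    have h4 : (RM D).index ≤ 3 := by
      by_contra hgt
      have := Nat.mul_le_mul_left (Nat.card (RM D)) (show 4 ≤ (RM D).index by omega)
      omega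
    have h0 : (RM D).index ≠ 0 := Subgroup.FiniteIndex.index_ne_zero
    rcases (show (RM D).index = 2 ∨ (RM D).index = 3 by omega) with e | e
    · exact e
    · rw [e] at hmul; omega
  have hsq : ∀ x : M8, x * x ∈ RM D := fun x => Subgroup.mul_self_mem_of_index_two hidx x
  have hgd : M8.gd ∉ RM D := fun h => hAnot fun q hq => by
    obtain ⟨d, b, e, c, rfl⟩ := M8.A_word q hq
    have hb : ∀ (t : Bool) (x : M8), cond t (x * x) 1 ∈ RM D := fun t x => by
      cases t
      · exact one_mem _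
      · exact hsq x
    refine mul_mem (mul_mem (mul_mem ?_ (hb b _)) (hb e _)) (hb c _)
    cases d
    · exact one_mem _
    · exact h
  classical
  set α : Bool := decide (M8.ga ∉ RM D) with hα
  set φ : Bool := decide (M8.gf ∉ RM D) with hφ
  have hmem : ∀ q, q ∈ RM D ↔ M8.InR α φ q := by
    intro q
    obtain ⟨a, d, f, b, e, c, hq⟩ := M8.word q
    have hcoord : q.a = a ∧ q.d = d ∧ q.f = f := by
      rw [hq]
      exact M8.word_coord a d f b e c _ rfl
    have hb : ∀ (t : Bool) (x : M8), cond t (x * x) 1 ∈ RM D := fun t x => by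
      cases t
      · exact one_mem _
      · exact hsq x
    rw [hq, Subgroup.mul_mem_cancel_right _ (hb c _), Subgroup.mul_mem_cancel_right _ (hb e _),
      Subgroup.mul_mem_cancel_right _ (hb b _), ← hq, M8.InR, hcoord.1, hcoord.2.1, hcoord.2.2,
      Subgroup.mul_mem_iff_of_index_two hidx, Subgroup.mul_mem_iff_of_index_two hidx]
    rcases hα' : α <;> rcases hφ' : φ <;> rw [hα'] at hα <;> rw [hφ'] at hφ <;>
      cases a <;> cases d <;> cases f <;>
      simp_all [one_mem]
  by_cases h0 : α = false ∧ φ = false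
  · refine Or.inr ⟨?_, ?_⟩
    · have e : RM D = M8.Q := Subgroup.ext fun q => by
        rw [hmem, h0.1, h0.2, M8.mem_Q]; simp [M8.InR]
      rw [← e, map_RM]; exact D.R_normal
    · exact Subgroup.ext fun q => by
        rw [hmem, h0.1, h0.2, M8.mem_Q]; simp [M8.InR]
  -- otherwise the whole group is a two-group
  refine absurd ?_ hA
  suffices htop : D.ι.range = ⊤ by
    refine ⟨fun x hx g => ?_⟩
    obtain ⟨p, hp, rfl⟩ := hx
    obtain ⟨w, rfl⟩ : g ∈ D.ι.range := htop ▸ Subgroup.mem_top g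
    exact ⟨w * p * w⁻¹, M8.inA_conj w p hp, by rw [map_mul, map_mul, map_inv]⟩
  have h2 : IsPGroup 2 (⊤ : Subgroup H) := by
    rw [IsPGroup.iff_orderOf]
    intro x
    obtain ⟨k, r, hr, e⟩ := Nat.exists_eq_two_pow_mul_odd (orderOf_pos (x : H)).ne'
    refine ⟨k, ?_⟩
    rw [← Subgroup.orderOf_coe]
    have ho : orderOf ((x : H) ^ 2 ^ k) = r := by
      rw [orderOf_pow' _ (Nat.two_pow_pos k).ne', e, Nat.gcd_eq_right (Dvd.intro r rfl),
        Nat.mul_div_cancel_left _ (Nat.two_pow_pos k)]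
    suffices h1 : (x : H) ^ 2 ^ k = 1 by
      rw [h1, orderOf_one] at ho
      rw [e, ← ho, mul_one]
    have hg : Odd (orderOf ((x : H) ^ 2 ^ k)) := ho ▸ hr
    revert hg
    generalize (x : H) ^ 2 ^ k = g
    intro hg
    refine eq_one_of_actR D hg ?_
    have img : ∀ {q}, M8.InR α φ q → ∃ q', M8.InR α φ q' ∧ D.ι q' = g * D.ι q * g⁻¹ := fun {q} hq => by
      obtain ⟨q', hq', e⟩ : g * D.ι q * g⁻¹ ∈ (RM D).map D.ι := by
        rw [map_RM]; exact D.R_normal.conj_mem _ ((hmem q).2 hq) g
      exact ⟨q', (hmem q').1 hq', e⟩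
    set π : ↥D.R →* ↥D.R ⧸ frattini ↥D.R := QuotientGroup.mk' (frattini ↥D.R)
    let v : ∀ q, M8.InR α φ q → ↥D.R ⧸ frattini ↥D.R := fun q hq => π ⟨D.ι q, (hmem q).2 hq⟩
    have hv_mul : ∀ p q (hp : M8.InR α φ p) (hq : M8.InR α φ q) (hpq : M8.InR α φ (p * q)),
        v (p * q) hpq = v p hp * v q hq := fun p q hp hq hpq => by
      simp only [v, ← map_mul]
      exact congrArg π (Subtype.ext (map_mul D.ι p q))
    have hv_bce : ∀ q (hq : M8.InR α φ q), InA q → InQ q → v q hq = 1 := by
      intro q hq hqA hqQ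
      obtain ⟨s, t, hs, ht, e⟩ := M8.bce_squares α φ h0 q hqA hqQ
      have e' : (⟨D.ι q, (hmem q).2 hq⟩ : ↥D.R) =
          ⟨D.ι s, (hmem s).2 hs⟩ * ⟨D.ι s, (hmem s).2 hs⟩ * (⟨D.ι t, (hmem t).2 ht⟩ * ⟨D.ι t, (hmem t).2 ht⟩) :=
        Subtype.ext (by simp [e, map_mul])
      show π _ = 1
      rw [e', map_mul, map_mul, map_mul, R_quot_exp, R_quot_exp, one_mul]
    have hact : ∀ q q' (hq : M8.InR α φ q) (hq' : M8.InR α φ q'), D.ι q' = g * D.ι q * g⁻¹ →
        actR D g (v q hq) = v q' hq' := fun q q' hq hq' e => by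
      show actR D g ((⟨D.ι q, _⟩ : ↥D.R) : ↥D.R ⧸ frattini ↥D.R) = _
      rw [actR_mk]
      exact congrArg (fun w : ↥D.R => (w : ↥D.R ⧸ frattini ↥D.R))
        (Subtype.ext (by simp [MulAut.conjNormal_apply, e]))
    obtain ⟨hu, hu2, huQ⟩ := M8.uR_facts α φ h0
    set w := v (M8.uR α φ) hu
    have hmemRM : ∀ {p q}, M8.InR α φ p → M8.InR α φ q → M8.InR α φ (p * q) := fun {p q} hp hq =>
      (hmem _).1 (mul_mem ((hmem p).2 hp) ((hmem q).2 hq))
    have hJ : ∀ q (hq : M8.InR α φ q), InQ q → v q hq = 1 ∨ v q hq = w := by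
      intro q hq hqQ
      rcases M8.J_cases α φ h0 q hq hqQ with ⟨h1, h2⟩ | ⟨h1, h2⟩
      · exact Or.inl (hv_bce q hq h1 h2)
      · have h3 := hv_bce _ (hmemRM hu hq) h1 h2
        rw [hv_mul _ _ hu hq (hmemRM hu hq)] at h3
        refine Or.inr ?_
        have := congrArg (fun a => w * a) h3
        simp only [← mul_assoc, w, R_quot_exp, one_mul, mul_one] at this
        exact this
    have hinvol : ∀ {q q'}, D.ι q' = g * D.ι q * g⁻¹ → q * q = 1 → q' * q' = 1 := fun {q q'} e h => D.inj (by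
      rw [map_mul, e, show g * D.ι q * g⁻¹ * (g * D.ι q * g⁻¹) = g * (D.ι q * D.ι q) * g⁻¹ by group, ← map_mul,
        h, map_one, mul_one, mul_inv_cancel])
    obtain ⟨u', hu', eu⟩ := img hu
    have hu'Q : InQ u' := M8.R_invol α φ h0 u' hu' (hinvol eu hu2)
    have hw : actR D g w = w := by
      rw [hact _ _ hu hu' eu]
      rcases hJ u' hu' hu'Q with h1 | h1
      · have := hact _ _ hu hu' eu
        rw [h1] at this ⊢
        exact ((actR D g).injective (this.trans (map_one _).symm)).symm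
      · exact h1
    -- the image of an element of `Q` stays in `Q`
    have himgQ : ∀ q (hq : M8.InR α φ q), InQ q → ∀ q', D.ι q' = g * D.ι q * g⁻¹ → InQ q' := by
      intro q hq hqQ q' e
      rcases M8.J_cases α φ h0 q hq hqQ with ⟨h1, h2⟩ | ⟨h1, h2⟩
      · exact M8.R_invol α φ h0 q' ((hmem q').1 (by
          rw [mem_RM, e]; exact D.R_normal.conj_mem _ ((hmem q).2 hq) g)) (hinvol e (M8.inA_sq q h1).1)
      · obtain ⟨p', hp', ep⟩ := img (hmemRM hu hq)
        have hp'Q : InQ p' := M8.R_invol α φ h0 p' hp' (hinvol ep (M8.inA_sq _ h1).1)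
        have : q' = u' * p' := D.inj (by
          rw [e, map_mul, eu, ep, map_mul, show g * D.ι (M8.uR α φ) * g⁻¹ * (g * (D.ι (M8.uR α φ) * D.ι q) * g⁻¹) =
            g * (D.ι (M8.uR α φ) * D.ι (M8.uR α φ) * D.ι q) * g⁻¹ by group, ← map_mul, ← map_mul, hu2, one_mul])
        rw [this]
        exact M8.inQ_mul _ _ hu'Q hp'Q
    refine MulEquiv.ext fun x => ?_
    obtain ⟨⟨_, hx⟩, rfl⟩ := QuotientGroup.mk_surjective x
    obtain ⟨q, rfl⟩ := D.R_le_range hx
    have hq := (hmem q).1 hx
    show actR D g (v q hq) = v q hq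
    by_cases hqQ : InQ q
    · rcases hJ q hq hqQ with h1 | h1 <;> rw [h1]
      · exact map_one _
      · exact hw
    obtain ⟨q', hq', eq'⟩ := img hq
    have hq'Q : ¬ InQ q' := fun h => by
      -- a power of `g` brings the image back
      have hstay : ∀ n : ℕ, ∀ p, M8.InR α φ p → InQ p → ∀ p', D.ι p' = g ^ n * D.ι p * (g ^ n)⁻¹ → InQ p' := by
        intro n
        induction n with
        | zero =>
          intro p _ hp p' e
          rw [pow_zero, one_mul, inv_one, mul_one] at e
          exact D.inj e ▸ hp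
        | succ n ih =>
          intro p hp hpQ p' e
          obtain ⟨r, hr, er⟩ := img hp
          refine ih r hr (himgQ p hp hpQ r er) p' ?_
          rw [e, er, pow_succ]; group
      refine hqQ (hstay (orderOf g - 1) q' hq' h q ?_)
      have ho := orderOf_pos g
      rw [eq', show g ^ (orderOf g - 1) * (g * D.ι q * g⁻¹) * (g ^ (orderOf g - 1))⁻¹ =
        g ^ (orderOf g - 1) * g * D.ι q * (g ^ (orderOf g - 1) * g)⁻¹ by group, ← pow_succ,
        Nat.sub_add_cancel ho, pow_orderOf_eq_one, one_mul, inv_one, mul_one]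
    set c := v q' hq' * v q hq with hc
    have hc' : c = 1 ∨ c = w := by
      rw [hc, ← hv_mul q' q hq' hq (hmemRM hq' hq)]
      exact hJ _ (hmemRM hq' hq) (M8.R_parity q' q hq'Q hqQ)
    have hgc : actR D g c = c := by
      rcases hc' with h | h <;> rw [h]
      · exact map_one _
      · exact hw
    have hg1 : actR D g (v q hq) = c * v q hq := by
      rw [hact q q' hq hq' eq', hc, mul_assoc, R_quot_exp, mul_one]
    have hpow : ∀ n : ℕ, (actR D g ^ n) (v q hq) = c ^ n * v q hq := by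
      intro n
      induction n with
      | zero => simp
      | succ n ih => rw [pow_succ', MulAut.mul_apply, ih, map_mul, map_pow, hgc, hg1, ← mul_assoc, ← pow_succ]
    have h := hpow (orderOf g)
    rw [← map_pow, pow_orderOf_eq_one, map_one, MulAut.one_apply] at h
    obtain ⟨j, hj⟩ := hg
    rw [hj, pow_succ, pow_mul, pow_two, R_quot_exp, one_pow, one_mul] at h
    rw [hg1]
    exact h.symm
  exact top_le_iff.1 fun x hx => D.exists_ι_of_two h2 hx

end Cfsg.Lib.AltEightSolv
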