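import Cfsg.Agent.AltEightSolv.CoreCommon

/-!
# The core in the configuration with a centraliser of index three over the Sylow subgroup

The cores at the involutions of an elementary group of order eight with all involutions of central type generate an
odd subgroup normalised by the centraliser of `z`; the centraliser of `b` is brought into its normaliser through
the centraliser of a pair, where a strongly embedded subgroup would appear.
-/

set_option autoImplicit false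
set_option linter.unusedSectionVars false
set_option linter.style.haveILetI false
set_option maxRecDepth 100000

namespace Cfsg.Lib.AltEightSolv

open Subgroup
open Cfsg.Lib.Walter (Oc qm Qt mem_Oc)
open Cfsg.Lib.LFourType (conj_Oc odd_Oc Oc_le Oc_normalized le_of_four' sq_mem_imp)
open Cfsg.Lib.AltEightType (core core_le odd_core core_normalized le_core odd_sup)

universe u

/-- A representative of the pair at `pE j`. -/
def p3 (j : Fin 3) (k : Bool) : M8 :=
  if j = 2 then ⟨false, true, k, true, false, false⟩ else ⟨false, false, k, true, false, false⟩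

theorem p3_facts : ∀ (j : Fin 3) (k : Bool), p3 j k * p3 j k = 1 ∧ p3 j k ≠ 1 ∧ M8.InA (p3 j k) ∧
    p3 j k * pE j = pE j * p3 j k ∧ p3 j k ≠ pE j ∧ Six j k (p3 j k) ∧ Six j k (p3 j k * pE j) ∧
    pE j * pE j = 1 ∧ M8.InQ (pE j) ∧ (Finset.univ.filter fun g : M8 => g * pE j = pE j * g).card = 32 ∧
    Six j k (pE j) := by decide +kernel

theorem pair_three : ∀ (j : Fin 3) (k : Bool) (r : M8), M8.InA r → r ≠ 1 → r * pE j ≠ 1 → Six j k r →
    Six j k (r * pE j) → r = p3 j k ∨ r = p3 j k * pE j := by decide +kernel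

theorem cent_pair : ∀ (j : Fin 3) (k : Bool) (r : M8), r * pE j = pE j * r →
    (r * p3 j k * r⁻¹ = p3 j k ∨ r * p3 j k * r⁻¹ = p3 j k * pE j) ∧
      (r * p3 j k = p3 j k * r → M8.InA r) := by decide +kernel

theorem out_swap : ∀ (j : Fin 3) (q : M8), q * pE j = pE j * q → q * q = 1 → M8.Out q →
    ∃ s : M8, s * pE j = pE j * s ∧ s * q * s⁻¹ = q * pE j := by decide +kernel

theorem pair_swap : ∀ (j : Fin 3) (k : Bool),
    ∃ s : M8, s * pE j = pE j * s ∧ s * p3 j k * s⁻¹ = p3 j k * pE j := by decide +kernel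

theorem swap_fix : ∀ (j : Fin 3) (k : Bool) (s : M8), s * pE j = pE j * s →
    s * p3 j k * s⁻¹ = p3 j k * pE j → ∀ u : M8, M8.InA u → u * s = s * u →
      u = 1 ∨ u = M8.z ∨ u = pE j ∨ u = M8.z * pE j := by decide +kernel

/-- The four-group of the pair. -/
abbrev InP (j : Fin 3) (k : Bool) (q : M8) : Prop :=
  q = 1 ∨ q = pE j ∨ q = p3 j k ∨ q = p3 j k * pE j

theorem inP_facts : ∀ (j : Fin 3) (k : Bool) (p q : M8), InP j k p → InP j k q →
    InP j k (p * q) ∧ InP j k p⁻¹ ∧ M8.InA p ∧ p * p = 1 := by decide +kernel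

theorem inP_card : ∀ (j : Fin 3) (k : Bool), (Finset.univ.filter fun q : M8 => InP j k q).card = 4 ∧
    (∀ q : M8, InP j k q → q = 1 ∨ Six j k q) ∧ ∃ q : M8, M8.InA q ∧ ¬ InP j k q := by decide +kernel

theorem coset_zt : ∀ (j : Fin 3) (k : Bool) (a : M8), M8.InA a → ¬ InP j k a →
    ∃ p : M8, InP j k p ∧ M8.InA (a * p) ∧ a * p ≠ 1 ∧ ¬ Six j k (a * p) := by decide +kernel

theorem six_sub : ∀ (j : Fin 3) (k : Bool) (q : M8), Six j k q → M8.InA q ∧ q ≠ 1 := by decide +kernel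

theorem other_E : ∀ (j : Fin 3), ∃ i : Fin 3, i ≠ j ∧
    ∀ (k : Bool) (q : M8), InE i q → M8.InA q → q ≠ 1 → ¬ Six j k q := by decide +kernel

theorem E_bits : ∀ (i i' : Fin 3) (q : M8), InE i q → M8.Out q → q.a = (oE i').a → q.f = (oE i').f → i' = i := by
  decide +kernel

/-- The subgroup of the model generated by the pair. -/
def PM (j : Fin 3) (k : Bool) : Subgroup M8 where
  carrier := {q | InP j k q}
  one_mem' := Or.inl rfl
  mul_mem' := fun hp hq => (inP_facts j k _ _ hp hq).1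
  inv_mem' := fun {p} hp => (inP_facts j k p p hp hp).2.1

variable {G : Type u} [Group G] [Finite G]

theorem mem_normalizer_core {H : Subgroup G} {g : G} (h : ∀ x ∈ H, g * x * g⁻¹ ∈ H)
    (h' : ∀ x ∈ H, g⁻¹ * x * g ∈ H) : g ∈ normalizer (core H : Set G) := by
  refine ZStarApps.mem_normalizer_of_maps fun x hx => ?_
  have hle : (core H).map (MulAut.conj g).toMonoidHom ≤ core H := by
    refine le_core ?_ (fun u hu v hv => ?_) (by
      rw [card_map_of_injective (MulEquiv.injective _)]; exact odd_core _)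
    · rintro _ ⟨y, hy, rfl⟩; exact h y (core_le H hy)
    · obtain ⟨y, hy, rfl⟩ := hv
      refine ⟨g⁻¹ * u * g * y * (g⁻¹ * u * g)⁻¹, (mem_normalizer_iff.1 (core_normalized (h' u hu)) y).1 hy, ?_⟩
      show g * (g⁻¹ * u * g * y * (g⁻¹ * u * g)⁻¹) * g⁻¹ = u * (g * y * g⁻¹) * u⁻¹
      group
  exact hle ⟨x, hx, rfl⟩

namespace Typed

variable (c : Typed G)

/-- The four-group of the pair inside the group. -/
def Pg (j : Fin 3) (k : Bool) : Subgroup G := (PM j k).map c.ι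

theorem mem_Pg {j : Fin 3} {k : Bool} {x : G} : x ∈ c.Pg j k ↔ ∃ q, InP j k q ∧ c.ι q = x := Subgroup.mem_map

theorem Pg_le_Ag (j : Fin 3) (k : Bool) : c.Pg j k ≤ c.Ag := by
  rintro _ ⟨q, hq, rfl⟩
  exact c.mem_Ag.2 ⟨q, (inP_facts j k q q hq hq).2.2.1, rfl⟩

theorem card_Pg (j : Fin 3) (k : Bool) : Nat.card (c.Pg j k) = 4 :=
  (c.card_map_ι (PM j k) (InP j k) fun _ => Iff.rfl).trans (inP_card j k).1

/-- The centraliser of the pair. -/
def pairCent (j : Fin 3) (k : Bool) : Subgroup G :=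
  centralizer ({c.ι (pE j)} : Set G) ⊓ centralizer ({c.ι (p3 j k)} : Set G)

theorem pairCent_comm {j : Fin 3} {k : Bool} {x : G} (hx : x ∈ c.pairCent j k) {q : M8} (hq : InP j k q) :
    x * c.ι q = c.ι q * x := by
  have h1 := mem_centralizer_singleton_iff.1 hx.1
  have h2 := mem_centralizer_singleton_iff.1 hx.2
  rcases hq with rfl | rfl | rfl | rfl
  · rw [map_one, mul_one, one_mul]
  · exact h1
  · exact h2
  · rw [map_mul]; exact ((show Commute x _ from h2).mul_right (show Commute x _ from h1)).eq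

theorem Ag_le_pairCent (j : Fin 3) (k : Bool) : c.Ag ≤ c.pairCent j k := by
  rintro _ ⟨q, hq, rfl⟩
  exact ⟨c.ι_cent_of (M8.inA_mul q _ hq (oE_facts j).2.2.2.2.1).2,
    c.ι_cent_of (M8.inA_mul q _ hq (p3_facts j k).2.2.1).2⟩

end Typed

variable (c : Typed G) {hsol : Group.IsSolvable ↥(Subgroup.centralizer ({c.zG} : Set G))}
  {j : Fin 3} {k : Bool}

theorem not_ZT_six (hp : PatThree c j k) {q : M8} (hq : Six j k q) : ¬ ZT c q := fun e =>
  (hp.zt q (six_sub j k q hq).1 (six_sub j k q hq).2).1 e hq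

/-- The centraliser of `pE j` modulo the core lies in the image of the Sylow subgroup. -/
theorem cent_pE_image (h : ShapeThree (c.loc hsol)) {d : G} (hd : d ∈ centralizer ({c.zG} : Set G))
    (hdb : d * c.ι (pE j) = c.ι (pE j) * d) :
    ∃ r : M8, qm c.zG ⟨d, hd⟩ = c.κ r := by
  haveI : Fact (Nat.Prime 2) := ⟨Nat.prime_two⟩
  haveI : Fact (Nat.Prime 3) := ⟨Nat.prime_three⟩
  obtain ⟨-, hidx, -, -, -, -, hfree⟩ := h
  obtain ⟨-, -, -, -, -, -, -, hbb, hbQ, hb32, -⟩ := p3_facts j false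
  obtain ⟨-, -, -, -, hbA, hb1, hbz, -⟩ := oE_facts j
  set C := centralizer ({c.κ (pE j)} : Set (Qt c.zG)) with hC
  set RM := centralizer ({pE j} : Set M8) with hRM
  have hRC : RM.map c.κ ≤ C := by
    rintro _ ⟨r, hr, rfl⟩
    refine mem_centralizer_singleton_iff.2 ?_
    rw [← map_mul, ← map_mul, mem_centralizer_singleton_iff.1 hr]
  have hRcard : Nat.card (RM.map c.κ) = 32 := by
    rw [card_map_of_injective c.κ_inj, ← hb32, ← Nat.card_eq_finsetCard]
    exact Nat.card_congr (Equiv.subtypeEquivRight fun q => by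
      rw [hRM, mem_centralizer_singleton_iff, Finset.mem_filter]; simp)
  have hrange : Nat.card c.κ.range = 64 := by
    rw [← Nat.card_congr (MonoidHom.ofInjective c.κ_inj).toEquiv, M8.card_M8]
  have h192 : Nat.card (Qt c.zG) = 64 * 3 := by
    rw [← c.κ.range.card_mul_index, hrange, show c.κ.range.index = 3 from hidx]
  have h3 : ¬ 3 ∣ Nat.card C := fun hdiv => by
    obtain ⟨⟨x, hx⟩, hxo⟩ := exists_prime_orderOf_dvd_card' (G := C) 3 hdiv
    rw [Subgroup.orderOf_mk] at hxo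
    rcases hfree x (by rw [← pow_three', ← hxo, pow_orderOf_eq_one]) (fun e => by rw [e, orderOf_one] at hxo; omega)
      (pE j) hbQ (mem_centralizer_singleton_iff.1 hx) with e | e
    · exact hb1 e
    · exact hbz e
  have h64 : Nat.card C ∣ 64 := (Nat.Coprime.dvd_mul_right
    ((Nat.prime_three.coprime_iff_not_dvd.2 h3).symm)).1 (h192 ▸ C.card_subgroup_dvd_card)
  have hne : Nat.card C ≠ 64 := fun e => by
    let P : Sylow 2 (Qt c.zG) := (IsPGroup.of_card (n := 6) (by rw [hrange]; rfl)).toSylow c.κ_sylow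
    obtain ⟨a, ha⟩ := Cfsg.Lib.InvolCalc.exists_conj_le P
      (IsPGroup.of_card (n := 6) (by rw [e]; rfl) : IsPGroup 2 C)
    have heq : C.map (MulAut.conj a⁻¹).toMonoidHom = c.κ.range := eq_of_le_of_card_ge
      (by rintro _ ⟨x, hx, rfl⟩; show a⁻¹ * x * a⁻¹⁻¹ ∈ c.κ.range; rw [inv_inv]; exact ha x hx)
      (by rw [hrange, card_map_of_injective (MulEquiv.injective _), e])
    obtain ⟨q', hq'⟩ : a⁻¹ * c.κ (pE j) * a ∈ c.κ.range := ha _ (mem_centralizer_singleton_iff.2 rfl)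
    have hcom : ∀ g : M8, q' * g = g * q' := fun g => c.κ_inj (by
      obtain ⟨x, hx, hxe⟩ : c.κ g ∈ C.map (MulAut.conj a⁻¹).toMonoidHom := heq ▸ ⟨g, rfl⟩
      rw [map_mul, map_mul, hq', ← hxe]
      show a⁻¹ * c.κ (pE j) * a * (a⁻¹ * x * a⁻¹⁻¹) = a⁻¹ * x * a⁻¹⁻¹ * (a⁻¹ * c.κ (pE j) * a)
      calc a⁻¹ * c.κ (pE j) * a * (a⁻¹ * x * a⁻¹⁻¹) = a⁻¹ * (c.κ (pE j) * x) * a := by group
        _ = _ := by rw [← mem_centralizer_singleton_iff.1 hx]; group)
    have hback : c.κ (pE j) = a * c.κ q' * a⁻¹ := by rw [hq']; group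
    rcases M8.center_eq q' ⟨hcom _, hcom _, hcom _⟩ with e' | e'
    · rw [e', map_one, mul_one, mul_inv_cancel, ← map_one c.κ] at hback
      exact hb1 (c.κ_inj hback)
    · rw [e', mem_center_iff.1 c.κ_central a, mul_inv_cancel_right] at hback
      exact hbz (c.κ_inj hback)
  have hle : Nat.card C ≤ 32 := by
    obtain ⟨m, hm⟩ := h64
    rcases Nat.lt_or_ge m 2 with hm2 | hm2
    · interval_cases m <;> omega
    · nlinarith
  have hCR : RM.map c.κ = C := eq_of_le_of_card_ge hRC (by rw [hRcard]; exact hle)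
  have hdC : qm c.zG ⟨d, hd⟩ ∈ C := mem_centralizer_singleton_iff.2 (by
    rw [c.κ_def, ← map_mul, ← map_mul]
    exact congrArg _ (Subtype.ext hdb))
  rw [← hCR] at hdC
  obtain ⟨r, -, hr⟩ := hdC
  exact ⟨r, hr.symm⟩

/-- The conjugates in the centraliser of `b` of the pair representative that lie in the Sylow subgroup. -/
theorem pair_key (h : ShapeThree (c.loc hsol)) (hp : PatThree c j k) {g : G}
    (hg : g ∈ centralizer ({c.ι (pE j)} : Set G)) {r : M8} (hr : r * pE j = pE j * r)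
    (hre : c.ι r = g * c.ι (p3 j k) * g⁻¹) : r = p3 j k ∨ r = p3 j k * pE j := by
  haveI : Fact (Nat.Prime 2) := ⟨Nat.prime_two⟩
  obtain ⟨hpp, hp1, hpA, hpb, hpne, hpS, hpbS, hbb, hbQ, hb32, hbS⟩ := p3_facts j k
  obtain ⟨-, -, -, -, hbA, hb1, hbz, -⟩ := oE_facts j
  set b := c.ι (pE j) with hb
  have hgb : g * b * g⁻¹ = b := by rw [mem_centralizer_singleton_iff.1 hg, mul_inv_cancel_right]
  have hrr : r * r = 1 := c.pre_sq (by rw [hre, conj_mul, c.ι_sq hpp, mul_one, mul_inv_cancel])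
  have hr1 : r ≠ 1 := fun e => hp1 (c.ι_eq_one.1 (conj_eq_one_iff.1 (by rw [← hre, e, map_one])))
  have hrb1 : r * pE j ≠ 1 := fun e => hpne (c.ι_inj (by
    have e' : r = pE j := by rw [mul_eq_one_iff_eq_inv.1 e, inv_eq_of_mul_eq_one_right hbb]
    calc c.ι (p3 j k) = g⁻¹ * (g * c.ι (p3 j k) * g⁻¹) * g := by group
      _ = g⁻¹ * (g * b * g⁻¹) * g := by rw [← hre, e', hgb]
      _ = c.ι (pE j) := by rw [hb]; group))
  by_cases hA : M8.InA r
  · have hS : ∀ q, M8.InA q → q ≠ 1 → ¬ ZT c q → Six j k q := fun q hq hq1 hn =>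
      by_contra fun h6 => hn ((hp.zt q hq hq1).2 h6)
    refine pair_three j k r hA hr1 hrb1 (hS r hA hr1 (c.not_ZT_conj (not_ZT_six c hp hpS) hre.symm))
      (hS _ (M8.inA_mul _ _ hA hbA).1 hrb1 (c.not_ZT_conj (g := g) (not_ZT_six c hp hpbS) ?_))
    rw [map_mul, map_mul, hre, ← hb, ← conj_mul, hgb]
  exfalso
  have hb2 : b * b = 1 := c.ι_sq hbb
  set T := pairStab hb2 (c.ι (p3 j k)) with hT
  set P := (c.S : Subgroup G) ⊓ pairStab hb2 (c.ι r) with hP
  have hPT : P.map (MulAut.conj g⁻¹).toMonoidHom ≤ T := by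
    rintro _ ⟨x, ⟨-, hxb, hxr⟩, rfl⟩
    have hgb' : g⁻¹ * b * g = b := by
      rw [mul_assoc, ← mem_centralizer_singleton_iff.1 hg, inv_mul_cancel_left]
    refine ⟨?_, ?_⟩
    · show g⁻¹ * x * g⁻¹⁻¹ * b = b * (g⁻¹ * x * g⁻¹⁻¹)
      calc g⁻¹ * x * g⁻¹⁻¹ * b = g⁻¹ * (x * (g * b * g⁻¹)) * g := by group
        _ = g⁻¹ * (b * x) * g := by rw [hgb, hxb]
        _ = (g⁻¹ * b * g) * (g⁻¹ * x * g) := by group
        _ = _ := by rw [hgb', inv_inv]
    · show g⁻¹ * x * g⁻¹⁻¹ * c.ι (p3 j k) * (g⁻¹ * x * g⁻¹⁻¹)⁻¹ = c.ι (p3 j k) ∨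
        g⁻¹ * x * g⁻¹⁻¹ * c.ι (p3 j k) * (g⁻¹ * x * g⁻¹⁻¹)⁻¹ = c.ι (p3 j k) * b
      rw [show g⁻¹ * x * g⁻¹⁻¹ * c.ι (p3 j k) * (g⁻¹ * x * g⁻¹⁻¹)⁻¹ =
        g⁻¹ * (x * (g * c.ι (p3 j k) * g⁻¹) * x⁻¹) * g by group, ← hre]
      rcases hxr with e | e <;> rw [e]
      · left; rw [hre]; group
      · right
        rw [show g⁻¹ * (c.ι r * b) * g = (g⁻¹ * c.ι r * g) * (g⁻¹ * b * g) by group, hgb',
          show g⁻¹ * c.ι r * g = c.ι (p3 j k) by rw [hre]; group]
  have hTC : T ≤ centralizer ({b} : Set G) := fun t ht => mem_centralizer_singleton_iff.2 ht.1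
  obtain ⟨t, ht, htP⟩ := c.cent_sylow hbb hb1 (not_ZT_six c hp hbS) hb32 hTC (fun s hs => ⟨c.ι_comm hs, by
    rw [← map_inv, ← map_mul, ← map_mul, hb, ← map_mul, c.ι_inj.eq_iff, c.ι_inj.eq_iff]
    exact (cent_pair j k s hs).1⟩)
    ((c.S.2.to_le (inf_le_left : P ≤ _)).map (MulAut.conj g⁻¹).toMonoidHom) hPT
  set d := t * g⁻¹ with hd
  have himg : ∀ x ∈ P, ∃ q : M8, q * pE j = pE j * q ∧ c.ι q = d * x * d⁻¹ := fun x hx => by
    obtain ⟨q, hq, e⟩ := htP _ (mem_map_of_mem _ hx)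
    exact ⟨q, hq, by rw [e, hd]; simp [mul_assoc]⟩
  have hdb : d * b = b * d :=
    ((show Commute t b from ht.1).mul_left (show Commute g b from mem_centralizer_singleton_iff.1 hg).inv_left)
  have hdb' : d * b * d⁻¹ = b := by rw [hdb, mul_inv_cancel_right]
  have hrb : c.ι r * b = b * c.ι r := c.ι_comm hr
  obtain ⟨p', -, hp'⟩ := himg (c.ι r) ⟨c.ι_mem r, hrb, Or.inl (by rw [mul_inv_cancel_right])⟩
  have hp'2 : p' = p3 j k ∨ p' = p3 j k * pE j := by
    have e : d * c.ι r * d⁻¹ = t * c.ι (p3 j k) * t⁻¹ := by rw [hd, hre]; group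
    rw [e] at hp'
    refine ht.2.imp (fun e' => c.ι_inj (hp'.trans e')) (fun e' => c.ι_inj ?_)
    rw [hp', e', map_mul]
  obtain ⟨s, hsb, hsr⟩ := out_swap j r hr hrr hA
  obtain ⟨s', hs'b, hs'⟩ := himg (c.ι s) ⟨c.ι_mem s, c.ι_comm hsb, Or.inr (by
    rw [← map_inv, ← map_mul, ← map_mul, hsr, map_mul])⟩
  have hs'p : s' * p' * s'⁻¹ = p' * pE j := c.ι_inj (by
    rw [map_mul, map_mul, map_inv, hs', hp', map_mul, hp', ← hb]
    calc d * c.ι s * d⁻¹ * (d * c.ι r * d⁻¹) * (d * c.ι s * d⁻¹)⁻¹ = d * (c.ι s * c.ι r * (c.ι s)⁻¹) * d⁻¹ := by group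
      _ = d * (c.ι r * b) * d⁻¹ := by rw [← map_inv, ← map_mul, ← map_mul, hsr, map_mul]
      _ = d * c.ι r * d⁻¹ * (d * b * d⁻¹) := by group
      _ = _ := by rw [hdb'])
  have hs'3 : s' * p3 j k * s'⁻¹ = p3 j k * pE j := by
    have hsb' : s' * pE j * s'⁻¹ = pE j := by rw [hs'b, mul_inv_cancel_right]
    rcases hp'2 with e | e <;> rw [e] at hs'p
    · exact hs'p
    · rw [← conj_mul, hsb'] at hs'p
      exact mul_right_cancel hs'p
  obtain ⟨u, hub, hu⟩ := himg c.zG ⟨c.ι_mem _, (c.ι_comm (M8.z_central _).symm : _), Or.inl (by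
    rw [← c.zG_comm (c.ι_mem r), mul_inv_cancel_right])⟩
  have hcomm : ∀ {x : G} {q : M8}, x ∈ (c.S : Subgroup G) → c.ι q = d * x * d⁻¹ → u * q = q * u :=
    fun {x q} hx e => c.ι_inj (by rw [map_mul, map_mul, hu, e, conj_mul, conj_mul, c.zG_comm hx])
  have hup : u * p3 j k = p3 j k * u := by
    have h1 := hcomm (c.ι_mem r) hp'
    rcases hp'2 with e | e <;> rw [e] at h1
    · exact h1
    · have h2 := (show Commute u (p3 j k * pE j) from h1).mul_right (show Commute u (pE j) from hub)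
      rw [mul_assoc, hbb, mul_one] at h2
      exact h2
  have hZu : ZT c u := isConj_iff.2 ⟨d, hu.symm⟩
  rcases swap_fix j k s' hs'b hs'3 u ((cent_pair j k u hub).2 hup) (hcomm (c.ι_mem s) hs') with e | e | e | e
  · rw [e, map_one] at hu
    exact M8.z_facts.2.1 (c.ι_eq_one.1 (conj_eq_one_iff.1 hu.symm))
  · rw [e] at hu
    have hdz : d ∈ centralizer ({c.zG} : Set G) := mem_centralizer_singleton_iff.2
      (mul_inv_eq_iff_eq_mul.1 hu.symm)
    obtain ⟨w, hw⟩ := cent_pE_image c h hdz hdb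
    have hwr : w * r * w⁻¹ = p' := c.κ_inj (by
      rw [map_mul, map_mul, map_inv, ← hw, c.κ_def r, c.κ_def p', ← map_inv, ← map_mul, ← map_mul]
      exact congrArg _ (Subtype.ext hp'.symm))
    apply hA
    have hp'A : M8.InA p' := by
      rcases hp'2 with e | e <;> rw [e]
      · exact hpA
      · exact (M8.inA_mul _ _ hpA hbA).1
    have := M8.inA_conj w⁻¹ p' hp'A
    rwa [← hwr, show w⁻¹ * (w * r * w⁻¹) * w⁻¹⁻¹ = r by group] at this
  · exact not_ZT_six c hp hbS (e ▸ hZu)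
  · exact not_ZT_six c hp (Or.inr (Or.inl rfl)) (e ▸ hZu)

theorem core_three (hodd : Cfsg.oddCore G = ⊥)
    (hsol : Group.IsSolvable ↥(Subgroup.centralizer ({c.zG} : Set G))) (h : ShapeThree (c.loc hsol))
    {j : Fin 3} {k : Bool} (hp : PatThree c j k) : Cfsg.Lib.Walter.Oc c.zG = ⊥ := by
  haveI : Fact (Nat.Prime 2) := ⟨Nat.prime_two⟩
  obtain ⟨hpp, hp1, hpA, hpb, hpne, hpS, hpbS, hbb, hbQ, hb32, hbS⟩ := p3_facts j k
  obtain ⟨-, -, -, -, hbA, hb1, hbz, -⟩ := oE_facts j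
  have hnb : ¬ ZT c (pE j) := not_ZT_six c hp hbS
  obtain ⟨i, hij, hi⟩ := other_E j
  have hf := h.2.2.2.2.2.1
  -- all involutions of `E i` are of central type
  have hEZT : ∀ q, InE i q → q ≠ 1 → ZT c q := fun q hq hq1 => by
    by_cases hA : M8.InA q
    · exact (hp.zt q hA hq1).2 (hi k q hq hA hq1)
    obtain ⟨i', n, -, ha, hf', hn⟩ := c.outer_fused hsol hf (EM_elem i q q hq hq).2 hA
    obtain rfl := E_bits i i' q hq hA ha hf'
    obtain ⟨-, -, -, hE, hA', h1', -, -⟩ := oE_facts i'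
    exact c.ZT_conj ((hp.zt _ hA' h1').2 (hi k _ hE hA' h1')) hn
  obtain ⟨hWodd, hW⟩ := WE_data (c.Eg_comm i) (c.Eg_sq i) (by rw [c.card_Eg]) fun x hx hx1 => by
    obtain ⟨q, hq, rfl⟩ := c.mem_Eg.1 hx
    exact c.solvable_ZT hsol (hEZT q hq fun e => hx1 (by rw [e, map_one]))
  set W := WE (c.Eg i) with hWdef
  set M := normalizer (W : Set G) with hM
  have hWM : W ≤ M := le_normalizer
  have hzE : c.zG ∈ c.Eg i := c.mem_Eg.2 ⟨_, (oE_facts i).2.2.2.2.2.2.2, rfl⟩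
  have hz1 : c.zG ≠ 1 := fun e => M8.z_facts.2.1 (c.ι_eq_one.1 e)
  -- the centraliser of `z`
  have hCz : centralizer ({c.zG} : Set G) ≤ M := fun g hg =>
    c.mem_of_lift ((le_WE hzE hz1).trans hWM) (EM i) (fun n hn => WE_normalized fun a ha => by
      obtain ⟨q, hq, rfl⟩ := c.mem_Eg.1 ha
      obtain ⟨q', hq', e⟩ := hn q hq
      exact c.mem_Eg.2 ⟨q', hq', e.symm⟩) hg fun q hq => h.2.2.2.2.1 i _ q hq
  have hSM : (c.S : Subgroup G) ≤ M := c.S_le_cent.trans hCz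
  have hAM : c.Ag ≤ M := c.Ag_le.trans hSM
  -- odd subgroups normalised by `A` in centralisers of central type
  have hoddA : ∀ v : M8, NFused c M8.z v → ∀ X : Subgroup G, X ≤ centralizer ({c.ι v} : Set G) →
      Odd (Nat.card X) → c.Ag ≤ normalizer (X : Set G) → X ≤ Oc (c.ι v) := by
    intro v hv X hX ho hn x hx
    obtain ⟨n, hnA, hnv⟩ := hv
    set Y := (X.map (MulAut.conj n⁻¹).toMonoidHom).subgroupOf (centralizer ({c.zG} : Set G)) with hY
    have hK : Y.map (qm c.zG) = ⊥ := by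
      refine h.2.2.2.1 _ ?_ fun q hq y hy => ?_
      · refine Odd.of_dvd_nat ho ((Y.card_map_dvd _).trans ?_)
        rw [hY, ← card_map_of_injective (centralizer ({c.zG} : Set G)).subtype_injective, subgroupOf_map_subtype,
          ← card_map_of_injective (f := (MulAut.conj n⁻¹).toMonoidHom) (MulEquiv.injective _) (K := X)]
        exact card_dvd_of_le inf_le_left
      · obtain ⟨⟨y, hyC⟩, ⟨x', hx', hxy⟩, rfl⟩ := hy
        have ha : n * c.ι q * n⁻¹ ∈ c.Ag := c.conj_Ag hnA (c.mem_Ag.2 ⟨q, hq, rfl⟩)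
        refine ⟨⟨c.ι q, c.ι_cent q⟩ * ⟨y, hyC⟩ * ⟨c.ι q, c.ι_cent q⟩⁻¹, ⟨_,
          (mem_normalizer_iff.1 (hn ha) x').1 hx', ?_⟩, by rw [map_mul, map_mul, map_inv]; rfl⟩
        show n⁻¹ * (n * c.ι q * n⁻¹ * x' * (n * c.ι q * n⁻¹)⁻¹) * n⁻¹⁻¹ = c.ι q * y * (c.ι q)⁻¹
        rw [show y = n⁻¹ * x' * n⁻¹⁻¹ from hxy.symm]
        group
    have hxC : n⁻¹ * x * n ∈ centralizer ({c.zG} : Set G) := mem_centralizer_singleton_iff.2 (by
      have hxv := mem_centralizer_singleton_iff.1 (hX hx)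
      rw [← hnv] at hxv
      calc n⁻¹ * x * n * c.zG = n⁻¹ * (x * (n * c.ι M8.z * n⁻¹)) * n := by rw [Typed.zG]; group
        _ = c.zG * (n⁻¹ * x * n) := by rw [hxv, Typed.zG]; group)
    have h1 : qm c.zG ⟨n⁻¹ * x * n, hxC⟩ ∈ Y.map (qm c.zG) :=
      mem_map_of_mem _ (⟨x, hx, by simp⟩ : n⁻¹ * x * n ∈ X.map (MulAut.conj n⁻¹).toMonoidHom)
    rw [hK] at h1
    have h2 := conj_Oc n c.zG (mem_Oc.2 ⟨hxC, h1⟩)
    rwa [Typed.zG, hnv, show n * (n⁻¹ * x * n) * n⁻¹ = x by group] at h2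
  -- `W` is the largest odd subgroup normalised by `A`
  have hmax : ∀ U : Subgroup G, Odd (Nat.card U) → c.Ag ≤ normalizer (U : Set G) → U ≤ W := by
    intro U ho hn
    refine le_of_four' (E := c.Eg i ⊓ c.Ag) (by rw [c.card_Eg_inf]) (fun x hx y hy => c.Ag_comm hx.2 hy.2)
      (fun x hx => c.Ag_sq hx.2) ho (fun x hx => hn hx.2) fun e he he1 => ?_
    obtain ⟨q, hq, rfl⟩ := c.mem_Ag.1 he.2
    obtain ⟨q0, hq0, hqe⟩ := c.mem_Eg.1 he.1
    obtain rfl := c.ι_inj hqe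
    have hq1 : q0 ≠ 1 := fun e => he1 (by rw [e, map_one])
    refine (hoddA q0 (hp.fusedZ q0 hq hq1 (hi k q0 hq0 hq hq1)) _ inf_le_right
      (ho.of_dvd_nat (card_dvd_of_le inf_le_left)) fun a ha => ?_).trans (le_WE he.1 he1)
    refine ZStarApps.mem_normalizer_of_maps fun x hx => ⟨(mem_normalizer_iff.1 (hn ha) x).1 hx.1, ?_⟩
    have hac : a ∈ centralizer ({c.ι q0} : Set G) := mem_centralizer_singleton_iff.2 (c.Ag_comm ha he.2)
    exact Subgroup.mul_mem _ (Subgroup.mul_mem _ hac hx.2) (Subgroup.inv_mem _ hac)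
  have hAW : c.Ag ≤ normalizer (W : Set G) := hAM
  have hNA : normalizer (c.Ag : Set G) ≤ M := fun n hn => ZStarApps.mem_normalizer_of_maps fun x hx => by
    refine hmax (W.map (MulAut.conj n).toMonoidHom) (by rwa [card_map_of_injective (MulEquiv.injective _)])
      (fun a ha => ZStarApps.mem_normalizer_of_maps ?_) ⟨x, hx, rfl⟩
    rintro _ ⟨y, hy, rfl⟩
    have ha' : n⁻¹ * a * n ∈ c.Ag := by simpa using c.conj_Ag (inv_mem hn) ha
    refine ⟨_, (mem_normalizer_iff.1 (hAW ha') y).1 hy, ?_⟩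
    show n * (n⁻¹ * a * n * y * (n⁻¹ * a * n)⁻¹) * n⁻¹ = a * (n * y * n⁻¹) * a⁻¹
    group
  have hOcA : ∀ a ∈ c.Ag, Oc a ≤ W := fun a ha => hmax _ (odd_Oc a) fun x hx =>
    Oc_normalized (mem_centralizer_singleton_iff.2 (c.Ag_comm hx ha))
  have hCZ : ∀ v : M8, M8.InA v → v ≠ 1 → ¬ Six j k v → centralizer ({c.ι v} : Set G) ≤ M := fun v hv hv1 h6 =>
    c.cent_fused_le hNA (hp.fusedZ v hv hv1 h6) hCz
  -- the centraliser of `b` and of the pair
  set b := c.ι (pE j) with hb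
  set p := c.ι (p3 j k) with hpdef
  have hb2 : b * b = 1 := c.ι_sq hbb
  set T := pairStab hb2 p with hT
  set X := c.pairCent j k with hX
  have hTC : T ≤ centralizer ({b} : Set G) := fun t ht => mem_centralizer_singleton_iff.2 ht.1
  have hdec : ∀ g ∈ centralizer ({b} : Set G), ∃ o ∈ Oc b, o⁻¹ * g ∈ T := fun g hg =>
    c.cent_decomp hbb hb1 hnb hb32 hpp hp1 hpb hpne (fun g hg r hr hre => pair_key c h hp hg hr hre) hg
  have hXT : X ≤ T := fun x hx =>
    ⟨mem_centralizer_singleton_iff.1 hx.1, Or.inl (by rw [mem_centralizer_singleton_iff.1 hx.2, mul_inv_cancel_right])⟩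
  -- two-subgroups of the centraliser of the pair
  have hsmall : ∀ U : Subgroup G, IsPGroup 2 U → U ≤ X → Nat.card U ≤ 16 := by
    intro U hU hUX
    obtain ⟨t, ht, htU⟩ := c.cent_sylow hbb hb1 hnb hb32 hTC (fun s hs => ⟨c.ι_comm hs, by
      rw [hpdef, hb, ← map_inv, ← map_mul, ← map_mul, ← map_mul, c.ι_inj.eq_iff, c.ι_inj.eq_iff]
      exact (cent_pair j k s hs).1⟩) hU (hUX.trans hXT)
    rw [← card_cjS t U, ← c.card_Ag]
    refine Nat.card_le_card_of_injective (inclusion ?_) (inclusion_injective _)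
    rintro _ ⟨x, hx, rfl⟩
    obtain ⟨r, hr, hre⟩ := htU x hx
    refine c.mem_Ag.2 ⟨r, (cent_pair j k r hr).2 ?_, hre⟩
    have htp : Commute (c.ι r) (t * p * t⁻¹) := by
      rw [hre]
      show _ = _
      rw [conj_mul, conj_mul, (mem_centralizer_singleton_iff.1 (hUX hx).2 : x * p = p * x)]
    rcases ht.2 with e | e <;> rw [e] at htp
    · exact c.pre_cent (mem_centralizer_singleton_iff.2 htp)
    · have htp2 := htp.mul_right (show Commute (c.ι r) b from c.ι_comm hr)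
      rw [mul_assoc p b b, hb2, mul_one] at htp2
      exact c.pre_cent (mem_centralizer_singleton_iff.2 htp2)
  have hintoA : ∀ Z : Subgroup G, c.Ag ≤ Z → Z ≤ X → ∀ U : Subgroup G, IsPGroup 2 U → U ≤ Z →
      ∃ z ∈ Z, ∀ x ∈ U, z * x * z⁻¹ ∈ c.Ag := by
    intro Z hAZ hZX U hU hUZ
    obtain ⟨P, hP⟩ := ((c.S.2.to_le c.Ag_le).of_equiv (subgroupOfEquivOfLe hAZ).symm).exists_le_sylow
    have hPA : c.Ag = (P : Subgroup Z).map Z.subtype := eq_of_le_of_card_ge
      (fun a ha => ⟨⟨a, hAZ ha⟩, hP ha, rfl⟩)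
      ((hsmall _ (P.isPGroup'.map _) ((map_subtype_le _).trans hZX)).trans c.card_Ag.ge)
    obtain ⟨d, hd⟩ := Cfsg.Lib.InvolCalc.exists_conj_le P (hU.of_equiv (subgroupOfEquivOfLe hUZ).symm)
    refine ⟨(d : G)⁻¹, inv_mem d.2, fun x hx => ?_⟩
    rw [hPA]
    exact ⟨_, hd ⟨x, hUZ hx⟩ hx, by simp⟩
  set P0 := c.Pg j k with hP0
  have hP0X : P0 ≤ X := (c.Pg_le_Ag j k).trans (c.Ag_le_pairCent j k)
  have hP0M : P0 ≤ M := (c.Pg_le_Ag j k).trans hAM
  have hP0c : ∀ x ∈ X, ∀ y ∈ P0, x * y = y * x := fun x hx y hy => by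
    obtain ⟨q, hq, rfl⟩ := c.mem_Pg.1 hy
    exact c.pairCent_comm hx hq
  have hXconj : ∀ x ∈ X, ∀ y ∈ P0, x * y * x⁻¹ = y := fun x hx y hy => by
    rw [hP0c x hx y hy, mul_inv_cancel_right]
  -- conjugation inside the pair centraliser between elements of `A` outside the four-group
  have hmove : ∀ x ∈ X, ∀ a ∈ c.Ag, a ∉ P0 → x * a * x⁻¹ ∈ c.Ag → x ∈ M := by
    intro x hx a ha haP hxa
    set a' := x * a * x⁻¹ with ha'
    have ha'P : a' ∉ P0 := fun hm => haP (by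
      rwa [show a = x⁻¹ * a' * x⁻¹⁻¹ by rw [ha']; group, hXconj _ (inv_mem hx) _ hm])
    obtain ⟨q, hq, hqe⟩ := c.mem_Ag.1 hxa
    obtain ⟨v, hv, hvA, hv1, hv6⟩ := coset_zt j k q hq fun hm => ha'P (c.mem_Pg.2 ⟨q, hm, hqe⟩)
    set Z := X ⊓ centralizer ({a'} : Set G) with hZ
    have hZM : Z ≤ M := fun y hy => hCZ _ hvA hv1 hv6 (mem_centralizer_singleton_iff.2 (by
      rw [map_mul]
      exact ((show Commute y (c.ι q) by rw [hqe]; exact mem_centralizer_singleton_iff.1 hy.2).mul_right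
        (show Commute y (c.ι v) from c.pairCent_comm hy.1 hv)).eq))
    have hAZ : c.Ag ≤ Z := fun y hy =>
      ⟨c.Ag_le_pairCent j k hy, mem_centralizer_singleton_iff.2 (c.Ag_comm hy hxa)⟩
    have hUZ : cjS x c.Ag ≤ Z := by
      rintro _ ⟨y, hy, rfl⟩
      refine ⟨Subgroup.mul_mem _ (Subgroup.mul_mem _ hx (c.Ag_le_pairCent j k hy)) (Subgroup.inv_mem _ hx),
        mem_centralizer_singleton_iff.2 ?_⟩
      show x * y * x⁻¹ * (x * a * x⁻¹) = x * a * x⁻¹ * (x * y * x⁻¹)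
      rw [conj_mul, conj_mul, c.Ag_comm hy ha]
    obtain ⟨z, hz, hzU⟩ := hintoA Z hAZ inf_le_left (cjS x c.Ag) ((c.S.2.to_le c.Ag_le).map _) hUZ
    have hzx : z * x ∈ M := hNA (c.mem_normalizer_Ag fun y hy => by
      rw [show z * x * y * (z * x)⁻¹ = z * (x * y * x⁻¹) * z⁻¹ by group]
      exact hzU _ (mem_cjS.2 ⟨y, hy, rfl⟩))
    exact (mul_mem_cancel_left (hZM hz)).1 hzx
  -- the odd subgroup inside the pair centraliser lies in its core
  have hWX : W ⊓ X ≤ core X := by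
    by_cases hXM : X ≤ M
    · exact le_core inf_le_right (fun x hx w hw => ⟨(mem_normalizer_iff.1 (hXM hx) w).1 hw.1,
        Subgroup.mul_mem _ (Subgroup.mul_mem _ hx hw.2) (Subgroup.inv_mem _ hx)⟩) (hWodd.of_dvd_nat (card_dvd_of_le inf_le_left))
    set N := P0.subgroupOf X with hN
    have hNc : N ≤ center X := fun n hn => mem_center_iff.2 fun x => Subtype.ext (hP0c x x.2 n hn)
    haveI : N.Normal := ⟨fun n hn x => by rwa [mem_center_iff.1 (hNc hn) x, mul_inv_cancel_right]⟩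
    have hN2 : IsPGroup 2 N :=
      ((c.S.2.to_le ((c.Pg_le_Ag j k).trans c.Ag_le))).of_equiv (subgroupOfEquivOfLe hP0X).symm
    set π := QuotientGroup.mk' N with hπ
    set Mb := (M.subgroupOf X).map π with hMb
    have hback : ∀ {x : X}, π x ∈ Mb → (x : G) ∈ M := fun {x} hx => by
      obtain ⟨y, hy, he⟩ := hx
      have hd : ((y⁻¹ * x : X) : G) ∈ P0 :=
        (QuotientGroup.eq_one_iff (y⁻¹ * x)).1 (by show π _ = 1; rw [map_mul, map_inv, he, inv_mul_cancel])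
      simpa using mul_mem (show (y : G) ∈ M from hy) (hP0M hd)
    have hinto : ∀ t : X, π t ∈ Mb → π t ≠ 1 → π t * π t = 1 →
        ∃ m ∈ M ⊓ X, m * (t : G) * m⁻¹ ∈ c.Ag ∧ m * (t : G) * m⁻¹ ∉ P0 := by
      intro t ht ht1 ht2
      have htt : (t : G) * t ∈ P0 := (QuotientGroup.eq_one_iff (t * t)).1 (by show π _ = 1; rw [map_mul, ht2])
      have h4 : ((t : G) * t) * (t * t) = 1 := c.Ag_sq (c.Pg_le_Ag j k htt)
      obtain ⟨m, hm, hmU⟩ := hintoA (M ⊓ X) (le_inf hAM (c.Ag_le_pairCent j k)) inf_le_right (zpowers (t : G))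
        (fun y => ⟨2, Subtype.ext (by
          obtain ⟨i, hi⟩ := mem_zpowers_iff.1 y.2
          show (y : G) ^ 2 ^ 2 = 1
          rw [← hi, ← zpow_natCast, ← zpow_mul, mul_comm, zpow_mul, zpow_natCast,
            show (2 : ℕ) ^ 2 = 2 + 2 from rfl, pow_add, pow_two, h4, one_zpow])⟩)
        (zpowers_le.2 ⟨hback ht, t.2⟩)
      refine ⟨m, hm, hmU _ (mem_zpowers _), fun hmP => ht1 ((QuotientGroup.eq_one_iff t).2 ?_)⟩
      show (t : G) ∈ P0
      rwa [show (t : G) = m⁻¹ * (m * t * m⁻¹) * m⁻¹⁻¹ by group, hXconj _ (inv_mem hm.2) _ hmP]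
    have hSE : Cfsg.IsStronglyEmbedded Mb := by
      refine ⟨fun e => hXM fun x hx => hback (x := ⟨x, hx⟩) (e ▸ mem_top _), ?_, fun g hg => ?_⟩
      · obtain ⟨q, hq, hqP⟩ := (inP_card j k).2.2
        let a : X := ⟨c.ι q, c.Ag_le_pairCent j k (c.mem_Ag.2 ⟨q, hq, rfl⟩)⟩
        have hao : orderOf (π a) = 2 := orderOf_eq_prime
          (by rw [← map_pow, show a ^ 2 = 1 from Subtype.ext (by
            show c.ι q ^ 2 = 1; rw [pow_two, c.ι_sq (M8.inA_sq q hq).1]), map_one]) fun e => by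
            obtain ⟨q', hq', hqe⟩ := c.mem_Pg.1 ((QuotientGroup.eq_one_iff a).1 e)
            exact hqP (c.ι_inj hqe ▸ hq')
        rw [even_iff_two_dvd]
        have := Subgroup.orderOf_dvd_natCard Mb
          (mem_map_of_mem π (hAM (c.mem_Ag.2 ⟨q, hq, rfl⟩) : a ∈ M.subgroupOf X))
        rwa [hao] at this
      rw [← Nat.not_even_iff_odd]
      intro he
      obtain ⟨t', htm, hto⟩ := Cfsg.Lib.StrongEmb.exists_involution_of_even he
      obtain ⟨htM, htg⟩ := mem_inf.1 htm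
      rw [Cfsg.Lib.StrongEmb.mem_conj_iff] at htg
      obtain ⟨t, rfl⟩ := QuotientGroup.mk'_surjective N t'
      obtain ⟨g, rfl⟩ := QuotientGroup.mk'_surjective N g
      have ht1 : π t ≠ 1 := fun e => by rw [e, orderOf_one] at hto; omega
      have ht2 : π t * π t = 1 := by rw [← pow_two, ← hto, pow_orderOf_eq_one]
      rw [← map_inv, ← map_mul, ← map_mul] at htg
      obtain ⟨m1, hm1, ha1, ha1P⟩ := hinto t htM ht1 ht2
      obtain ⟨m2, hm2, ha2, -⟩ := hinto (g⁻¹ * t * g) htg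
        (by rw [map_mul, map_mul, map_inv]; intro e; exact ht1 (by simpa using conj_eq_one_iff.1 (by
          rw [inv_inv]; exact e : (π g)⁻¹ * π t * (π g)⁻¹⁻¹ = 1)))
        (by rw [map_mul, map_mul, map_inv]
            calc (π g)⁻¹ * π t * π g * ((π g)⁻¹ * π t * π g) = (π g)⁻¹ * (π t * π t) * π g := by group
              _ = 1 := by rw [ht2, mul_one, inv_mul_cancel])
      have hxM : m2 * (g : G)⁻¹ * m1⁻¹ ∈ M := hmove _ (mul_mem (mul_mem hm2.2 (inv_mem g.2)) (inv_mem hm1.2))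
        _ ha1 ha1P (by
          rw [show m2 * (g : G)⁻¹ * m1⁻¹ * (m1 * t * m1⁻¹) * (m2 * (g : G)⁻¹ * m1⁻¹)⁻¹ =
            m2 * ((g : G)⁻¹ * t * g) * m2⁻¹ by group]
          exact ha2)
      have hgM : (g : G) ∈ M := inv_mem_iff.1
        ((mul_mem_cancel_left (show m2 ∈ M from hm2.1)).1
          ((mul_mem_cancel_right (inv_mem (show m1 ∈ M from hm1.1))).1 hxM))
      exact hg (mem_map_of_mem π hgM)
    intro w hw
    let w' : X := ⟨w, hw.2⟩
    have hwodd : Odd (orderOf w') := by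
      rw [← Subgroup.orderOf_coe]; exact Cfsg.Lib.LFourType.odd_orderOf hWodd hw.1
    set U := (W.subgroupOf X).map π with hU
    have hUM : U ≤ Mb := map_mono fun x hx => hWM hx
    have hUc : U ≤ core Mb := by
      refine le_core hUM ?_ (hWodd.of_dvd_nat (((W.subgroupOf X).card_map_dvd π).trans ?_))
      · rintro _ ⟨m, hm, rfl⟩ _ ⟨x, hx, rfl⟩
        exact ⟨m * x * m⁻¹, (mem_normalizer_iff.1 hm _).1 hx, by rw [map_mul, map_mul, map_inv]⟩
      · rw [← card_map_of_injective X.subtype_injective, subgroupOf_map_subtype]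
        exact card_dvd_of_le inf_le_left
    obtain ⟨r, hr, hre⟩ := core_lift N hN2 hNc
      (Cfsg.Agent.S1221.result Mb hSE (hUc (mem_map_of_mem π (show w' ∈ W.subgroupOf X from hw.1))))
    have hn : r⁻¹ * w' ∈ N :=
      (QuotientGroup.eq_one_iff _).1 (by show π _ = 1; rw [map_mul, map_inv, hre, inv_mul_cancel])
    have hrw : Commute r⁻¹ w' := by
      have h2 := (mem_center_iff.1 (hNc hn) r).symm
      have h3 : w' * r = r * w' := by
        calc w' * r = r * (r⁻¹ * w' * r) := by group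
          _ = r * (r * (r⁻¹ * w')) := by rw [h2]
          _ = r * w' := by rw [mul_inv_cancel_left]
      exact (show Commute r w' from h3.symm).inv_left
    have hn1 : r⁻¹ * w' = 1 := eq_one_of_two_odd hN2 hn
      ((((Cfsg.Lib.LFourType.odd_orderOf (Cfsg.Lib.AltEightType.odd_oddCore X) (inv_mem hr)).mul hwodd)).of_dvd_nat
        (hrw.orderOf_mul_dvd_lcm.trans (Nat.lcm_dvd_mul _ _)))
    exact ⟨r, hr, congrArg Subtype.val (inv_mul_eq_one.1 hn1)⟩
  -- the core of the pair centraliser lies in the core at `b`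
  have hTX : ∀ t ∈ T, ∀ x ∈ X, t * x * t⁻¹ ∈ X := by
    intro t ht x hx
    refine ⟨Subgroup.mul_mem _ (Subgroup.mul_mem _ (hTC ht) hx.1) (Subgroup.inv_mem _ (hTC ht)),
      mem_centralizer_singleton_iff.2 ?_⟩
    have hxp : x * p = p * x := mem_centralizer_singleton_iff.1 hx.2
    have hc : Commute x (t⁻¹ * p * t) := by
      rcases (inv_mem ht : t⁻¹ ∈ T).2 with e | e <;> rw [inv_inv] at e <;> rw [e]
      · exact hxp
      · exact (show Commute x p from hxp).mul_right (show Commute x b from mem_centralizer_singleton_iff.1 hx.1)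
    calc t * x * t⁻¹ * p = t * (x * (t⁻¹ * p * t)) * t⁻¹ := by group
      _ = p * (t * x * t⁻¹) := by rw [hc.eq]; group
  have hcoreX : core X ≤ Oc b := by
    have hn : core X ≤ normalizer (Oc b : Set G) := fun x hx => Oc_normalized (core_le X hx).1
    refine le_sup_right.trans (Cfsg.Lib.LFourType.le_Oc (sup_le (Oc_le b) ((core_le X).trans inf_le_left))
      (fun g hg => ?_) (odd_sup (odd_Oc b) (odd_core X) hn))
    obtain ⟨o, ho, ht⟩ := hdec g hg
    rw [show g = o * (o⁻¹ * g) by group]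
    refine mul_mem (le_normalizer (mem_sup_left ho)) ?_
    have ht' : o⁻¹ * g ∈ normalizer (core X : Set G) := mem_normalizer_core (hTX _ ht) fun x hx => by
      simpa using hTX _ (inv_mem ht) x hx
    refine ZStarApps.mem_normalizer_of_maps fun y hy => ?_
    have hle : Oc b ⊔ core X ≤ (Oc b ⊔ core X).comap (MulAut.conj (o⁻¹ * g)).toMonoidHom :=
      sup_le (fun v hv => mem_sup_left ((mem_normalizer_iff.1 (Oc_normalized (hTC ht)) v).1 hv))
        fun v hv => mem_sup_right ((mem_normalizer_iff.1 ht' v).1 hv)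
    exact hle hy
  have hbAg : b ∈ c.Ag := c.mem_Ag.2 ⟨_, hbA, rfl⟩
  have hWb : W ⊓ centralizer ({b} : Set G) ≤ Oc b := by
    intro w hw
    obtain ⟨o, ho, ht⟩ := hdec w hw.2
    have htW : o⁻¹ * w ∈ W := mul_mem (inv_mem (hOcA b hbAg ho)) hw.1
    have h2 : o⁻¹ * w * (o⁻¹ * w) ∈ X := by
      refine ⟨mul_mem (hTC ht) (hTC ht), mem_centralizer_singleton_iff.2 (mul_inv_eq_iff_eq_mul.1 ?_)⟩
      generalize o⁻¹ * w = t at ht
      rw [show t * t * p * (t * t)⁻¹ = t * (t * p * t⁻¹) * t⁻¹ by group]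
      rcases ht.2 with e | e <;> rw [e]
      · exact e
      · rw [← conj_mul, e, show t * b * t⁻¹ = b by rw [ht.1, mul_inv_cancel_right], mul_assoc, hb2, mul_one]
    have htX := sq_mem_imp (Cfsg.Lib.LFourType.odd_orderOf hWodd htW) h2
    rw [show w = o * (o⁻¹ * w) by group]
    exact mul_mem ho (hcoreX (hWX ⟨htW, htX⟩))
  -- hence the pair centraliser normalises `W`
  have hWP : W = WE P0 := by
    refine le_antisymm (le_of_four' (E := P0) (by rw [c.card_Pg]) (fun x hx y hy => hP0c x (hP0X hx) y hy)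
      (fun x hx => c.Ag_sq (c.Pg_le_Ag j k hx)) hWodd (fun x hx => hP0M hx) fun e he he1 => ?_)
      (iSup_le fun a => hOcA _ (c.Pg_le_Ag j k a.2.1))
    obtain ⟨q, hq, rfl⟩ := c.mem_Pg.1 he
    have hq1 : q ≠ 1 := fun e => he1 (by rw [e, map_one])
    obtain ⟨n, hn, hnq⟩ := hp.fusedB q (((inP_card j k).2.1 q hq).resolve_left hq1)
    intro w hw
    refine le_WE he he1 ?_
    have hm : n⁻¹ * w * n ∈ W ⊓ centralizer ({b} : Set G) := by
      refine ⟨by simpa using (mem_normalizer_iff.1 (inv_mem (hNA hn)) w).1 hw.1,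
        mem_centralizer_singleton_iff.2 ?_⟩
      have hwq := mem_centralizer_singleton_iff.1 hw.2
      rw [← hnq] at hwq
      calc n⁻¹ * w * n * b = n⁻¹ * (w * (n * b * n⁻¹)) * n := by group
        _ = b * (n⁻¹ * w * n) := by rw [hb, hwq]; group
    have := conj_Oc n b (hWb hm)
    rwa [hb, hnq, show n * (n⁻¹ * w * n) * n⁻¹ = w by group] at this
  have hXM : X ≤ M := fun x hx => by
    rw [hM, hWP]
    exact WE_normalized fun a ha => by rwa [hXconj x hx a ha]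
  have hCb : centralizer ({b} : Set G) ≤ M := by
    intro g hg
    obtain ⟨o, ho, ht⟩ := hdec g hg
    refine (mul_mem_cancel_left (inv_mem (hWM (hOcA b hbAg ho)))).1 ?_
    generalize o⁻¹ * g = t at ht
    rcases ht.2 with e | e
    · exact hXM ⟨hTC ht, mem_centralizer_singleton_iff.2 (mul_inv_eq_iff_eq_mul.1 e)⟩
    obtain ⟨s, hsb, hsp⟩ := pair_swap j k
    have hs : c.ι s ∈ M := hSM (c.ι_mem s)
    refine (mul_mem_cancel_left hs).1 (hXM ⟨mul_mem (mem_centralizer_singleton_iff.2 (c.ι_comm hsb)) (hTC ht),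
      mem_centralizer_singleton_iff.2 (mul_inv_eq_iff_eq_mul.1 ?_)⟩)
    rw [show c.ι s * t * p * (c.ι s * t)⁻¹ = c.ι s * (t * p * t⁻¹) * (c.ι s)⁻¹ by group, e, ← conj_mul,
      hpdef, hb, ← map_inv, ← map_mul, ← map_mul, ← map_mul, ← map_mul, hsp, hsb, mul_inv_cancel_right,
      ← map_mul, mul_assoc, hbb, mul_one]
  have hfuse : ∀ q, M8.InA q → q ≠ 1 →
      ∃ m ∈ M, m * c.zG * m⁻¹ = c.ι q ∨ m * b * m⁻¹ = c.ι q := fun q hq hq1 => by
    by_cases h6 : Six j k q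
    · obtain ⟨n, hn, e⟩ := hp.fusedB q h6
      exact ⟨n, hNA hn, Or.inr e⟩
    · obtain ⟨n, hn, e⟩ := hp.fusedZ q hq hq1 h6
      exact ⟨n, hNA hn, Or.inl e⟩
  have hW0 : W = ⊥ := eq_bot_of_two_classes (b := b) (z := c.zG) hodd c.S hWodd (c.ι_mem _) c.orderOf_zG (c.order_ι hbb hb1)
    hnb hSM hCz hCb fun t ht ht2 => by
    obtain ⟨q, rfl⟩ := c.exists_ι ht
    obtain ⟨hqq, hq1⟩ := c.inv_pre ht2
    by_cases hA : M8.InA q
    · exact hfuse q hA hq1
    obtain ⟨i', n, hn, -, -, hne⟩ := c.outer_fused hsol hf hqq hA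
    obtain ⟨-, -, -, -, hA', h1', -, -⟩ := oE_facts i'
    obtain ⟨m, hm, hme⟩ := hfuse _ hA' h1'
    refine ⟨n * m, mul_mem (hCz hn) hm, hme.imp (fun e => ?_) (fun e => ?_)⟩
    all_goals rw [← hne, ← e]; group
  exact le_bot_iff.1 (hW0 ▸ le_WE hzE hz1)

end Cfsg.Lib.AltEightSolv
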