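import Cfsg.Agent.AltEightSolv.Pattern
import Cfsg.Agent.AltEightType.Core
import Cfsg.Agent.InvolCalc.StronglyEmbedded
import Cfsg.Agent.OddChar.PF.OddOrder
import Cfsg.Agent.S0217
import Cfsg.Agent.S1958
import Cfsg.Agent.S1221

/-!
# Tools for the triviality of the core of the centraliser of the central involution
-/

set_option autoImplicit false
set_option linter.unusedSectionVars false
set_option linter.style.haveILetI false
set_option maxRecDepth 100000

namespace Cfsg.Lib.AltEightSolv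

open Subgroup
open Cfsg.Lib.Walter (Oc)
open Cfsg.Lib.LFourType (conj_Oc odd_Oc Oc_le Oc_normalized le_of_four' sq_mem_imp)

universe u

variable {G : Type u} [Group G] [Finite G]

/-- The centraliser of a conjugate is solvable. -/
theorem solvable_cent_conj {a : G} (h : Group.IsSolvable ↥(centralizer ({a} : Set G))) (g : G) :
    Group.IsSolvable ↥(centralizer ({g * a * g⁻¹} : Set G)) := by
  haveI : Group.IsSolvable ↥(centralizer ({a} : Set G)) := h
  let f : ↥(centralizer ({g * a * g⁻¹} : Set G)) →* ↥(centralizer ({a} : Set G)) :=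
    ((MulAut.conj g⁻¹).toMonoidHom.comp (centralizer ({g * a * g⁻¹} : Set G)).subtype).codRestrict _ fun x => by
      rw [mem_centralizer_singleton_iff]
      have hx : (x : G) * (g * a * g⁻¹) = g * a * g⁻¹ * x := mem_centralizer_singleton_iff.1 x.2
      show g⁻¹ * x * g⁻¹⁻¹ * a = a * (g⁻¹ * x * g⁻¹⁻¹)
      calc g⁻¹ * x * g⁻¹⁻¹ * a = g⁻¹ * ((x : G) * (g * a * g⁻¹)) * g := by group
        _ = a * (g⁻¹ * x * g⁻¹⁻¹) := by rw [hx]; group
  exact Group.isSolvable_of_isSolvable_injective (f := f) fun x y e =>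
    Subtype.ext ((MulAut.conj g⁻¹).injective (congrArg Subtype.val e))

theorem cent_conj_le {a : G} {M : Subgroup G} {g : G} (hg : g ∈ M) (h : centralizer ({a} : Set G) ≤ M) :
    centralizer ({g * a * g⁻¹} : Set G) ≤ M := by
  intro x hx
  have hxc := mem_centralizer_singleton_iff.1 hx
  have hm : g⁻¹ * x * g ∈ M := h (mem_centralizer_singleton_iff.2 (by
    calc g⁻¹ * x * g * a = g⁻¹ * (x * (g * a * g⁻¹)) * g := by group
      _ = a * (g⁻¹ * x * g) := by rw [hxc]; group))
  have := mul_mem (mul_mem hg hm) (inv_mem hg)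
  rwa [show g * (g⁻¹ * x * g) * g⁻¹ = x by group] at this

theorem order_conj (g : G) {a : G} (ha : orderOf a = 2) : orderOf (g * a * g⁻¹) = 2 := by
  rw [show g * a * g⁻¹ = MulAut.conj g a from rfl, MulEquiv.orderOf_eq, ha]

theorem eq_of_mem_zpowers_two {b x : G} (hb : b * b = 1) (hx : x ∈ zpowers b) : x = 1 ∨ x = b := by
  obtain ⟨i, rfl⟩ := mem_zpowers_iff.1 hx
  rcases Int.even_or_odd i with ⟨j, rfl⟩ | ⟨j, rfl⟩
  · left; rw [← two_mul, zpow_mul, zpow_two, hb, one_zpow]
  · right; rw [zpow_add, zpow_one, zpow_mul, zpow_two, hb, one_zpow, one_mul]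

/-- An element of a 2-group of odd order is trivial. -/
theorem eq_one_of_two_odd {N : Subgroup G} (hN : IsPGroup 2 N) {x : G} (hx : x ∈ N) (ho : Odd (orderOf x)) :
    x = 1 := by
  obtain ⟨k, hk⟩ := hN ⟨x, hx⟩
  exact orderOf_eq_one_iff.1 (Nat.eq_one_of_dvd_coprimes ((Nat.coprime_two_left.2 ho).pow_left k)
    (orderOf_dvd_of_pow_eq_one (congrArg Subtype.val hk)) dvd_rfl)

/-- The odd core of a quotient by a central 2-subgroup is covered by the odd core. -/
theorem core_lift {K : Type u} [Group K] [Finite K] (N : Subgroup K) [N.Normal] (hN : IsPGroup 2 N)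
    (hc : N ≤ center K) {x : K ⧸ N} (hx : x ∈ Cfsg.oddCore (K ⧸ N)) :
    ∃ r ∈ Cfsg.oddCore K, QuotientGroup.mk' N r = x := by
  haveI : Fact (Nat.Prime 2) := ⟨Nat.prime_two⟩
  set L := (Cfsg.oddCore (K ⧸ N)).comap (QuotientGroup.mk' N) with hL
  haveI : L.Normal := inferInstance
  have hNL : N ≤ L := fun n hn => by
    rw [hL, mem_comap, show QuotientGroup.mk' N n = 1 from (QuotientGroup.eq_one_iff n).2 hn]; exact one_mem _
  have hidx : (N.subgroupOf L).index = Nat.card (Cfsg.oddCore (K ⧸ N)) := by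
    rw [← relIndex_bot_left (Cfsg.oddCore (K ⧸ N))]
    show N.relIndex L = _
    conv_rhs => rw [← Subgroup.map_comap_eq_self_of_surjective (QuotientGroup.mk'_surjective N) (Cfsg.oddCore (K ⧸ N))]
    rw [← hL, ← relIndex_comap, MonoidHom.comap_bot, QuotientGroup.ker_mk']
  have hcop : (Nat.card (N.subgroupOf L)).Coprime (N.subgroupOf L).index := by
    obtain ⟨k, hk⟩ := hN.exists_card_eq
    rw [hidx, Nat.card_congr (subgroupOfEquivOfLe hNL).toEquiv, hk]
    exact (Nat.coprime_two_left.2 (Cfsg.Lib.AltEightType.odd_oddCore _)).pow_left k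
  obtain ⟨R, hR⟩ := exists_right_complement'_of_coprime hcop
  have hRo : Odd (Nat.card (R.map L.subtype)) := by
    rw [card_map_of_injective L.subtype_injective, ← hR.symm.index_eq_card, hidx]
    exact Cfsg.Lib.AltEightType.odd_oddCore _
  have hdec : ∀ y ∈ L, ∃ n ∈ N, ∃ r ∈ R.map L.subtype, n * r = y := fun y hy => by
    obtain ⟨⟨⟨n, hn⟩, ⟨r, hr⟩⟩, e⟩ := hR.2 ⟨y, hy⟩
    exact ⟨n, hn, r, ⟨r, hr, rfl⟩, congrArg Subtype.val e⟩
  haveI : (R.map L.subtype).Normal := ⟨fun r hr g => by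
    have hrL : r ∈ L := by obtain ⟨r', -, rfl⟩ := hr; exact r'.2
    obtain ⟨n, hn, r', hr', e⟩ := hdec _ (Normal.conj_mem inferInstance r hrL g)
    have hn1 : n = 1 := by
      refine eq_one_of_two_odd hN hn ?_
      have hcom : Commute n r' := (mem_center_iff.1 (hc hn) r').symm
      have h1 : Odd (orderOf (g * r * g⁻¹)) := by
        rw [show g * r * g⁻¹ = MulAut.conj g r from rfl, MulEquiv.orderOf_eq]
        exact Cfsg.Lib.LFourType.odd_orderOf hRo hr
      have h2 : orderOf n ∣ orderOf (g * r * g⁻¹) * orderOf r' := by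
        have hn' : n = g * r * g⁻¹ * r'⁻¹ := by rw [← e]; group
        have hcom' : Commute (g * r * g⁻¹) r'⁻¹ := by
          rw [← e]; exact ((hcom.mul_left (Commute.refl r')).inv_right)
        rw [hn']
        exact (hcom'.orderOf_mul_dvd_lcm).trans (by rw [orderOf_inv]; exact Nat.lcm_dvd_mul _ _)
      exact (h1.mul (Cfsg.Lib.LFourType.odd_orderOf hRo hr')).of_dvd_nat h2
    rw [← e, hn1, one_mul]
    exact hr'⟩
  obtain ⟨y, rfl⟩ := QuotientGroup.mk'_surjective N x
  obtain ⟨n, hn, r, hr, rfl⟩ := hdec y hx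
  refine ⟨r, Cfsg.Lib.AltEightType.le_oddCore hRo hr, ?_⟩
  rw [map_mul, show QuotientGroup.mk' N n = 1 from (QuotientGroup.eq_one_iff n).2 hn, one_mul]

/-- The stabiliser of a pair `{p, p b}` in the centraliser of the involution `b`. -/
def pairStab {b : G} (hb : b * b = 1) (p : G) : Subgroup G where
  carrier := {t | t * b = b * t ∧ (t * p * t⁻¹ = p ∨ t * p * t⁻¹ = p * b)}
  one_mem' := ⟨by simp, by simp⟩
  mul_mem' := by
    rintro s t ⟨hs, hs'⟩ ⟨ht, ht'⟩
    refine ⟨(show Commute (s * t) b from (show Commute s b from hs).mul_left ht), ?_⟩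
    have hsb : s * b * s⁻¹ = b := by rw [hs, mul_inv_cancel_right]
    rw [show s * t * p * (s * t)⁻¹ = s * (t * p * t⁻¹) * s⁻¹ by group]
    rcases ht' with e | e <;> rw [e]
    · exact hs'
    · rw [show s * (p * b) * s⁻¹ = s * p * s⁻¹ * (s * b * s⁻¹) by group, hsb]
      rcases hs' with e' | e' <;> rw [e']
      · exact Or.inr rfl
      · left; rw [mul_assoc, hb, mul_one]
  inv_mem' := by
    rintro t ⟨ht, ht'⟩
    have htb : t⁻¹ * b * t = b := by rw [mul_assoc, ← ht, inv_mul_cancel_left]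
    refine ⟨(show Commute t⁻¹ b from (show Commute t b from ht).inv_left), ?_⟩
    rw [inv_inv]
    rcases ht' with e | e
    · left; conv_lhs => rw [← e]
      group
    · right
      calc t⁻¹ * p * t = t⁻¹ * (p * b * b) * t := by rw [mul_assoc p b b, hb, mul_one]
        _ = t⁻¹ * (t * p * t⁻¹) * b * t := by rw [e]; group
        _ = p * (t⁻¹ * b * t) := by group
        _ = p * b := by rw [htb]

theorem mem_pairStab {b p t : G} {hb : b * b = 1} :
    t ∈ pairStab hb p ↔ t * b = b * t ∧ (t * p * t⁻¹ = p ∨ t * p * t⁻¹ = p * b) := Iff.rfl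

/-- If `p` is isolated modulo the involution `b` in the centraliser of `b`, the centraliser is its odd core
times the stabiliser of the pair. -/
theorem pair_decomp {b p : G} (hb : orderOf b = 2) (hp : orderOf p = 2) (hbp : p * b = b * p) (hne : p ≠ b)
    (hb2 : b * b = 1)
    (hiso : ∀ g : G, g * b = b * g → (g * p * g⁻¹ * p * (g * p * g⁻¹)⁻¹ = p ∨
      g * p * g⁻¹ * p * (g * p * g⁻¹)⁻¹ = p * b) → g * p * g⁻¹ = p ∨ g * p * g⁻¹ = p * b)
    {g : G} (hg : g ∈ centralizer ({b} : Set G)) : ∃ o ∈ Oc b, o⁻¹ * g ∈ pairStab hb2 p := by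
  haveI : Fact (Nat.Prime 2) := ⟨Nat.prime_two⟩
  let b' : ↥(centralizer ({b} : Set G)) := ⟨b, mem_centralizer_singleton_iff.2 rfl⟩
  let p' : ↥(centralizer ({b} : Set G)) := ⟨p, mem_centralizer_singleton_iff.2 hbp⟩
  set N := zpowers b' with hN
  have hNc : N ≤ center _ := zpowers_le.2 (mem_center_iff.2 fun x => Subtype.ext
    (mem_centralizer_singleton_iff.1 x.2))
  haveI : N.Normal := ⟨fun n hn x => by rwa [mem_center_iff.1 (hNc hn) x, mul_inv_cancel_right]⟩
  have hb' : b' * b' = 1 := Subtype.ext hb2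
  have hN2 : IsPGroup 2 N := IsPGroup.of_card (n := 1) (by
    rw [hN, Nat.card_zpowers, pow_one, ← Subgroup.orderOf_coe]; exact hb)
  have hmem : ∀ {x : ↥(centralizer ({b} : Set G))}, QuotientGroup.mk' N x = 1 → (x : G) = 1 ∨ (x : G) = b :=
    fun {x} h => (eq_of_mem_zpowers_two hb' ((QuotientGroup.eq_one_iff x).1 h)).imp
      (congrArg Subtype.val) (congrArg Subtype.val)
  have heq : ∀ {x y : ↥(centralizer ({b} : Set G))}, QuotientGroup.mk' N x = QuotientGroup.mk' N y →
      (x : G) = y ∨ (x : G) = y * b := fun {x y} h => by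
    rcases hmem (x := y⁻¹ * x) (by rw [map_mul, map_inv, h, inv_mul_cancel]) with e | e
    · exact Or.inl (inv_mul_eq_one.1 e).symm
    · exact Or.inr (inv_mul_eq_iff_eq_mul.1 e)
  set π := QuotientGroup.mk' N
  have hpo : orderOf (π p') = 2 := by
    refine orderOf_eq_prime (by rw [← map_pow, show p' ^ 2 = 1 from Subtype.ext (by
      show p ^ 2 = 1; rw [← hp, pow_orderOf_eq_one]), map_one]) fun e => ?_
    rcases hmem e with e' | e'
    · rw [show p = 1 from e', orderOf_one] at hp; omega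
    · exact hne e'
  have hcom : ∀ y ∈ (⊤ : Subgroup (_ ⧸ N)), Commute (π p') (y * π p' * y⁻¹) → y * π p' * y⁻¹ = π p' := by
    intro y _ hy
    obtain ⟨x, rfl⟩ := QuotientGroup.mk'_surjective N y
    rw [← map_inv, ← map_mul, ← map_mul] at hy ⊢
    have h1 : π (x * p' * x⁻¹ * p' * (x * p' * x⁻¹)⁻¹) = π p' := by
      rw [map_mul, map_mul, map_inv, ← hy.eq, mul_inv_cancel_right]
    rcases hiso (x : G) (mem_centralizer_singleton_iff.1 x.2) (heq h1) with e | e
    · exact congrArg π (Subtype.ext e)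
    · rw [show x * p' * x⁻¹ = p' * b' from Subtype.ext e, map_mul,
        show π b' = 1 from (QuotientGroup.eq_one_iff b').2 (mem_zpowers b'), mul_one]
  obtain ⟨k, hk, hkg⟩ := Cfsg.Lib.AltEightType.isolated_of_commuting (mem_top _) hpo hcom
    (g := π ⟨g, hg⟩) (mem_top _)
  haveI : (Cfsg.Lib.AltEightType.core (⊤ : Subgroup (_ ⧸ N))).Normal :=
    ⟨fun w hw y => (mem_normalizer_iff.1 (Cfsg.Lib.AltEightType.core_normalized (mem_top y)) w).1 hw⟩
  obtain ⟨o, ho, rfl⟩ := core_lift N hN2 hNc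
    (Cfsg.Lib.AltEightType.le_oddCore (Cfsg.Lib.AltEightType.odd_core _) hk)
  refine ⟨o, ⟨o, ho, rfl⟩, ?_, ?_⟩
  · exact mem_centralizer_singleton_iff.1 (mul_mem (inv_mem o.2) hg)
  · have h1 : π ((o⁻¹ * ⟨g, hg⟩) * p' * (o⁻¹ * ⟨g, hg⟩)⁻¹) = π p' := by
      rw [map_mul, map_mul, map_inv, map_mul, map_inv,
        mem_centralizer_singleton_iff.1 hkg, mul_inv_cancel_right]
    exact heq h1

/-- The balance between the cores at commuting involutions with solvable centralisers. -/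
theorem Oc_balance {a e : G} (ha : orderOf a = 2) (he : orderOf e = 2) (hc : a * e = e * a)
    (sa : Group.IsSolvable ↥(centralizer ({a} : Set G))) (se : Group.IsSolvable ↥(centralizer ({e} : Set G))) :
    Oc a ⊓ centralizer ({e} : Set G) ≤ Oc e := by
  haveI : Fact (Nat.Prime 2) := ⟨Nat.prime_two⟩
  exact (Cfsg.Agent.S1958.result 2 a e ha he hc sa se).trans_le inf_le_left

/-- The join of the cores at the involutions of a subgroup. -/
def WE (E : Subgroup G) : Subgroup G := ⨆ a : {a : G // a ∈ E ∧ a ≠ 1}, Oc a.1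

theorem le_WE {E : Subgroup G} {a : G} (ha : a ∈ E) (ha1 : a ≠ 1) : Oc a ≤ WE E :=
  le_iSup (fun a : {a : G // a ∈ E ∧ a ≠ 1} => Oc a.1) ⟨a, ha, ha1⟩

theorem WE_normalized {E : Subgroup G} {g : G} (h : ∀ a ∈ E, g * a * g⁻¹ ∈ E) :
    g ∈ normalizer (WE E : Set G) := by
  refine ZStarApps.mem_normalizer_of_maps fun x hx => ?_
  have hle : WE E ≤ (WE E).comap (MulAut.conj g).toMonoidHom := iSup_le fun a => fun x hx => by
    refine le_WE (h _ a.2.1) (fun e => a.2.2 ?_) (conj_Oc g a.1 hx)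
    exact conj_eq_one_iff.1 e
  exact hle hx

theorem WE_data {E : Subgroup G} (hc : ∀ x ∈ E, ∀ y ∈ E, x * y = y * x) (hsq : ∀ x ∈ E, x * x = 1)
    (h8 : 8 ≤ Nat.card E) (hs : ∀ x ∈ E, x ≠ 1 → Group.IsSolvable ↥(centralizer ({x} : Set G))) :
    Odd (Nat.card (WE E)) ∧ ∀ x ∈ E, x ≠ 1 → WE E ⊓ centralizer ({x} : Set G) = Oc x := by
  haveI : Fact (Nat.Prime 2) := ⟨Nat.prime_two⟩
  have hord : ∀ x ∈ E, x ≠ 1 → orderOf x = 2 := fun x hx h1 =>
    orderOf_eq_prime (by rw [pow_two, hsq x hx]) h1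
  have h := Cfsg.Agent.S0217.result (p := 2) E hc (fun x hx => by rw [pow_two, hsq x hx]) (by norm_num; exact h8)
    (fun a => Oc a) (fun a _ _ => Oc_le a)
    (fun a _ _ hd => Nat.not_even_iff_odd.2 (odd_Oc a) (even_iff_two_dvd.2 hd))
    (fun a ha _ x hx y hy => (mem_normalizer_iff.1
      (Oc_normalized (mem_centralizer_singleton_iff.2 (hc x hx a ha))) y).1 hy)
    (fun a _ _ => Cfsg.Agent.PF.isSolvable_of_odd _ (odd_Oc a))
    (fun a ha ha1 e he he1 => Oc_balance (hord a ha ha1) (hord e he he1) (hc a ha e he) (hs a ha ha1) (hs e he he1))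
  exact ⟨Nat.odd_iff.2 (by have := h.1; simp only [WE]; omega), h.2⟩

/-- An odd subgroup whose normaliser contains the Sylow subgroup and the centralisers of representatives of two
classes of involutions meeting all involutions of the Sylow subgroup is trivial. -/
theorem eq_bot_of_two_classes (hodd : Cfsg.oddCore G = ⊥) (S : Sylow 2 G) {W : Subgroup G}
    (hW : Odd (Nat.card W)) {z b : G} (hzS : z ∈ (S : Subgroup G)) (hz : orderOf z = 2) (hb : orderOf b = 2)
    (hne : ¬ IsConj z b) (hS : (S : Subgroup G) ≤ normalizer (W : Set G))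
    (hCz : centralizer ({z} : Set G) ≤ normalizer (W : Set G))
    (hCb : centralizer ({b} : Set G) ≤ normalizer (W : Set G))
    (hcl : ∀ t ∈ (S : Subgroup G), orderOf t = 2 →
      ∃ m ∈ normalizer (W : Set G), m * z * m⁻¹ = t ∨ m * b * m⁻¹ = t) : W = ⊥ := by
  haveI : Fact (Nat.Prime 2) := ⟨Nat.prime_two⟩
  set M := normalizer (W : Set G) with hM
  have hMt : ∀ t ∈ M, orderOf t = 2 → ∃ m ∈ M, m * z * m⁻¹ = t ∨ m * b * m⁻¹ = t := by
    intro t ht ht2
    obtain ⟨k, hk, hk'⟩ := Cfsg.Lib.TwoFusion.exists_sylow_conj S hS (X := zpowers t)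
      (IsPGroup.of_card (n := 1) (by rw [Nat.card_zpowers, ht2, pow_one])) (zpowers_le.2 ht)
    obtain ⟨m, hm, h⟩ := hcl _ (hk' t (mem_zpowers t)) (order_conj k ht2)
    refine ⟨k⁻¹ * m, mul_mem (inv_mem hk) hm, h.imp (fun e => ?_) (fun e => ?_)⟩
    all_goals
      rw [show t = k⁻¹ * (k * t * k⁻¹) * k by group, ← e]; group
  by_cases htop : M = ⊤
  · haveI : W.Normal := normalizer_eq_top_iff.1 htop
    exact le_bot_iff.1 (hodd ▸ Cfsg.Lib.AltEightType.le_oddCore hW)
  exfalso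
  refine hne (Cfsg.Lib.StrongEmb.all_conj (Cfsg.Lib.StrongEmb.of_conditions htop ?_ (fun t ht ht2 => ?_)
    (fun t ht s hs ht2 hs2 hts => ?_)) hz hb)
  · rw [even_iff_two_dvd]
    have := Subgroup.orderOf_dvd_natCard M (hS hzS)
    rwa [hz] at this
  · obtain ⟨m, hm, e | e⟩ := hMt t ht ht2 <;> rw [← e]
    · exact cent_conj_le hm hCz
    · exact cent_conj_le hm hCb
  · obtain ⟨m, hm, hmt⟩ := hMt t ht ht2
    obtain ⟨k, hk, hks⟩ := hMt s hs hs2
    refine ⟨k * m⁻¹, mul_mem hk (inv_mem hm), ?_⟩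
    rcases hmt with e | e <;> rcases hks with e' | e'
    · rw [← e, ← e']; group
    · exact absurd ((isConj_iff.2 ⟨m, e⟩).trans (hts.trans (isConj_iff.2 ⟨k, e'⟩).symm)) hne
    · exact absurd ((isConj_iff.2 ⟨k, e'⟩).trans (hts.symm.trans (isConj_iff.2 ⟨m, e⟩).symm)) hne
    · rw [← e, ← e']; group

end Cfsg.Lib.AltEightSolv
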