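import Cfsg.Agent.AltEightSolv.CoreThree
import Cfsg.Agent.AltEightSolv.CoreNine

/-!
# Triviality of the core of the centraliser of the central involution

`core_three` and `core_nine` for the two configurations with a non-normal `A` in the centraliser.
-/
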