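import Cfsg.Agent.AltEightSolv.OrbitFacts

/-!
# Facts about the normal elementary subgroups of order eight
-/

set_option autoImplicit false
set_option maxRecDepth 100000

namespace Cfsg.Lib.AltEightSolv

/-- The element of `InE i` with a given code. -/
def elE (i : Fin 3) (v : ℕ) : M8 :=
  (bif v.testBit 0 then M8.z else 1) * (bif v.testBit 1 then pE i else 1) * (bif v.testBit 2 then oE i else 1)

/-- The code of an element of `InE i`. -/
def codeE (i : Fin 3) (q : M8) : ℕ :=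
  match i with
  | 0 => q.c.toNat + 2 * q.b.toNat + 4 * q.a.toNat
  | 1 => q.c.toNat + 2 * q.e.toNat + 4 * q.f.toNat
  | 2 => (q.c ^^ (q.b && q.a)).toNat + 2 * q.b.toNat + 4 * q.a.toNat

theorem elE_mem : ∀ i, ∀ v : Fin 8, InE i (elE i v) ∧ codeE i (elE i v) = v := by decide +kernel
theorem elE_code : ∀ i, ∀ q : M8, InE i q → elE i (codeE i q) = q ∧ codeE i q < 8 := by decide +kernel
theorem elE_mul : ∀ i, ∀ u v : Fin 8, elE i (Nat.xor u v) = elE i u * elE i v := by decide +kernel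

theorem inE_group : ∀ i, InE i 1 ∧ (∀ p : M8, InE i p → p * p = 1 ∧ InE i p⁻¹) ∧
    (∀ g p : M8, InE i p → InE i (g * p * g⁻¹)) := by decide +kernel

theorem inE_mul : ∀ i, ∀ p : M8, InE i p → ∀ q : M8, InE i q → InE i (p * q) ∧ p * q = q * p := by decide +kernel

theorem inE_z : ∀ i, InE i M8.z ∧ InE i (pE i) ∧ InE i (oE i) := by decide +kernel

theorem inE_card : ∀ i, (Finset.univ.filter fun q : M8 => InE i q).card = 8 := by decide +kernel

/-- Involutions with the parity of `oE i` lie in `InE i`. -/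
theorem inE_parity : ∀ i, ∀ q : M8, q * q = 1 → q.a = (oE i).a → q.f = (oE i).f → InE i q := by decide +kernel

theorem oE_inv : ∀ i, oE i * oE i = 1 ∧ M8.Out (oE i) := by decide +kernel

theorem parity_cases : ∀ q : M8, M8.Out q → ∃ i, q.a = (oE i).a ∧ q.f = (oE i).f := by decide +kernel

theorem pE_inE : ∀ i j, InE i (pE j) → i = j := by decide +kernel

/-- An element outside `InE i` gives, in its normal closure with `InE i`, an involution outside. -/
theorem inE_extend : ∀ i, ∀ g : M8, ¬ InE i g → ∃ v : Fin 8,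
    (g * elE i v * (g * elE i v) = 1 ∧ ¬ InE i (g * elE i v)) ∨
    ∃ s ∈ [M8.ga, M8.gd, M8.gf],
      g * s * g⁻¹ * s⁻¹ * elE i v * (g * s * g⁻¹ * s⁻¹ * elE i v) = 1 ∧
        ¬ InE i (g * s * g⁻¹ * s⁻¹ * elE i v) := by decide +kernel

/-- Two commuting elements inducing three transvections on `InE i`. -/
def g1E : Fin 3 → M8 := ![M8.ge, M8.gb, M8.gb]

theorem transvection : ∀ i, g1E i * M8.gd = M8.gd * g1E i ∧ ∀ g ∈ [g1E i, M8.gd, g1E i * M8.gd],
    g * g = 1 ∧ ∃ x ∈ [5, 6, 7], ∀ v : Fin 8,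
      codeE i (g * elE i v * g⁻¹) = (⟨1, 2, x, 0⟩ : Col).app v := by decide +kernel

/-- A map commuting with a transvection has order dividing four. -/
theorem transvection_cent : ∀ x ∈ [5, 6, 7], ∀ a b d : Fin 8,
    (∀ v : Fin 8, (⟨a, b, d, 0⟩ : Col).app v = 0 → v = 0) →
    (∀ v : Fin 8, (⟨a, b, d, 0⟩ : Col).app ((⟨1, 2, x, 0⟩ : Col).app v) =
      (⟨1, 2, x, 0⟩ : Col).app ((⟨a, b, d, 0⟩ : Col).app v)) →
    ∀ v : Fin 8, (⟨a, b, d, 0⟩ : Col).iter 4 v = v := by decide +kernel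

end Cfsg.Lib.AltEightSolv
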