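import Cfsg.Agent.AltEightSolv.Local

/-!
# The two quaternion factors of the extraspecial subgroup

Their elements of order four form two blocks. An element of odd order preserves both, and centralises a block as
soon as it fixes one of its classes modulo the centre.
-/

set_option autoImplicit false
set_option linter.unusedSectionVars false
set_option linter.style.haveILetI false

namespace Cfsg.Lib.AltEightSolv

namespace M8

/-- The elements of order four of the first quaternion factor. -/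
def T1 (q : M8) : Prop :=
  q.d = false ∧ (q.a, q.b, q.e, q.f) ∈
    [(true, false, true, false), (true, true, false, true), (false, true, true, true)]

/-- The elements of order four of the second quaternion factor. -/
def T2 (q : M8) : Prop :=
  q.d = false ∧ (q.a, q.b, q.e, q.f) ∈
    [(false, true, false, true), (true, true, true, false), (true, false, true, true)]

instance : DecidablePred T1 := fun q =>
  inferInstanceAs (Decidable (q.d = false ∧ (q.a, q.b, q.e, q.f) ∈
    [(true, false, true, false), (true, true, false, true), (false, true, true, true)]))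

instance : DecidablePred T2 := fun q =>
  inferInstanceAs (Decidable (q.d = false ∧ (q.a, q.b, q.e, q.f) ∈
    [(false, true, false, true), (true, true, true, false), (true, false, true, true)]))

theorem four_iff : ∀ q : M8, InQ q → (q * q = z ↔ T1 q ∨ T2 q) := by decide +kernel

theorem T1_facts : ∀ q : M8, T1 q → InQ q ∧ q * q = z ∧ T1 (q * z) ∧ T1 (z * q) ∧ ¬ T2 q := by decide +kernel

theorem T2_facts : ∀ q : M8, T2 q → InQ q ∧ q * q = z ∧ T2 (q * z) ∧ T2 (z * q) ∧ ¬ T1 q := by decide +kernel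

theorem T12_comm : ∀ p q : M8, T1 p → T2 q → p * q = q * p := by decide +kernel

theorem T1_class : ∀ p q : M8, T1 p → T1 q →
    (p * q = q * p → q = p ∨ q = p * z) ∧ (q ≠ p → q ≠ p * z → q * p = z * (p * q)) := by decide +kernel

theorem T2_class : ∀ p q : M8, T2 p → T2 q →
    (p * q = q * p → q = p ∨ q = p * z) ∧ (q ≠ p → q ≠ p * z → q * p = z * (p * q)) := by decide +kernel

theorem T1_span (p q r : M8) (hp : T1 p) (hq : T1 q) (hr : T1 r) (h1 : q ≠ p) (h2 : q ≠ p * z) :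
    r = p ∨ r = p * z ∨ r = q ∨ r = q * z ∨ r = p * q ∨ r = z * (p * q) := by
  have aux : ∀ p, T1 p → ∀ q, T1 q → q ≠ p → q ≠ p * z →
      ∀ r, T1 r → r ∈ [p, p * z, q, q * z, p * q, z * (p * q)] := by decide +kernel
  simpa using aux p hp q hq h1 h2 r hr

theorem T2_span (p q r : M8) (hp : T2 p) (hq : T2 q) (hr : T2 r) (h1 : q ≠ p) (h2 : q ≠ p * z) :
    r = p ∨ r = p * z ∨ r = q ∨ r = q * z ∨ r = p * q ∨ r = z * (p * q) := by
  have aux : ∀ p, T2 p → ∀ q, T2 q → q ≠ p → q ≠ p * z →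
      ∀ r, T2 r → r ∈ [p, p * z, q, q * z, p * q, z * (p * q)] := by decide +kernel
  simpa using aux p hp q hq h1 h2 r hr

theorem T1_base : T1 (ga * ge) ∧ T1 (ga * gb * gf) ∧ T2 (gb * gf) ∧ T2 (ga * gb * ge) ∧
    ga * gb * gf ≠ ga * ge ∧ ga * gb * gf ≠ ga * ge * z ∧
    ga * gb * ge ≠ gb * gf ∧ ga * gb * ge ≠ gb * gf * z := by decide +kernel

theorem T1_link : ∀ q r : M8, T1 q → T1 r → q * r = r * q →
    ∃ m, T1 m ∧ q * m ≠ m * q ∧ r * m ≠ m * r := by decide +kernel

theorem comm_two_T1 : ∀ u v a : M8, T1 u → T1 v → u * v ≠ v * u → (T1 a ∨ T2 a) →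
    a * u = u * a → a * v = v * a → T2 a := by decide +kernel

theorem comm_two_T2 : ∀ u v a : M8, T2 u → T2 v → u * v ≠ v * u → (T1 a ∨ T2 a) →
    a * u = u * a → a * v = v * a → T1 a := by decide +kernel

theorem card_T : Fintype.card {q : M8 // T1 q} = 6 ∧ Fintype.card {q : M8 // T2 q} = 6 := by decide +kernel

theorem card_Q_elts : Fintype.card {q : M8 // InQ q} = 32 := by decide +kernel

theorem outer_swap : ∀ s q : M8, s.d = true →
    (T1 q → T2 (s * q * s⁻¹)) ∧ (T2 q → T1 (s * q * s⁻¹)) := by decide +kernel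

theorem Q_gen : ∀ q : M8, InQ q → q = 1 ∨ q = z ∨ T1 q ∨ T2 q ∨
    ∃ p r : M8, T1 p ∧ T2 r ∧ q = p * r := by decide +kernel

theorem cent_Q : ∀ q : M8, InQ q → (∀ p, T1 p → q * p = p * q) → (∀ p, T2 p → q * p = p * q) → q = 1 ∨ q = z := by
  decide +kernel

theorem outer_invol : ∀ s : M8, s.d = true → (s * s = 1 ∨ s * s = z) → s * s = 1 := by decide +kernel

theorem outer_mul : ∀ s t : M8, s.d = true → t.d = true → InQ (s * t) := by decide +kernel

end M8

universe u

variable {H : Type u} [Group H] [Finite H] (D : LocalHyp H)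

namespace LocalHyp

open M8 (z InQ T1 T2)

/-- The image of a set of elements of the model. -/
def img (P : M8 → Prop) (x : H) : Prop := ∃ q, P q ∧ D.ι q = x

theorem iz_comm (x : H) : x * D.ι z = D.ι z * x := Subgroup.mem_center_iff.1 D.central x

theorem comm_iff (p q : M8) : D.ι p * D.ι q = D.ι q * D.ι p ↔ p * q = q * p := by
  rw [← map_mul, ← map_mul, D.inj.eq_iff]

variable (hQ : (M8.Q.map D.ι).Normal)

include hQ in
theorem conj_Q (h : H) {q : M8} (hq : InQ q) : ∃ q', InQ q' ∧ D.ι q' = h * D.ι q * h⁻¹ := by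
  obtain ⟨q', hq', e⟩ := Subgroup.mem_map.1 (hQ.conj_mem _ (Subgroup.mem_map_of_mem D.ι (x := q) hq) h)
  exact ⟨q', hq', e⟩

include hQ in
theorem conj_four (h : H) {q : M8} (hq : InQ q) (h4 : q * q = z) :
    ∃ q', (T1 q' ∨ T2 q') ∧ D.ι q' = h * D.ι q * h⁻¹ := by
  obtain ⟨q', hq', e⟩ := D.conj_Q hQ h hq
  refine ⟨q', (M8.four_iff q' hq').1 (D.inj ?_), e⟩
  rw [map_mul, e, show h * D.ι q * h⁻¹ * (h * D.ι q * h⁻¹) = h * (D.ι q * D.ι q) * h⁻¹ by group, ← map_mul, h4,
    D.iz_comm h, mul_inv_cancel_right]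

include hQ in
/-- Elements of odd order preserve each quaternion factor. -/
theorem conj_T1_or (h : H) {q : M8} (hq : T1 q) :
    (∀ r, T1 r → D.img T1 (h * D.ι r * h⁻¹)) ∨
      ((∀ r, T1 r → D.img T2 (h * D.ι r * h⁻¹)) ∧ D.img T2 (h * D.ι q * h⁻¹)) := by
  -- the images of two non-commuting elements lie in the same factor
  have key : ∀ r r', T1 r → T1 r' → r * r' ≠ r' * r →
      ((D.img T1 (h * D.ι r * h⁻¹) ↔ D.img T1 (h * D.ι r' * h⁻¹)) ∧
        (D.img T2 (h * D.ι r * h⁻¹) ↔ D.img T2 (h * D.ι r' * h⁻¹))) := by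
    intro r r' hr hr' hne
    obtain ⟨a, ha, ea⟩ := D.conj_four hQ h (M8.T1_facts r hr).1 (M8.T1_facts r hr).2.1
    obtain ⟨b, hb, eb⟩ := D.conj_four hQ h (M8.T1_facts r' hr').1 (M8.T1_facts r' hr').2.1
    have hab : a * b ≠ b * a := fun e => hne <| (D.comm_iff r r').1 <| by
      have e' := (D.comm_iff a b).2 e
      rw [ea, eb, show h * D.ι r * h⁻¹ * (h * D.ι r' * h⁻¹) = h * (D.ι r * D.ι r') * h⁻¹ by group,
        show h * D.ι r' * h⁻¹ * (h * D.ι r * h⁻¹) = h * (D.ι r' * D.ι r) * h⁻¹ by group] at e'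
      exact mul_left_cancel (mul_right_cancel e')
    have t1 : ∀ {a x}, D.ι a = x → (D.img T1 x ↔ T1 a) := fun {a x} e =>
      ⟨fun ⟨c, hc, ec⟩ => D.inj (e.trans ec.symm) ▸ hc, fun hc => ⟨a, hc, e⟩⟩
    have t2 : ∀ {a x}, D.ι a = x → (D.img T2 x ↔ T2 a) := fun {a x} e =>
      ⟨fun ⟨c, hc, ec⟩ => D.inj (e.trans ec.symm) ▸ hc, fun hc => ⟨a, hc, e⟩⟩
    rw [t1 ea, t1 eb, t2 ea, t2 eb]
    rcases ha with ha | ha <;> rcases hb with hb | hb
    · exact ⟨iff_of_true ha hb, iff_of_false (M8.T1_facts a ha).2.2.2.2 (M8.T1_facts b hb).2.2.2.2⟩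
    · exact absurd (M8.T12_comm a b ha hb) hab
    · exact absurd (M8.T12_comm b a hb ha).symm hab
    · exact ⟨iff_of_false (M8.T2_facts a ha).2.2.2.2 (M8.T2_facts b hb).2.2.2.2, iff_of_true ha hb⟩
  -- every element of the first factor is linked to `q` through non-commuting pairs
  have link : ∀ r, T1 r →
      ((D.img T1 (h * D.ι q * h⁻¹) ↔ D.img T1 (h * D.ι r * h⁻¹)) ∧
        (D.img T2 (h * D.ι q * h⁻¹) ↔ D.img T2 (h * D.ι r * h⁻¹))) := by
    intro r hr
    by_cases hc : q * r = r * q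
    · obtain ⟨m, hm, h1, h2⟩ : ∃ m, T1 m ∧ q * m ≠ m * q ∧ r * m ≠ m * r := by
        have dec : ∀ q r : M8, T1 q → T1 r → q * r = r * q →
            ∃ m, T1 m ∧ q * m ≠ m * q ∧ r * m ≠ m * r := by decide +kernel
        exact dec q r hq hr hc
      exact ⟨(key q m hq hm h1).1.trans (key r m hr hm h2).1.symm,
        (key q m hq hm h1).2.trans (key r m hr hm h2).2.symm⟩
    · exact key q r hq hr hc
  obtain ⟨a, ha, ea⟩ := D.conj_four hQ h (M8.T1_facts q hq).1 (M8.T1_facts q hq).2.1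
  rcases ha with ha | ha
  · exact Or.inl fun r hr => (link r hr).1.1 ⟨a, ha, ea⟩
  · exact Or.inr ⟨fun r hr => (link r hr).2.1 ⟨a, ha, ea⟩, a, ha, ea⟩

end LocalHyp

section main

open M8 (z InQ T1 T2)

/-- An element of odd order is a power of its square. -/
theorem exists_sq_root {G : Type*} [Group G] {x : G} (hx : Odd (orderOf x)) : ∃ k : ℕ, (x * x) ^ k = x := by
  obtain ⟨j, hj⟩ := hx
  exact ⟨j + 1, by rw [← pow_two, ← pow_mul, show 2 * (j + 1) = 2 * j + 1 + 1 by ring, pow_succ, ← hj,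
    pow_orderOf_eq_one, one_mul]⟩

/-- The square of an element of odd order has odd order. -/
theorem odd_order_sq {G : Type*} [Group G] {x : G} (hx : Odd (orderOf x)) : Odd (orderOf (x * x)) := by
  rw [← pow_two]
  exact hx.of_dvd_nat (orderOf_pow_dvd 2)

/-- An element keeps a set of coordinates. -/
def Keeps (T : M8 → Prop) (x : H) : Prop := ∀ r, T r → D.img T (x * D.ι r * x⁻¹)

variable (hQ : (M8.Q.map D.ι).Normal)

include hQ in
/-- A square preserves both quaternion factors. -/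
theorem keeps_sq (x : H) : Keeps D T1 (x * x) ∧ Keeps D T2 (x * x) := by
  obtain ⟨hu, hv, -, -, hne, hne', -, -⟩ := M8.T1_base
  have hnc : (M8.ga * M8.ge) * (M8.ga * M8.gb * M8.gf) ≠ (M8.ga * M8.gb * M8.gf) * (M8.ga * M8.ge) := fun e =>
    ((M8.T1_class _ _ hu hv).1 e).elim hne hne'
  have compl : ∀ (T : M8 → Prop), (∀ r, T1 r → D.img T (x * D.ι r * x⁻¹)) →
      ∀ r, T2 r → ∃ u v a, T u ∧ T v ∧ u * v ≠ v * u ∧ (T1 a ∨ T2 a) ∧ a * u = u * a ∧ a * v = v * a ∧
        D.ι a = x * D.ι r * x⁻¹ := by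
    intro T hT r hr
    obtain ⟨u, h1, eu⟩ := hT _ hu
    obtain ⟨v, h2, ev⟩ := hT _ hv
    obtain ⟨a, ha, ea⟩ := D.conj_four hQ x (M8.T2_facts r hr).1 (M8.T2_facts r hr).2.1
    have conj : ∀ {p q p' q' : M8}, D.ι p' = x * D.ι p * x⁻¹ → D.ι q' = x * D.ι q * x⁻¹ →
        (p' * q' = q' * p' ↔ p * q = q * p) := fun {p q p' q'} ep eq => by
      rw [← D.comm_iff, ← D.comm_iff p q, ep, eq,
        show x * D.ι p * x⁻¹ * (x * D.ι q * x⁻¹) = x * (D.ι p * D.ι q) * x⁻¹ by group,
        show x * D.ι q * x⁻¹ * (x * D.ι p * x⁻¹) = x * (D.ι q * D.ι p) * x⁻¹ by group]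
      exact ⟨fun e => mul_left_cancel (mul_right_cancel e), fun e => by rw [e]⟩
    exact ⟨u, v, a, h1, h2, fun e => hnc ((conj eu ev).1 e), ha, (conj ea eu).2 (M8.T12_comm _ _ hu hr).symm,
      (conj ea ev).2 (M8.T12_comm _ _ hv hr).symm, ea⟩
  have two : ∀ {T T' : M8 → Prop} {y : H} (r : M8), D.img T' (y * D.ι r * y⁻¹) →
      (∀ r', T' r' → D.img T (y * D.ι r' * y⁻¹)) → D.img T (y * y * D.ι r * (y * y)⁻¹) := by
    rintro T T' y r ⟨a, ha, ea⟩ h
    have := h a ha
    rwa [ea, show y * (y * D.ι r * y⁻¹) * y⁻¹ = y * y * D.ι r * (y * y)⁻¹ by group] at this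
  rcases D.conj_T1_or hQ x hu with h | ⟨h, -⟩
  · have h' : ∀ r, T2 r → D.img T2 (x * D.ι r * x⁻¹) := fun r hr => by
      obtain ⟨u, v, a, h1, h2, h3, h4, h5, h6, ea⟩ := compl T1 h r hr
      exact ⟨a, M8.comm_two_T1 u v a h1 h2 h3 h4 h5 h6, ea⟩
    exact ⟨fun r hr => two r (h r hr) h, fun r hr => two r (h' r hr) h'⟩
  · have h' : ∀ r, T2 r → D.img T1 (x * D.ι r * x⁻¹) := fun r hr => by
      obtain ⟨u, v, a, h1, h2, h3, h4, h5, h6, ea⟩ := compl T2 h r hr
      exact ⟨a, M8.comm_two_T2 u v a h1 h2 h3 h4 h5 h6, ea⟩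
    exact ⟨fun r hr => two r (h r hr) h', fun r hr => two r (h' r hr) h⟩

include hQ in
/-- An element of odd order preserves both quaternion factors. -/
theorem keeps_of_odd {x : H} (hx : Odd (orderOf x)) : Keeps D T1 x ∧ Keeps D T2 x := by
  obtain ⟨k, hk⟩ := exists_sq_root hx
  have h := keeps_sq D hQ (x ^ k)
  rwa [← Commute.mul_pow (Commute.refl x), hk] at h

/-- An element of odd order fixing a pair of lifts fixes each of them. -/
theorem fix_of_class {x : H} (hx : Odd (orderOf x)) {p : M8}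
    (h : x * D.ι p * x⁻¹ = D.ι p ∨ x * D.ι p * x⁻¹ = D.ι (p * z)) : x * D.ι p = D.ι p * x := by
  rw [← mul_inv_eq_iff_eq_mul]
  rcases h with h | h
  · exact h
  have h2 : (x * x) * D.ι p * (x * x)⁻¹ = D.ι p := by
    rw [show (x * x) * D.ι p * (x * x)⁻¹ = x * (x * D.ι p * x⁻¹) * x⁻¹ by group, h, map_mul,
      show x * (D.ι p * D.ι z) * x⁻¹ = x * D.ι p * (D.ι z * x⁻¹) by group, ← D.iz_comm,
      show x * D.ι p * (x⁻¹ * D.ι z) = x * D.ι p * x⁻¹ * D.ι z by group, h, ← map_mul, mul_assoc,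
      M8.z_facts.1, mul_one]
  obtain ⟨k, hk⟩ := exists_sq_root hx
  have hc : Commute ((x * x) ^ k) (D.ι p) := Commute.pow_left (mul_inv_eq_iff_eq_mul.1 h2) k
  rw [hk] at hc
  rw [hc.eq, mul_inv_cancel_right]

/-- The facts about one quaternion factor which are used. -/
structure Factor (T : M8 → Prop) : Prop where
  cls : ∀ p q : M8, T p → T q →
    (p * q = q * p → q = p ∨ q = p * z) ∧ (q ≠ p → q ≠ p * z → q * p = z * (p * q))
  span : ∀ p q r : M8, T p → T q → T r → q ≠ p → q ≠ p * z →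
    r = p ∨ r = p * z ∨ r = q ∨ r = q * z ∨ r = p * q ∨ r = z * (p * q)
  other : ∀ p : M8, T p → ∃ q, T q ∧ q ≠ p ∧ q ≠ p * z
  square : ∀ p : M8, T p → p * p = z

theorem factor_T1 : Factor T1 :=
  ⟨M8.T1_class, M8.T1_span, by
    have : ∀ p : M8, T1 p → ∃ q, T1 q ∧ q ≠ p ∧ q ≠ p * z := by decide +kernel
    exact this, fun p hp => (M8.T1_facts p hp).2.1⟩

theorem factor_T2 : Factor T2 :=
  ⟨M8.T2_class, M8.T2_span, by
    have : ∀ p : M8, T2 p → ∃ q, T2 q ∧ q ≠ p ∧ q ≠ p * z := by decide +kernel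
    exact this, fun p hp => (M8.T2_facts p hp).2.1⟩

/-- An element of odd order fixing one element of a factor centralises the factor. -/
theorem cent_of_fix {T : M8 → Prop} (F : Factor T) {x : H} (hx : Odd (orderOf x)) (hk : Keeps D T x)
    (hk2 : Keeps D T (x * x)) {p : M8} (hp : T p) (hfix : x * D.ι p = D.ι p * x) :
    ∀ r, T r → x * D.ι r = D.ι r * x := by
  obtain ⟨q, hq, hqp, hqp'⟩ := F.other p hp
  have hpp : x * D.ι p * x⁻¹ = D.ι p := mul_inv_eq_iff_eq_mul.2 hfix
  obtain ⟨a, ha, ea⟩ := hk q hq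
  have hz : ∀ w, x * D.ι (w * z) * x⁻¹ = x * D.ι w * x⁻¹ * D.ι z := fun w => by
    rw [map_mul, show x * (D.ι w * D.ι z) * x⁻¹ = x * D.ι w * (D.ι z * x⁻¹) by group, ← D.iz_comm]
    group
  have hqf : x * D.ι q = D.ι q * x := by
    rcases F.span p q a hp hq ha hqp hqp' with e | e | e | e | e
    · exact absurd (D.inj (by rw [← mul_left_cancel_iff (a := x), ← mul_right_cancel_iff (a := x⁻¹), ← ea, e, hpp])) hqp
    · exact absurd (D.inj (by rw [← mul_left_cancel_iff (a := x), ← mul_right_cancel_iff (a := x⁻¹), ← ea, e, hz,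
        hpp, map_mul])) hqp'
    · exact fix_of_class D hx (Or.inl (by rw [← ea, e]))
    · exact fix_of_class D hx (Or.inr (by rw [← ea, e]))
    · -- the square of `x` fixes the class of `q`
      have hsq := odd_order_sq hx
      have h2 : (x * x) * D.ι q = D.ι q * (x * x) := by
        refine fix_of_class D hsq ?_
        have e2 : x * x * D.ι q * (x * x)⁻¹ = x * D.ι a * x⁻¹ := by rw [ea]; group
        right
        rcases e with e | e
        · rw [e2, e, map_mul, show x * (D.ι p * D.ι q) * x⁻¹ = (x * D.ι p * x⁻¹) * (x * D.ι q * x⁻¹) by group,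
            hpp, ← ea, e, ← map_mul, ← mul_assoc, F.square p hp, M8.z_central q]
        · rw [e2, e, map_mul, map_mul, show x * (D.ι z * (D.ι p * D.ι q)) * x⁻¹ =
              (x * D.ι z * x⁻¹) * ((x * D.ι p * x⁻¹) * (x * D.ι q * x⁻¹)) by group,
            hpp, ← ea, e, D.iz_comm x, mul_inv_cancel_right, ← map_mul, ← map_mul]
          congr 1
          rw [← mul_assoc p z, M8.z_central p, mul_assoc z p, ← mul_assoc p p, F.square p hp, ← mul_assoc z z,
            M8.z_facts.1, one_mul, M8.z_central q]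
      obtain ⟨k, hk'⟩ := exists_sq_root hx
      have hc : Commute ((x * x) ^ k) (D.ι q) := Commute.pow_left h2 k
      rwa [hk'] at hc
  intro r hr
  have zc : x * D.ι z = D.ι z * x := D.iz_comm x
  rcases F.span p q r hp hq hr hqp hqp' with e | e | e | e | e | e <;> subst e <;>
    (try simp only [map_mul])
  · exact hfix
  · exact Commute.mul_right hfix zc
  · exact hqf
  · exact Commute.mul_right hqf zc
  · exact Commute.mul_right hfix hqf
  · exact Commute.mul_right zc (Commute.mul_right hfix hqf)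

end main

end Cfsg.Lib.AltEightSolv
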