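import Cfsg.Agent.AltEightSolv.Model

/-!
# Facts about the model that are checked by evaluation
-/

set_option autoImplicit false
set_option maxRecDepth 100000

namespace Cfsg.Lib.AltEightSolv.M8

/-- An element outside `A`. -/
abbrev Out (q : M8) : Prop := ¬ InA q

theorem pair_cent : ∀ p : M8, p * p = 1 → p.a = true → p.f = false → ∀ q : M8, q * q = 1 → q.a = false →
    q.f = true → p * q = q * p → ∀ r : M8, InA r → r * p = p * r → r * q = q * r → r = 1 ∨ r = z := by
  decide +kernel

theorem out_cases : ∀ q : M8, Out q → (q.a = true ∧ q.f = false) ∨ (q.a = false ∧ q.f = true) ∨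
    (q.a = true ∧ q.f = true) := by decide +kernel

theorem out_class : ∀ q : M8, q * q = 1 → Out q → ∀ q' : M8, q' * q' = 1 → q'.a = q.a → q'.f = q.f →
    ∃ g : M8, g * q * g⁻¹ = q' := by decide +kernel

theorem out_cent_card : ∀ q : M8, q * q = 1 → Out q →
    (Finset.univ.filter fun g : M8 => g * q = q * g).card = 16 := by decide +kernel

theorem out_derived : ∀ q : M8, q * q = 1 → Out q →
    (∀ g : M8, g * q = q * g → ∀ k : M8, k * q = q * k → g * k * g⁻¹ * k⁻¹ = 1 ∨ g * k * g⁻¹ * k⁻¹ = z) ∧
    ∃ g : M8, g * q = q * g ∧ ∃ k : M8, k * q = q * k ∧ g * k * g⁻¹ * k⁻¹ = z := by decide +kernel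

theorem comm_inA : ∀ g k : M8, InA (g * k * g⁻¹ * k⁻¹) := by decide +kernel

theorem out_conj : ∀ g q : M8, (g * q * g⁻¹).a = q.a ∧ (g * q * g⁻¹).f = q.f := by decide +kernel

/-- A set of four pairwise commuting involutions generating more than `A` is too small. -/
theorem elem_out : ∀ q : M8, q * q = 1 → Out q →
    (Finset.univ.filter fun g : M8 => g * q = q * g ∧ InA g).card = 4 := by decide +kernel

theorem card_A : (Finset.univ.filter fun g : M8 => InA g).card = 16 := by decide +kernel

end Cfsg.Lib.AltEightSolv.M8
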