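import Cfsg.Agent.AltEightSolv.Sylow
import Cfsg.Agent.AltEightSolv.Facts
import Cfsg.Agent.TwoFusion.FusionTools

/-!
# Weak closure of `A` and fusion of the involutions outside `A`
-/

set_option autoImplicit false
set_option linter.style.haveILetI false
set_option linter.unusedSectionVars false

namespace Cfsg.Lib.AltEightSolv

open Subgroup

universe u

variable {G : Type u} [Group G] [Finite G] (c : Typed G)

/-- Conjugating subgroups. -/
abbrev cjS (g : G) (H : Subgroup G) : Subgroup G := H.map (MulAut.conj g).toMonoidHom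

theorem mem_cjS {g x : G} {H : Subgroup G} : x ∈ cjS g H ↔ ∃ y ∈ H, g * y * g⁻¹ = x := Subgroup.mem_map

theorem card_cjS (g : G) (H : Subgroup G) : Nat.card (cjS g H) = Nat.card H :=
  card_map_of_injective (MulEquiv.injective _)

namespace Typed

theorem card_Ag : Nat.card c.Ag = 16 := by
  have h : Nat.card ↥(Finset.univ.filter fun q : M8 => M8.InA q) = Nat.card c.Ag :=
    (Nat.card_congr (Equiv.subtypeEquivRight fun q =>
        Finset.mem_filter.trans (and_iff_right (Finset.mem_univ q)))).trans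
      (Nat.card_congr ((M8.A).equivMapOfInjective c.ι c.ι_inj).toEquiv)
  rw [← h, Nat.card_eq_finsetCard, M8.card_A]

theorem Ag_comm {x y : G} (hx : x ∈ c.Ag) (hy : y ∈ c.Ag) : x * y = y * x := by
  obtain ⟨p, hp, rfl⟩ := c.mem_Ag.1 hx
  obtain ⟨q, hq, rfl⟩ := c.mem_Ag.1 hy
  rw [← map_mul, ← map_mul, (M8.inA_mul p q hp hq).2]

theorem Ag_sq {x : G} (hx : x ∈ c.Ag) : x * x = 1 := by
  obtain ⟨p, hp, rfl⟩ := c.mem_Ag.1 hx
  rw [← map_mul, (M8.inA_sq p hp).1, map_one]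

/-- `A` is the only elementary abelian subgroup of order sixteen of the Sylow subgroup. -/
theorem eq_Ag {P : Subgroup G} (hP : P ≤ (c.S : Subgroup G)) (hc : ∀ x ∈ P, ∀ y ∈ P, x * y = y * x)
    (hs : ∀ x ∈ P, x * x = 1) (h16 : Nat.card P = 16) : P = c.Ag := by
  classical
  by_contra hne
  set P' : Subgroup M8 := P.comap c.ι with hP'
  have hmap : P'.map c.ι = P := map_comap_eq_self fun x hx => by
    obtain ⟨q, rfl⟩ := c.exists_ι (hP hx)
    exact ⟨q, rfl⟩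
  have hc' : ∀ p ∈ P', ∀ q ∈ P', p * q = q * p := fun p hp q hq =>
    c.ι_inj (by rw [map_mul, map_mul]; exact hc _ hp _ hq)
  have hs' : ∀ p ∈ P', p * p = 1 := fun p hp => c.ι_inj (by rw [map_mul, map_one]; exact hs _ hp)
  have h16' : Nat.card P' = 16 := by
    rw [Nat.card_congr (P'.equivMapOfInjective c.ι c.ι_inj).toEquiv, hmap, h16]
  -- the parities outside `A`
  let f : P' →* Multiplicative (ZMod 2 × ZMod 2) :=
    { toFun := fun q => Multiplicative.ofAdd (if (q : M8).a then 1 else 0, if (q : M8).f then 1 else 0)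
      map_one' := rfl
      map_mul' := fun p q => by
        obtain ⟨⟨a, b, x, d, e, f⟩, -⟩ := p
        obtain ⟨⟨a', b', x', d', e', f'⟩, -⟩ := q
        cases a <;> cases a' <;> cases f <;> cases f' <;>
          simp [M8.mul_def, ← ofAdd_add] <;> decide }
  have hker : ∀ q : P', q ∈ f.ker ↔ M8.InA (q : M8) := fun q => by
    obtain ⟨⟨a, b, x, d, e, g⟩, -⟩ := q
    rw [MonoidHom.mem_ker]
    cases a <;> cases g <;> simp [f, M8.InA]
  by_cases hin : ∀ q ∈ P', M8.InA q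
  · refine hne (eq_of_le_of_card_ge (fun x hx => ?_) (by rw [c.card_Ag, h16]))
    obtain ⟨q, rfl⟩ := c.exists_ι (hP hx)
    exact c.mem_Ag.2 ⟨q, hin q hx, rfl⟩
  push Not at hin
  obtain ⟨x, hx, hxo⟩ := hin
  have hprod : Nat.card f.ker * Nat.card f.range = 16 := by
    rw [← index_ker, card_mul_index, h16']
  have hk4 : Nat.card f.ker ≤ 4 := by
    have hinj : Function.Injective (fun q : f.ker => (⟨((q : P') : M8), Finset.mem_filter.2
        ⟨Finset.mem_univ _, hc' _ (q : P').2 _ hx, (hker _).1 q.2⟩⟩ :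
          ↥(Finset.univ.filter fun g : M8 => g * x = x * g ∧ M8.InA g))) := fun p q h => by
      have h' : ((p : P') : M8) = ((q : P') : M8) := by simpa using h
      exact Subtype.ext (Subtype.ext h')
    have := Nat.card_le_card_of_injective _ hinj
    rwa [Nat.card_eq_finsetCard, M8.elem_out x (hs' x hx) hxo] at this
  have hr4 : Nat.card f.range ≤ 4 := by
    refine (Subgroup.card_le_card_group _).trans (le_of_eq ?_)
    rw [Nat.card_eq_fintype_card]; rfl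
  have hfull : f.range = ⊤ := by
    refine eq_top_of_card_eq _ (le_antisymm (Subgroup.card_le_card_group _) ?_)
    have h4 : Nat.card (Multiplicative (ZMod 2 × ZMod 2)) = 4 := by rw [Nat.card_eq_fintype_card]; rfl
    rw [h4]; nlinarith
  obtain ⟨p, hp⟩ : Multiplicative.ofAdd ((1 : ZMod 2), (0 : ZMod 2)) ∈ f.range := hfull ▸ mem_top _
  obtain ⟨q, hq⟩ : Multiplicative.ofAdd ((0 : ZMod 2), (1 : ZMod 2)) ∈ f.range := hfull ▸ mem_top _
  have hbits : ∀ (r : P') (u v : Bool), f r = Multiplicative.ofAdd (if u then 1 else 0, if v then 1 else 0) →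
      (r : M8).a = u ∧ (r : M8).f = v := fun r u v h => by
    have key : ∀ a g u v : Bool, Multiplicative.ofAdd ((if a then (1 : ZMod 2) else 0), if g then (1 : ZMod 2) else 0) =
        Multiplicative.ofAdd ((if u then (1 : ZMod 2) else 0), if v then (1 : ZMod 2) else 0) → a = u ∧ g = v := by
      decide
    exact key _ _ u v h
  obtain ⟨hpa, hpf⟩ := hbits p true false (by simpa using hp)
  obtain ⟨hqa, hqf⟩ := hbits q false true (by simpa using hq)
  have hsub : Nat.card f.ker ≤ 2 := by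
    have hinj : Function.Injective (fun r : f.ker => if ((r : P') : M8) = 1 then (0 : Fin 2) else 1) := by
      intro r r' h
      have hh : ∀ r : f.ker, ((r : P') : M8) = 1 ∨ ((r : P') : M8) = M8.z := fun r =>
        M8.pair_cent p (hs' _ p.2) hpa hpf q (hs' _ q.2) hqa hqf (hc' _ p.2 _ q.2) _ ((hker _).1 r.2)
          (hc' _ (r : P').2 _ p.2) (hc' _ (r : P').2 _ q.2)
      refine Subtype.ext (Subtype.ext ?_)
      rcases hh r with e | e <;> rcases hh r' with e' | e' <;>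
        simp [e, e', M8.z_facts.2.1] at h ⊢
    simpa using Nat.card_le_card_of_injective _ hinj
  nlinarith

/-- Conjugates of `A` inside the Sylow subgroup. -/
theorem cjS_Ag_eq {g : G} (h : cjS g c.Ag ≤ (c.S : Subgroup G)) : cjS g c.Ag = c.Ag := by
  refine c.eq_Ag h ?_ ?_ (by rw [card_cjS, c.card_Ag])
  · rintro _ ⟨x, hx, rfl⟩ _ ⟨y, hy, rfl⟩
    rw [← map_mul, ← map_mul, c.Ag_comm hx hy]
  · rintro _ ⟨x, hx, rfl⟩
    rw [← map_mul, c.Ag_sq hx, map_one]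

theorem mem_normalizer_Ag {n : G} (h : ∀ x ∈ c.Ag, n * x * n⁻¹ ∈ c.Ag) : n ∈ normalizer (c.Ag : Set G) := by
  have he : cjS n c.Ag = c.Ag := eq_of_le_of_card_ge (by rintro _ ⟨x, hx, rfl⟩; exact h x hx)
    (by rw [card_cjS])
  refine mem_normalizer_iff.2 fun x => ⟨h x, fun hx => ?_⟩
  obtain ⟨y, hy, e⟩ := mem_cjS.1 (he.symm ▸ hx : n * x * n⁻¹ ∈ cjS n c.Ag)
  exact mul_left_cancel (mul_right_cancel e) ▸ hy

/-- The normaliser of `A` controls fusion in `A`. -/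
theorem fusion_Ag {x g : G} (hx : x ∈ c.Ag) (hy : g * x * g⁻¹ ∈ c.Ag) :
    ∃ n ∈ normalizer (c.Ag : Set G), n * x * n⁻¹ = g * x * g⁻¹ := by
  haveI : Fact (Nat.Prime 2) := ⟨Nat.prime_two⟩
  set y := g * x * g⁻¹ with hy'
  set C := centralizer ({y} : Set G)
  have hA : c.Ag ≤ C := fun a ha => mem_centralizer_singleton_iff.2 (c.Ag_comm ha hy)
  have hA' : cjS g c.Ag ≤ C := by
    rintro _ ⟨a, ha, rfl⟩
    refine mem_centralizer_singleton_iff.2 ?_
    show g * a * g⁻¹ * (g * x * g⁻¹) = g * x * g⁻¹ * (g * a * g⁻¹)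
    rw [conj_mul, conj_mul, c.Ag_comm ha hx]
  have hp : IsPGroup 2 c.Ag := c.S.2.to_le c.Ag_le
  obtain ⟨P, hP⟩ := (hp.of_equiv (subgroupOfEquivOfLe hA).symm).exists_le_sylow
  obtain ⟨T, hT⟩ := (P.isPGroup'.map C.subtype).exists_le_sylow
  obtain ⟨k, hk⟩ := MulAction.exists_smul_eq G T c.S
  have hkS : ∀ w ∈ T, k * w * k⁻¹ ∈ (c.S : Subgroup G) := fun w hw => by
    rw [← hk, Sylow.coe_subgroup_smul]
    exact ⟨w, hw, rfl⟩
  obtain ⟨h, hh⟩ := Cfsg.Lib.InvolCalc.exists_conj_le P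
    (((hp.map (MulAut.conj g).toMonoidHom)).of_equiv (subgroupOfEquivOfLe hA').symm)
  have h1 : cjS k c.Ag = c.Ag := c.cjS_Ag_eq (by
    rintro _ ⟨a, ha, rfl⟩
    exact hkS a (hT ⟨⟨a, hA ha⟩, hP ha, rfl⟩))
  have h2 : cjS (k * (h : G)⁻¹ * g) c.Ag = c.Ag := c.cjS_Ag_eq (by
    rintro _ ⟨a, ha, rfl⟩
    have hm : g * a * g⁻¹ ∈ cjS g c.Ag := mem_cjS.2 ⟨a, ha, rfl⟩
    have h3 := hkS _ (hT ⟨_, hh ⟨_, hA' hm⟩ hm, rfl⟩)
    simp only [MulEquiv.toMonoidHom_eq_coe, MonoidHom.coe_coe, MulAut.conj_apply, Subgroup.coe_mul,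
      Subgroup.coe_inv, Subgroup.subtype_apply] at h3 ⊢
    rw [show k * (h : G)⁻¹ * g * a * (k * (h : G)⁻¹ * g)⁻¹ = k * ((h : G)⁻¹ * (g * a * g⁻¹) * (h : G)) * k⁻¹
      by group]
    exact h3)
  refine ⟨(h : G)⁻¹ * g, c.mem_normalizer_Ag fun a ha => ?_, ?_⟩
  · have h4 : k * (h : G)⁻¹ * g * a * (k * (h : G)⁻¹ * g)⁻¹ ∈ cjS k c.Ag := by
      rw [h1]
      exact h2.le (mem_cjS.2 ⟨a, ha, rfl⟩)
    obtain ⟨b, hb, e⟩ := mem_cjS.1 h4
    have : (h : G)⁻¹ * g * a * ((h : G)⁻¹ * g)⁻¹ = b := by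
      refine mul_left_cancel (a := k) (mul_right_cancel (b := k⁻¹) ?_)
      rw [e]; group
    rwa [this]
  · have hhy : (h : G) * y = y * (h : G) := mem_centralizer_singleton_iff.1 h.2
    rw [show (h : G)⁻¹ * g * x * ((h : G)⁻¹ * g)⁻¹ = (h : G)⁻¹ * (y * (h : G)) by rw [hy']; group, ← hhy,
      inv_mul_cancel_left]

/-- The centraliser of an element in the Sylow subgroup. -/
theorem card_cent (q : M8) :
    Nat.card (((centralizer ({c.ι q} : Set G)) ⊓ (c.S : Subgroup G) : Subgroup G)) =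
      (Finset.univ.filter fun g : M8 => g * q = q * g).card := by
  rw [← Nat.card_eq_finsetCard]
  refine (Nat.card_eq_of_bijective (fun g => (⟨c.ι g.1, mem_centralizer_singleton_iff.2 (by
    rw [← map_mul, ← map_mul, (Finset.mem_filter.1 g.2).2]), c.ι_mem _⟩ :
      ↥((centralizer ({c.ι q} : Set G)) ⊓ (c.S : Subgroup G)))) ⟨?_, ?_⟩).symm
  · intro g g' h
    have h' : c.ι g.1 = c.ι g'.1 := Subtype.mk.inj h
    exact Subtype.ext (c.ι_inj h')
  · rintro ⟨x, hx, hxS⟩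
    obtain ⟨g, rfl⟩ := c.exists_ι hxS
    refine ⟨⟨g, Finset.mem_filter.2 ⟨Finset.mem_univ _, c.ι_inj ?_⟩⟩, rfl⟩
    rw [map_mul, map_mul]
    exact mem_centralizer_singleton_iff.1 hx

/-- An involution outside `A` has a conjugate in `A`, or its centraliser in the Sylow subgroup is Sylow in
its centraliser; in the first case a conjugate in `A` is reached inside a group fixing the central involution
up to conjugation in the normaliser of `A`. -/
theorem out_cases {x : M8} (hx : x * x = 1) (ho : M8.Out x) :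
    (∃ n, n * c.zG * n⁻¹ = c.zG ∧ ∃ y, M8.InA y ∧ n * c.ι x * n⁻¹ = c.ι y) ∨
      ∀ g : G, ∀ q : M8, g * c.ι x * g⁻¹ = c.ι q → M8.Out q ∧ ∃ n, n * c.zG * n⁻¹ = c.zG ∧
        n * c.ι x * n⁻¹ = c.ι q := by
  classical
  haveI : Fact (Nat.Prime 2) := ⟨Nat.prime_two⟩
  obtain ⟨hder, g0, hg0, k0, hk0, hgk⟩ := M8.out_derived x hx ho
  set X := c.ι x with hX
  set C := centralizer ({X} : Set G) with hC
  set R := C ⊓ (c.S : Subgroup G) with hR
  have hR16 : Nat.card R = 16 := by rw [hR, hC, hX, c.card_cent, M8.out_cent_card x hx ho]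
  obtain ⟨P, hP⟩ := ((c.S.2.to_le (inf_le_right : R ≤ _)).of_equiv
    (subgroupOfEquivOfLe (inf_le_left : R ≤ C)).symm).exists_le_sylow
  set PG := (P : Subgroup C).map C.subtype with hPG
  have hRP : R ≤ PG := fun r hr => ⟨⟨r, hr.1⟩, hP hr, rfl⟩
  obtain ⟨h, -, hh⟩ := Cfsg.Lib.TwoFusion.exists_sylow_conj (H := ⊤) c.S le_top (P.isPGroup'.map C.subtype) le_top
  have hxR : X ∈ R := ⟨mem_centralizer_singleton_iff.2 rfl, c.ι_mem x⟩
  obtain ⟨x', hx'⟩ := c.exists_ι (hh X (hRP hxR))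
  obtain ⟨u, hu⟩ := c.exists_ι (hh (c.ι g0) (hRP ⟨mem_centralizer_singleton_iff.2 (by
    rw [hX, ← map_mul, ← map_mul, hg0]), c.ι_mem _⟩))
  obtain ⟨v, hv⟩ := c.exists_ι (hh (c.ι k0) (hRP ⟨mem_centralizer_singleton_iff.2 (by
    rw [hX, ← map_mul, ← map_mul, hk0]), c.ι_mem _⟩))
  have huv : c.ι (u * v * u⁻¹ * v⁻¹) = h * c.zG * h⁻¹ := by
    rw [map_mul, map_mul, map_mul, map_inv, map_inv, hu, hv, zG, ← hgk, map_mul, map_mul, map_mul, map_inv, map_inv]
    group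
  by_cases hA : M8.InA x'
  · left
    have hzA : h * c.zG * h⁻¹ ∈ c.Ag := huv ▸ c.mem_Ag.2 ⟨_, M8.comm_inA u v, rfl⟩
    obtain ⟨n, hn, hnz⟩ := c.fusion_Ag (x := c.zG) (g := h) (c.mem_Ag.2 ⟨_, M8.z_facts.2.2.1, rfl⟩) hzA
    refine ⟨n⁻¹ * h, ?_, ?_⟩
    · rw [show n⁻¹ * h * c.zG * (n⁻¹ * h)⁻¹ = n⁻¹ * (h * c.zG * h⁻¹) * n by group, ← hnz]; group
    · have hm : n⁻¹ * c.ι x' * n⁻¹⁻¹ ∈ c.Ag :=
        (mem_normalizer_iff.1 (inv_mem hn) _).1 (c.mem_Ag.2 ⟨x', hA, rfl⟩)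
      obtain ⟨y, hy, hye⟩ := c.mem_Ag.1 hm
      exact ⟨y, hy, by rw [hye, hx']; group⟩
  -- the centraliser has Sylow subgroup `R`
  right
  have hxx' : x' * x' = 1 := c.ι_inj (by
    rw [map_mul, map_one, hx', show h * X * h⁻¹ * (h * X * h⁻¹) = h * (X * X) * h⁻¹ by group, hX, ← map_mul, hx,
      map_one, mul_one, mul_inv_cancel])
  have hPR : PG = R := by
    refine (eq_of_le_of_card_ge hRP ?_).symm
    rw [hR16, ← card_cjS h PG, ← M8.out_cent_card x' hxx' hA, ← c.card_cent x']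
    refine Nat.card_le_card_of_injective (inclusion ?_) (inclusion_injective _)
    rintro _ ⟨w, hw, rfl⟩
    refine ⟨mem_centralizer_singleton_iff.2 ?_, hh w hw⟩
    obtain ⟨⟨w', hw'⟩, -, rfl⟩ := hw
    show h * w' * h⁻¹ * c.ι x' = c.ι x' * (h * w' * h⁻¹)
    rw [hx', conj_mul, conj_mul, show w' * X = X * w' from mem_centralizer_singleton_iff.1 hw']
  intro g q hgq
  have hqq : q * q = 1 := c.ι_inj (by
    rw [map_mul, map_one, ← hgq, show g * X * g⁻¹ * (g * X * g⁻¹) = g * (X * X) * g⁻¹ by group, hX, ← map_mul, hx,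
      map_one, mul_one, mul_inv_cancel])
  -- move the centraliser of the image into `R`
  have key : ∀ (Y : Subgroup G), IsPGroup 2 Y → Y ≤ centralizer ({c.ι q} : Set G) →
      ∃ t : G, t * c.ι q * t⁻¹ = X ∧ ∀ y ∈ Y, t * y * t⁻¹ ∈ R := by
    intro Y hY hYc
    have hYC : cjS g⁻¹ Y ≤ C := by
      rintro _ ⟨y, hy, rfl⟩
      refine mem_centralizer_singleton_iff.2 ?_
      show g⁻¹ * y * g⁻¹⁻¹ * X = X * (g⁻¹ * y * g⁻¹⁻¹)
      rw [show X = g⁻¹ * c.ι q * g⁻¹⁻¹ by rw [← hgq]; group, conj_mul, conj_mul,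
        mem_centralizer_singleton_iff.1 (hYc hy)]
    obtain ⟨d, hd⟩ := Cfsg.Lib.InvolCalc.exists_conj_le P
      ((hY.map (MulAut.conj g⁻¹).toMonoidHom).of_equiv (subgroupOfEquivOfLe hYC).symm)
    refine ⟨(d : G)⁻¹ * g⁻¹, ?_, fun y hy => ?_⟩
    · rw [show (d : G)⁻¹ * g⁻¹ * c.ι q * ((d : G)⁻¹ * g⁻¹)⁻¹ = (d : G)⁻¹ * (X * (d : G)) by rw [← hgq]; group,
        ← show (d : G) * X = X * (d : G) from mem_centralizer_singleton_iff.1 d.2, inv_mul_cancel_left]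
    · rw [← hPR]
      have hm : g⁻¹ * y * g⁻¹⁻¹ ∈ cjS g⁻¹ Y := mem_cjS.2 ⟨y, hy, rfl⟩
      refine ⟨_, hd ⟨_, hYC hm⟩ hm, ?_⟩
      simp [mul_assoc]
  have hqo : M8.Out q := fun hq => by
    obtain ⟨t, ht, htR⟩ := key c.Ag (c.S.2.to_le c.Ag_le) fun a ha =>
      mem_centralizer_singleton_iff.2 (c.Ag_comm ha (c.mem_Ag.2 ⟨q, hq, rfl⟩))
    have hsub : cjS t c.Ag = R := eq_of_le_of_card_ge (by rintro _ ⟨a, ha, rfl⟩; exact htR a ha)
      (by rw [hR16, card_cjS, c.card_Ag])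
    have hgR : c.ι g0 ∈ R := ⟨mem_centralizer_singleton_iff.2 (by rw [hX, ← map_mul, ← map_mul, hg0]), c.ι_mem _⟩
    have hkR : c.ι k0 ∈ R := ⟨mem_centralizer_singleton_iff.2 (by rw [hX, ← map_mul, ← map_mul, hk0]), c.ι_mem _⟩
    rw [← hsub] at hgR hkR
    obtain ⟨a, ha, hae⟩ := mem_cjS.1 hgR
    obtain ⟨b, hb, hbe⟩ := mem_cjS.1 hkR
    refine M8.z_facts.2.1 (c.ι_inj ?_)
    rw [← hgk, map_one, map_mul, map_mul, map_mul, map_inv, map_inv, ← hae, ← hbe,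
      show t * a * t⁻¹ * (t * b * t⁻¹) * (t * a * t⁻¹)⁻¹ * (t * b * t⁻¹)⁻¹ = t * (a * b * a⁻¹ * b⁻¹) * t⁻¹ by group,
      c.Ag_comm ha hb]
    group
  refine ⟨hqo, ?_⟩
  obtain ⟨hderq, g1, hg1, k1, hk1, hgk1⟩ := M8.out_derived q hqq hqo
  obtain ⟨t, ht, htR⟩ := key ((centralizer ({c.ι q} : Set G)) ⊓ (c.S : Subgroup G)) (c.S.2.to_le inf_le_right)
    inf_le_left
  obtain ⟨hu1, hu1'⟩ := htR (c.ι g1) ⟨mem_centralizer_singleton_iff.2 (by rw [← map_mul, ← map_mul, hg1]), c.ι_mem _⟩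
  obtain ⟨hv1, hv1'⟩ := htR (c.ι k1) ⟨mem_centralizer_singleton_iff.2 (by rw [← map_mul, ← map_mul, hk1]), c.ι_mem _⟩
  obtain ⟨u1, hu1e⟩ := c.exists_ι hu1'
  obtain ⟨v1, hv1e⟩ := c.exists_ι hv1'
  have hcu : ∀ {w : M8} {y : G}, c.ι w = y → y ∈ C → w * x = x * w := fun {w y} e hy => c.ι_inj (by
    rw [map_mul, map_mul, e]; exact mem_centralizer_singleton_iff.1 hy)
  have htz : t * c.zG * t⁻¹ = c.ι (u1 * v1 * u1⁻¹ * v1⁻¹) := by
    rw [zG, ← hgk1, map_mul, map_mul, map_mul, map_inv, map_inv, map_mul, map_mul, map_mul, map_inv, map_inv,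
      hu1e, hv1e]
    group
  rcases hder u1 (hcu hu1e hu1) v1 (hcu hv1e hv1) with e | e
  · rw [e, map_one, conj_eq_one_iff] at htz
    exact absurd (c.ι_eq_one.1 htz) M8.z_facts.2.1
  · rw [e] at htz
    refine ⟨t⁻¹, ?_, ?_⟩
    · conv_lhs => rw [show c.zG = t * c.zG * t⁻¹ from htz.symm]
      group
    · rw [← ht]; group

end Typed

end Cfsg.Lib.AltEightSolv
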