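import Cfsg.Agent.AltEightSolv.Local
import Cfsg.Agent.Coprime.Fitting

/-!
# Tools for the analysis of the local shapes

Commuting automorphisms of small elementary abelian groups, solvable groups in which no involution commutes with a
non-trivial element of odd order, and the self-centralising two-core.
-/

set_option autoImplicit false
set_option linter.unusedSectionVars false
set_option linter.style.haveILetI false

namespace Cfsg.Lib.AltEightSolv

universe u

section two

variable {V : Type*} [Group V] [Finite V]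

theorem comm_of_exp_two (hexp : ∀ x : V, x * x = 1) (x y : V) : x * y = y * x := by
  have h := hexp (x * y)
  calc x * y = x * (x * y * (x * y)) * y := by rw [h, mul_one]
    _ = x * x * (y * x) * (y * y) := by simp only [mul_assoc]
    _ = y * x := by rw [hexp, hexp, one_mul, mul_one]

theorem iterate_eq_one {f : MulAut V} {x : V} (hfx : f x = x) : ∀ n : ℕ, (f ^ n) x = x := by
  intro n
  induction n with
  | zero => simp
  | succ n ih => rw [pow_succ, MulAut.mul_apply, hfx, ih]

/-- An automorphism of odd order commuting with an involution whose fixed points are few is trivial, as soon as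
it fixes a non-trivial one of them. -/
theorem eq_one_of_small (hexp : ∀ x : V, x * x = 1) (g t : MulAut V) (hgt : g * t = t * g)
    (hg : Odd (orderOf g)) (htt : t * t = 1) (hC : Nat.card {x // t x = x} ≤ 4) (v : V) (hv1 : v ≠ 1)
    (htv : t v = v) (hgv : g v = v) : g = 1 := by
  classical
  have hgt' : ∀ x, g (t x) = t (g x) := fun x => congrArg (fun f : MulAut V => f x) hgt
  have htt' : ∀ x, t (t x) = x := fun x => congrArg (fun f : MulAut V => f x) htt
  have comm := comm_of_exp_two hexp
  obtain ⟨k, hk⟩ : ∃ k : ℕ, (g * g) ^ k = g := by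
    obtain ⟨j, hj⟩ := hg
    exact ⟨j + 1, by rw [← pow_two, ← pow_mul, show 2 * (j + 1) = 2 * j + 1 + 1 by ring, pow_succ, ← hj,
      pow_orderOf_eq_one, one_mul]⟩
  have hfix : ∀ w, t w = w → g w = w := by
    intro w hw
    by_contra hne
    have hgw : t (g w) = g w := by rw [← hgt', hw]
    have hw1 : w ≠ 1 := fun e => hne (by rw [e, map_one])
    have hwv : w ≠ v := fun e => hne (by rw [e, hgv])
    have hgw1 : g w ≠ 1 := fun e => hw1 (g.injective (e.trans (map_one g).symm))
    have hgwv : g w ≠ v := fun e => hwv (g.injective (e.trans hgv.symm))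
    by_cases h5 : g w = w * v
    · apply hne
      have h2 : (g * g) w = w := by rw [MulAut.mul_apply, h5, map_mul, h5, hgv, mul_assoc, hexp, mul_one]
      conv_lhs => rw [← hk]
      exact iterate_eq_one h2 k
    · let f : Fin 5 → {x // t x = x} := ![⟨1, map_one t⟩, ⟨v, htv⟩, ⟨w, hw⟩, ⟨w * v, by rw [map_mul, hw, htv]⟩,
        ⟨g w, hgw⟩]
      have hwv1 : w * v ≠ 1 := fun e => hwv (by
        calc w = w * v * v := by rw [mul_assoc, hexp, mul_one]
          _ = v := by rw [e, one_mul])
      have hf : Function.Injective f := by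
        intro i j e
        have e' := congrArg Subtype.val e
        fin_cases i <;> fin_cases j <;> simp [f] at e' ⊢ <;>
          first
            | exact hv1 e' | exact hv1 e'.symm | exact hw1 e' | exact hw1 e'.symm | exact hwv1 e'
            | exact hwv1 e'.symm | exact hgw1 e' | exact hgw1 e'.symm | exact hwv e' | exact hwv e'.symm
            | exact hgwv e' | exact hgwv e'.symm | exact hne e' | exact hne e'.symm | exact h5 e'
            | exact h5 e'.symm
      have := Nat.card_le_card_of_injective f hf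
      rw [Nat.card_fin] at this
      omega
  ext x
  set d := g x * x with hd
  have hcfix : t (t x * x) = t x * x := by rw [map_mul, htt', comm]
  have hdfix : t d = d := by
    have h1 : t (g x) * g x = t x * x := by rw [← hgt', ← map_mul, hfix _ hcfix]
    rw [hd, map_mul]
    calc t (g x) * t x = t (g x) * g x * (g x * t x) := by rw [mul_assoc, ← mul_assoc (g x), hexp, one_mul]
      _ = x * g x := by rw [h1, comm (g x) (t x), comm (t x) x, mul_assoc, ← mul_assoc (t x), hexp, one_mul]
      _ = g x * x := comm _ _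
  have hgd : g d = d := hfix d hdfix
  have hgx : g x = d * x := by rw [hd, mul_assoc, hexp, mul_one]
  have hpow : ∀ n : ℕ, (g ^ n) x = d ^ n * x := by
    intro n
    induction n with
    | zero => simp
    | succ n ih => rw [pow_succ', MulAut.mul_apply, ih, map_mul, map_pow, hgd, hgx, ← mul_assoc, ← pow_succ]
  have h := hpow (orderOf g)
  rw [pow_orderOf_eq_one, MulAut.one_apply] at h
  obtain ⟨j, hj⟩ := hg
  rw [hj, pow_succ, pow_mul, pow_two, hexp, one_pow, one_mul] at h
  rw [MulAut.one_apply, hgx]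
  exact h.symm

/-- In a group of order at most eight and exponent two, an involutive automorphism commutes with no non-trivial
automorphism of odd order. -/
theorem eq_one_of_card_le_eight (hexp : ∀ x : V, x * x = 1) (hV : Nat.card V ≤ 8) (g t : MulAut V)
    (hgt : g * t = t * g) (hg : Odd (orderOf g)) (htt : t * t = 1) (ht1 : t ≠ 1) : g = 1 := by
  have hgt' : ∀ x, g (t x) = t (g x) := fun x => congrArg (fun f : MulAut V => f x) hgt
  have htt' : ∀ x, t (t x) = x := fun x => congrArg (fun f : MulAut V => f x) htt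
  have comm := comm_of_exp_two hexp
  let δ : V →* V := MonoidHom.mk' (fun x => t x * x) fun a b => by
    show t (a * b) * (a * b) = t a * a * (t b * b)
    rw [map_mul, mul_assoc, ← mul_assoc (t b), comm (t b) a]
    simp only [mul_assoc]
  have hδ : ∀ x, δ x = t x * x := fun _ => rfl
  have hker : ∀ x, x ∈ δ.ker ↔ t x = x := fun x => by
    rw [MonoidHom.mem_ker, hδ]
    exact ⟨fun e => by
      calc t x = t x * x * x := by rw [mul_assoc, hexp, mul_one]
        _ = x := by rw [e, one_mul], fun e => by rw [e, hexp]⟩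
  have hle : δ.range ≤ δ.ker := by
    rintro _ ⟨x, rfl⟩
    rw [hker, hδ, map_mul, htt', comm]
  have hcard : Nat.card δ.range * Nat.card δ.ker = Nat.card V := by
    rw [← Subgroup.index_ker, mul_comm, Subgroup.card_mul_index]
  have hle' := Subgroup.card_le_of_le hle
  have hR1 : Nat.card δ.range ≠ 1 := fun e => ht1 (MulEquiv.ext fun x => by
    have h : δ x ∈ δ.range := ⟨x, rfl⟩
    rw [Subgroup.card_eq_one] at e
    rw [e, Subgroup.mem_bot] at h
    rw [MulAut.one_apply]
    exact (hker x).1 h)
  have hR2 : Nat.card δ.range = 2 := by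
    have h0 : 0 < Nat.card δ.range := Nat.card_pos
    have : Nat.card δ.range * Nat.card δ.range ≤ 8 := by
      calc Nat.card δ.range * Nat.card δ.range ≤ Nat.card δ.range * Nat.card δ.ker :=
            Nat.mul_le_mul_left _ hle'
        _ ≤ 8 := hcard ▸ hV
    by_contra hne
    have := Nat.mul_le_mul (show 3 ≤ Nat.card δ.range by omega) (show 3 ≤ Nat.card δ.range by omega)
    omega
  have hC : Nat.card {x // t x = x} ≤ 4 := by
    rw [← Nat.card_congr (Equiv.subtypeEquivRight hker)]
    have e : Nat.card {x // x ∈ δ.ker} = Nat.card δ.ker := rfl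
    rw [e]
    rw [hR2] at hcard
    omega
  obtain ⟨⟨v, hv⟩, hv1⟩ : ∃ v : δ.range, v ≠ 1 := by
    have : Nontrivial δ.range := Finite.one_lt_card_iff_nontrivial.1 (by omega)
    exact exists_ne 1
  refine eq_one_of_small hexp g t hgt hg htt hC v (fun e => hv1 (Subtype.ext e)) ((hker v).1 (hle hv)) ?_
  obtain ⟨x, rfl⟩ := hv
  by_contra hne
  have hne1 : g (δ x) ≠ 1 := fun e => hv1 (Subtype.ext (g.injective (e.trans (map_one g).symm)))
  let f : Fin 3 → δ.range := ![1, ⟨δ x, x, rfl⟩, ⟨g (δ x), g x, by rw [hδ, hδ, map_mul, hgt']⟩]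
  have hf : Function.Injective f := by
    intro i j e
    have e' := congrArg Subtype.val e
    fin_cases i <;> fin_cases j <;> simp [f] at e' ⊢ <;>
      first
        | exact hv1 (Subtype.ext e') | exact hv1 (Subtype.ext e'.symm) | exact hne1 e' | exact hne1 e'.symm
        | exact hne e' | exact hne e'.symm
  have := Nat.card_le_card_of_injective f hf
  rw [Nat.card_fin] at this
  omega

end two

section free

variable {X : Type*} [Group X] [Finite X]

/-- A normal abelian subgroup with an element of odd order allows at most one involution in a two-group, when no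
involution commutes with an element of odd order. -/
theorem involution_unique (hfree : ∀ τ : X, τ * τ = 1 → τ ≠ 1 → ∀ k : X, Odd (orderOf k) → τ * k = k * τ → k = 1)
    (M : Subgroup X) [M.Normal] (hab : ∀ a ∈ M, ∀ b ∈ M, a * b = b * a) {k : X} (hk : k ∈ M)
    (hodd : Odd (orderOf k)) (hk1 : k ≠ 1) {t u : X} (ht : t * t = 1) (ht1 : t ≠ 1) (hu : u * u = 1) (hu1 : u ≠ 1)
    {j : ℕ} (hj : orderOf (t * u) = 2 ^ j) : t = u := by
  have inv : ∀ t : X, t * t = 1 → t ≠ 1 → t * k * t = k⁻¹ := by
    intro t ht ht1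
    have hti : t⁻¹ = t := inv_eq_of_mul_eq_one_right ht
    have hk' : t * k * t ∈ M := by
      have h := Subgroup.Normal.conj_mem (inferInstance : M.Normal) k hk t
      rwa [hti] at h
    have hcomm := hab k hk _ hk'
    have hord : orderOf (t * k * t) = orderOf k := by
      have h := MulEquiv.orderOf_eq (MulAut.conj t) k
      rwa [MulAut.conj_apply, hti] at h
    have hoddc : Odd (orderOf (k * (t * k * t))) :=
      hodd.of_dvd_nat ((Commute.orderOf_mul_dvd_lcm hcomm).trans (by rw [hord, Nat.lcm_self]))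
    have hc := hfree t ht ht1 _ hoddc (by
      calc t * (k * (t * k * t)) = (t * k * t) * (t * t) * k * t := by rw [ht, mul_one]; simp only [mul_assoc]
        _ = (t * k * t) * k * t := by rw [ht, mul_one]
        _ = k * (t * k * t) * t := by rw [hcomm])
    exact eq_inv_of_mul_eq_one_right hc
  by_contra hne
  have htu : t * u ≠ 1 := fun e => hne (by
    rw [mul_eq_one_iff_eq_inv, inv_eq_of_mul_eq_one_right hu] at e
    exact e)
  have hcomm : (t * u) * k = k * (t * u) := by
    have h1 := inv t ht ht1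
    have h2 := inv u hu hu1
    have h3 : u * k⁻¹ * u = k := by
      rw [← h2]
      calc u * (u * k * u) * u = u * u * k * (u * u) := by simp only [mul_assoc]
        _ = k := by rw [hu, one_mul, mul_one]
    calc t * u * k = t * (u * k * u) * u := by simp only [mul_assoc, hu, mul_one]
      _ = t * k⁻¹ * u := by rw [h2]
      _ = t * (t * k * t) * u := by rw [h1]
      _ = k * (t * u) := by rw [← mul_assoc t, ← mul_assoc t, ht, one_mul, mul_assoc]
  obtain ⟨i, rfl⟩ : ∃ i, j = i + 1 := ⟨j - 1, by
    have : j ≠ 0 := fun e => htu (orderOf_eq_one_iff.1 (by rw [hj, e, pow_zero]))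
    omega⟩
  have hpow : (t * u) ^ (2 ^ i) * (t * u) ^ (2 ^ i) = 1 := by
    rw [← pow_add, ← two_mul, ← pow_succ', ← hj, pow_orderOf_eq_one]
  have hne1 : (t * u) ^ (2 ^ i) ≠ 1 := fun e => by
    have h := orderOf_dvd_of_pow_eq_one e
    rw [hj] at h
    have := Nat.le_of_dvd (Nat.two_pow_pos i) h
    rw [pow_succ] at this
    have := Nat.two_pow_pos i
    omega
  exact hk1 (hfree _ hpow hne1 k hodd ((Commute.pow_left hcomm _).eq))

/-- A non-trivial solvable group has a non-trivial abelian normal subgroup. -/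
theorem exists_abelian_normal' [Nontrivial X] [Group.IsSolvable X] :
    ∃ M : Subgroup X, M.Normal ∧ M ≠ ⊥ ∧ ∀ a ∈ M, ∀ b ∈ M, a * b = b * a := by
  classical
  have hex : ∃ n, derivedSeries X n = ⊥ := (inferInstance : Group.IsSolvable X).solvable
  let m := Nat.find hex
  have hm : derivedSeries X m = ⊥ := Nat.find_spec hex
  rcases Nat.eq_zero_or_pos m with h0 | h0
  · rw [h0, derivedSeries_zero] at hm
    exact absurd hm top_ne_bot
  obtain ⟨j, hj⟩ : ∃ j, m = j + 1 := ⟨m - 1, by omega⟩
  refine ⟨derivedSeries X j, inferInstance, Nat.find_min hex (by change j < m; omega), ?_⟩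
  rw [hj, derivedSeries_succ, Subgroup.commutator_eq_bot_iff_le_centralizer] at hm
  exact fun a ha b hb => Subgroup.mem_centralizer_iff.1 (hm hb) a ha

/-- Either a two-subgroup has at most one involution, or some non-trivial normal subgroup is a two-group. -/
theorem core_or_unique [Nontrivial X] [Group.IsSolvable X]
    (hfree : ∀ τ : X, τ * τ = 1 → τ ≠ 1 → ∀ k : X, Odd (orderOf k) → τ * k = k * τ → k = 1) :
    (∃ M : Subgroup X, M.Normal ∧ M ≠ ⊥ ∧ IsPGroup 2 M) ∨
      (∀ T : Subgroup X, IsPGroup 2 T → ∀ t ∈ T, ∀ u ∈ T, t * t = 1 → t ≠ 1 → u * u = 1 → u ≠ 1 → t = u) := by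
  obtain ⟨M, hMn, hM1, hab⟩ := exists_abelian_normal' (X := X)
  haveI := hMn
  by_cases hex : ∃ k ∈ M, k ≠ 1 ∧ Odd (orderOf k)
  · obtain ⟨k, hk, hk1, hko⟩ := hex
    refine Or.inr fun T hT t htT u huT ht ht1 hu hu1 => ?_
    obtain ⟨j, hj⟩ := (IsPGroup.iff_orderOf (p := 2) (G := T)).1 hT ⟨t * u, mul_mem htT huT⟩
    rw [Subgroup.orderOf_mk] at hj
    exact involution_unique hfree M hab hk hko hk1 ht ht1 hu hu1 hj
  · refine Or.inl ⟨M, hMn, hM1, (IsPGroup.iff_orderOf (p := 2) (G := M)).2 fun x => ?_⟩
    rw [← Subgroup.orderOf_coe]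
    obtain ⟨k, r, hr, e⟩ := Nat.exists_eq_two_pow_mul_odd (orderOf_pos (x : X)).ne'
    refine ⟨k, ?_⟩
    by_contra hne
    refine hex ⟨(x : X) ^ (2 ^ k), pow_mem x.2 _, fun e1 => hne ?_, ?_⟩
    · refine Nat.dvd_antisymm (orderOf_dvd_of_pow_eq_one e1) ⟨r, e⟩
    · rw [orderOf_pow' _ (Nat.two_pow_pos k).ne', e, Nat.gcd_eq_right (Dvd.intro r rfl),
        Nat.mul_div_cancel_left _ (Nat.two_pow_pos k)]
      exact hr

end free

section core

variable {H : Type u} [Group H] [Finite H] (D : LocalHyp H)

/-- An element of odd order in a two-group is trivial. -/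
theorem eq_one_of_odd {P : Subgroup H} (hP : IsPGroup 2 P) {x : H} (hx : x ∈ P) (ho : Odd (orderOf x)) : x = 1 := by
  obtain ⟨k, hk⟩ := (IsPGroup.iff_orderOf (p := 2) (G := P)).1 hP ⟨x, hx⟩
  rw [Subgroup.orderOf_mk] at hk
  rw [hk] at ho
  rcases k with _ | k
  · rw [pow_zero, orderOf_eq_one_iff] at hk; exact hk
  · exact absurd ho (Nat.not_odd_iff_even.2 (by rw [pow_succ]; exact even_two.mul_left _))

theorem odd_of_card_odd {K : Subgroup H} (hK : Odd (Nat.card K)) {x : H} (hx : x ∈ K) : Odd (orderOf x) :=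
  hK.of_dvd_nat (Subgroup.orderOf_dvd_natCard K hx)

namespace LocalHyp

theorem range_isPGroup : IsPGroup 2 D.ι.range :=
  IsPGroup.of_card (n := 6) (by rw [Nat.card_congr (MonoidHom.ofInjective D.inj).toEquiv.symm, M8.card_M8]; rfl)

theorem exists_ι_of_two {P : Subgroup H} [P.Normal] (hP : IsPGroup 2 P) {x : H} (hx : x ∈ P) :
    ∃ q, D.ι q = x := by
  haveI : Fact (Nat.Prime 2) := ⟨Nat.prime_two⟩
  have hle : P ≤ Cfsg.pCore 2 H := le_sSup ⟨inferInstance, hP⟩
  have h2 := Cfsg.Lib.Coprime.pCore_le_sylow 2 (D.range_isPGroup.toSylow D.sylow) (hle hx)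
  exact h2

/-- The two-core. -/
def R (_D : LocalHyp H) : Subgroup H := Cfsg.pCore 2 H

instance R_normal : (D.R).Normal := by unfold R; infer_instance

theorem R_isPGroup : IsPGroup 2 D.R := by
  haveI : Fact (Nat.Prime 2) := ⟨Nat.prime_two⟩
  exact Cfsg.Lib.Components.isPGroup_pCore 2

theorem le_R {P : Subgroup H} [P.Normal] (hP : IsPGroup 2 P) : P ≤ D.R := le_sSup ⟨inferInstance, hP⟩

theorem R_le_range : D.R ≤ D.ι.range := fun _ hx => D.exists_ι_of_two D.R_isPGroup hx

/-- The two-core contains its centraliser. -/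
theorem cent_R : Subgroup.centralizer (D.R : Set H) ≤ D.R := by
  haveI : Fact (Nat.Prime 2) := ⟨Nat.prime_two⟩
  haveI : Group.IsSolvable H := D.solv
  exact Cfsg.Lib.Coprime.centralizer_pCore_le 2 D.core

theorem eq_one_of_cent_R {g : H} (hg : Odd (orderOf g)) (hc : ∀ r ∈ D.R, r * g = g * r) : g = 1 :=
  eq_one_of_odd D.R_isPGroup (D.cent_R (Subgroup.mem_centralizer_iff.2 hc)) hg

/-- An element of odd order centralising a subgroup which contains its centraliser in the two-core is trivial. -/
theorem eq_one_of_cent {N : Subgroup H} [N.Normal]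
    (hself : ∀ r ∈ D.R, (∀ n ∈ N, n * r = r * n) → r ∈ N) {g : H} (hg : Odd (orderOf g))
    (hc : ∀ n ∈ N, n * g = g * n) : g = 1 := by
  refine D.eq_one_of_cent_R hg fun r hr => ?_
  set c := g * r * g⁻¹ * r⁻¹ with hcdef
  have hcR : c ∈ D.R := mul_mem (D.R_normal.conj_mem r hr g) (inv_mem hr)
  have hcN : c ∈ N := by
    refine hself c hcR fun n hn => ?_
    have hn' : r⁻¹ * n * r ∈ N := by
      have h := Subgroup.Normal.conj_mem (inferInstance : N.Normal) n hn r⁻¹
      rwa [inv_inv] at h
    have h1 := hc _ hn'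
    have h2 := hc n hn
    rw [hcdef]
    calc n * (g * r * g⁻¹ * r⁻¹) = g * (n * r) * g⁻¹ * r⁻¹ := by
          simp only [← mul_assoc]; rw [h2]
      _ = g * r * ((r⁻¹ * n * r) * g⁻¹) * r⁻¹ := by group
      _ = g * r * (g⁻¹ * (r⁻¹ * n * r)) * r⁻¹ := by
          rw [show r⁻¹ * n * r * g⁻¹ = g⁻¹ * (r⁻¹ * n * r) from (Commute.inv_right h1).eq]
      _ = g * r * g⁻¹ * r⁻¹ * n := by group
  have hgc : g * c = c * g := (hc c hcN).symm
  have hgr : g * r * g⁻¹ = c * r := by rw [hcdef]; group
  have hpow : ∀ n : ℕ, g ^ n * r * (g ^ n)⁻¹ = c ^ n * r := by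
    intro n
    induction n with
    | zero => simp
    | succ n ih =>
      rw [pow_succ', show g * g ^ n * r * (g * g ^ n)⁻¹ = g * (g ^ n * r * (g ^ n)⁻¹) * g⁻¹ by group, ih,
        show g * (c ^ n * r) * g⁻¹ = g * c ^ n * g⁻¹ * (g * r * g⁻¹) by group, hgr,
        show g * c ^ n * g⁻¹ = c ^ n from by rw [(Commute.pow_right hgc n).eq, mul_inv_cancel_right],
        ← mul_assoc, pow_succ]
  have h := hpow (orderOf g)
  rw [pow_orderOf_eq_one, one_mul, inv_one, mul_one, eq_comm, mul_eq_right] at h
  have hc1 : c = 1 := eq_one_of_odd D.R_isPGroup hcR (hg.of_dvd_nat (orderOf_dvd_of_pow_eq_one h))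
  rw [hc1, one_mul, mul_inv_eq_iff_eq_mul] at hgr
  exact hgr.symm

end LocalHyp

end core

end Cfsg.Lib.AltEightSolv
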