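import Cfsg.Agent.AltEightSolv.CaseNine

/-!
# Recognition from a solvable centraliser of a central involution, Sylow subgroup of type `A₈`
-/

set_option autoImplicit false
set_option linter.unusedSectionVars false

namespace Cfsg.Lib.AltEightSolv

universe u

/-- The classification from the three shapes of the centraliser. -/
theorem recognition {G : Type u} [Group G] [Finite G] (hO2 : Cfsg.pResidual 2 G = ⊤)
    (hcore2 : Cfsg.pCore 2 G = ⊥) (hodd : Cfsg.oddCore G = ⊥) (c : Typed G)
    (hsol : Group.IsSolvable ↥(Subgroup.centralizer ({c.zG} : Set G))) :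
    Nonempty (G ≃* ↥(alternatingGroup (Fin 8))) ∨ Nonempty (G ≃* ↥(alternatingGroup (Fin 9))) ∨
      (∃ (F : Type) (_ : Field F) (_ : Fintype F), Fintype.card F = 3 ∧ Nonempty (G ≃* Cfsg.PSp 2 F)) := by
  rcases local_shapes (c.loc hsol) with h | h | h
  · exact (shapeA_false_of_orbit c (fun n hn hst hmv => orbit_tri c hn hst hmv) hO2 hcore2 hodd hsol h).elim
  · exact (Assembly.shapeThree_result c hcore2 hodd h).imp id Or.inl
  · exact Or.inr (Or.inr (Assembly.shapeNine_result c hO2 hcore2 hodd h))

end Cfsg.Lib.AltEightSolv
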