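import Mathlib

/-!
# The upper unitriangular group of degree four over the field of two elements

The coordinates are the six entries above the diagonal, `a = (1,2)`, `b = (1,3)`, `c = (1,4)`,
`d = (2,3)`, `e = (2,4)`, `f = (3,4)`.
-/

set_option autoImplicit false

namespace Cfsg.Lib.AltEightSolv

/-- The model of a Sylow 2-subgroup of the alternating group of degree eight. -/
@[ext] structure M8 where
  /-- entry (1,2) -/
  a : Bool
  /-- entry (1,3) -/
  b : Bool
  /-- entry (1,4) -/
  c : Bool
  /-- entry (2,3) -/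
  d : Bool
  /-- entry (2,4) -/
  e : Bool
  /-- entry (3,4) -/
  f : Bool
deriving DecidableEq, Fintype

namespace M8

instance : Mul M8 :=
  ⟨fun x y => ⟨x.a ^^ y.a, x.b ^^ y.b ^^ (x.a && y.d), x.c ^^ y.c ^^ (x.a && y.e) ^^ (x.b && y.f),
    x.d ^^ y.d, x.e ^^ y.e ^^ (x.d && y.f), x.f ^^ y.f⟩⟩

instance : One M8 := ⟨⟨false, false, false, false, false, false⟩⟩

instance : Inv M8 :=
  ⟨fun x => ⟨x.a, x.b ^^ (x.a && x.d), x.c ^^ (x.a && x.e) ^^ (x.b && x.f) ^^ (x.a && x.d && x.f),
    x.d, x.e ^^ (x.d && x.f), x.f⟩⟩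

theorem mul_def (x y : M8) :
    x * y = ⟨x.a ^^ y.a, x.b ^^ y.b ^^ (x.a && y.d), x.c ^^ y.c ^^ (x.a && y.e) ^^ (x.b && y.f),
      x.d ^^ y.d, x.e ^^ y.e ^^ (x.d && y.f), x.f ^^ y.f⟩ := rfl

theorem one_def : (1 : M8) = ⟨false, false, false, false, false, false⟩ := rfl

theorem mul_assoc' (x y z : M8) : x * y * z = x * (y * z) := by
  obtain ⟨a, b, c, d, e, f⟩ := x
  obtain ⟨A, B, C, D, E, F⟩ := y
  obtain ⟨a', b', c', d', e', f'⟩ := z
  simp only [mul_def, M8.mk.injEq, Bool.and_xor_distrib_left, Bool.and_xor_distrib_right, Bool.and_assoc]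
  refine ⟨?_, ?_, ?_, ?_, ?_, ?_⟩ <;> simp only [Bool.xor_comm, Bool.xor_left_comm, Bool.xor_assoc]

instance : Group M8 where
  mul_assoc := mul_assoc'
  one_mul x := by obtain ⟨a, b, c, d, e, f⟩ := x; simp [mul_def, one_def]
  mul_one x := by obtain ⟨a, b, c, d, e, f⟩ := x; simp [mul_def, one_def]
  inv_mul_cancel x := by
    obtain ⟨a, b, c, d, e, f⟩ := x
    show (⟨a, b ^^ (a && d), c ^^ (a && e) ^^ (b && f) ^^ (a && d && f), d, e ^^ (d && f), f⟩ : M8) *
      ⟨a, b, c, d, e, f⟩ = 1
    cases a <;> cases b <;> cases c <;> cases d <;> cases e <;> cases f <;> rfl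

theorem card_M8 : Nat.card M8 = 64 := by
  rw [Nat.card_eq_fintype_card]; rfl

/-- The central involution. -/
def z : M8 := ⟨false, false, true, false, false, false⟩
/-- The generator in position (1,2). -/
def ga : M8 := ⟨true, false, false, false, false, false⟩
/-- The entry (1,3). -/
def gb : M8 := ⟨false, true, false, false, false, false⟩
/-- The generator in position (2,3). -/
def gd : M8 := ⟨false, false, false, true, false, false⟩
/-- The entry (2,4). -/
def ge : M8 := ⟨false, false, false, false, true, false⟩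
/-- The generator in position (3,4). -/
def gf : M8 := ⟨false, false, false, false, false, true⟩

/-- The elementary abelian subgroup of order sixteen. -/
abbrev InA (q : M8) : Prop := q.a = false ∧ q.f = false
/-- The extraspecial subgroup of order thirty-two. -/
abbrev InQ (q : M8) : Prop := q.d = false

theorem center_eq : ∀ q : M8, (q * ga = ga * q ∧ q * gd = gd * q ∧ q * gf = gf * q) → q = 1 ∨ q = z := by
  decide +kernel

theorem z_central : ∀ q : M8, q * z = z * q := by decide +kernel

theorem z_facts : z * z = 1 ∧ z ≠ 1 ∧ InA z ∧ InQ z := by decide +kernel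

theorem inA_mul : ∀ p q : M8, InA p → InA q → InA (p * q) ∧ p * q = q * p := by decide +kernel
theorem inA_sq : ∀ p : M8, InA p → p * p = 1 ∧ InA p⁻¹ := by decide +kernel
theorem inA_conj : ∀ g p : M8, InA p → InA (g * p * g⁻¹) := by decide +kernel
theorem inQ_mul : ∀ p q : M8, InQ p → InQ q → InQ (p * q) := by decide +kernel
theorem inQ_conj : ∀ g p : M8, InQ p → InQ (g * p * g⁻¹) ∧ InQ p⁻¹ := by decide +kernel

/-- An elementary abelian set of more than eight elements lies in `A`: a commuting set of involutions with an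
element outside `A` has at most eight elements. -/
theorem cent_outside : ∀ x : M8, x * x = 1 → ¬ InA x →
    (Finset.univ.filter fun q : M8 => x * q = q * x ∧ q * q = 1 ∧ InA q).card ≤ 4 := by decide +kernel

/-- The elementary abelian subgroup of order sixteen, as a subgroup. -/
def A : Subgroup M8 where
  carrier := {q | InA q}
  one_mem' := ⟨rfl, rfl⟩
  mul_mem' := fun hp hq => (inA_mul _ _ hp hq).1
  inv_mem' := fun {p} hp => (inA_sq p hp).2

/-- The extraspecial subgroup, as a subgroup. -/
def Q : Subgroup M8 where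
  carrier := {q | InQ q}
  one_mem' := rfl
  mul_mem' := fun hp hq => inQ_mul _ _ hp hq
  inv_mem' := fun {p} hp => (inQ_conj 1 p hp).2

theorem mem_A {q : M8} : q ∈ A ↔ InA q := Iff.rfl
theorem mem_Q {q : M8} : q ∈ Q ↔ InQ q := Iff.rfl

end M8

end Cfsg.Lib.AltEightSolv
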