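import Cfsg.Agent.AltEightSolv.Auto

/-!
# Classes inside `A` and their behaviour under the normaliser
-/

set_option autoImplicit false
set_option linter.style.haveILetI false
set_option linter.unusedSectionVars false
set_option maxRecDepth 100000

namespace Cfsg.Lib.AltEightSolv

open Subgroup

/-- A representative of a class of size four in `A`. -/
def rep4 (k : Bool) : M8 := ⟨false, false, k, true, false, false⟩

/-- The six elements of the three pairs. -/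
abbrev Pairs (q : M8) : Prop := M8.InA q ∧ q ≠ 1 ∧ q ≠ M8.z ∧ q.d = false

theorem class_cases : ∀ q : M8, M8.InA q → q ≠ 1 →
    q = M8.z ∨ (∃ i, q = pE i ∨ q = M8.z * pE i) ∨ ∃ k, Four k q := by decide +kernel

theorem pair_facts : ∀ i : Fin 3, M8.InA (pE i) ∧ pE i ≠ 1 ∧ pE i ≠ M8.z ∧ (pE i).d = false ∧
    M8.InA (M8.z * pE i) ∧ M8.z * pE i ≠ 1 ∧ M8.z * pE i ≠ M8.z ∧ (M8.z * pE i).d = false ∧
    pE i * (M8.z * pE i) = M8.z ∧ pE i ≠ M8.z * pE i ∧ ∃ g : M8, g * pE i * g⁻¹ = M8.z * pE i := by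
  decide +kernel

theorem pairs_iff : ∀ q : M8, Pairs q ↔ ∃ i, q = pE i ∨ q = M8.z * pE i := by decide +kernel

theorem pairs_prod : ∀ p : M8, Pairs p → ∀ q : M8, Pairs q → p ≠ q → Pairs (p * q) ∨ p * q = M8.z := by
  decide +kernel

theorem four_facts : ∀ k : Bool, Four k (rep4 k) ∧ rep4 k ≠ M8.z ∧ rep4 k ≠ 1 ∧
    ∀ q : M8, Four k q → q ≠ 1 ∧ q ≠ M8.z ∧ ¬ Pairs q ∧ ¬ Four (!k) q ∧ ∃ g : M8, g * rep4 k * g⁻¹ = q := by
  decide +kernel

theorem pair_inE : ∀ i : Fin 3, ∀ q : M8, M8.InA q → q ≠ 1 →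
    (InE i q ↔ q = M8.z ∨ q = pE i ∨ q = M8.z * pE i) := by decide +kernel

/-- A choice of classes, as a Boolean function on `A`. -/
def selA (p0 p1 p2 f0 f1 : Bool) (q : M8) : Bool :=
  decide (M8.InA q) && (decide (q = M8.z) || (p0 && decide (q = pE 0 ∨ q = M8.z * pE 0)) ||
    (p1 && decide (q = pE 1 ∨ q = M8.z * pE 1)) || (p2 && decide (q = pE 2 ∨ q = M8.z * pE 2)) ||
    (f0 && decide (Four false q)) || (f1 && decide (Four true q)))

/-- The size of a choice of classes. -/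
def selN (p0 p1 p2 f0 f1 : Bool) : ℕ :=
  1 + 2 * p0.toNat + 2 * p1.toNat + 2 * p2.toNat + 4 * f0.toNat + 4 * f1.toNat

theorem selA_card : ∀ p0 p1 p2 f0 f1 : Bool,
    (Finset.univ.filter fun q : M8 => selA p0 p1 p2 f0 f1 q = true).card = selN p0 p1 p2 f0 f1 := by
  decide +kernel

theorem selA_spec : ∀ p : Fin 3 → Bool, ∀ f : Bool → Bool, ∀ q : M8,
    selA (p 0) (p 1) (p 2) (f false) (f true) q = true ↔
      M8.InA q ∧ (q = M8.z ∨ (∃ i, (q = pE i ∨ q = M8.z * pE i) ∧ p i = true) ∨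
        ∃ k, Four k q ∧ f k = true) := by
  intro p f q
  simp only [selA, Bool.and_eq_true, Bool.or_eq_true, decide_eq_true_eq, Bool.exists_bool, Fin.exists_fin_succ,
    Fin.exists_fin_zero, or_false]
  simp only [show (Fin.succ 0 : Fin 3) = 1 from rfl, show (Fin.succ 1 : Fin 3) = 2 from rfl,
    show ((0 : Fin 2).succ : Fin 3) = 1 from rfl]
  tauto

set_option synthInstance.maxSize 4096 in
set_option synthInstance.maxHeartbeats 400000 in
theorem selN_cases : ∀ p0 p1 p2 f0 f1 : Bool,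
    (selN p0 p1 p2 f0 f1 % 5 = 0 ∨ selN p0 p1 p2 f0 f1 % 7 = 0 ∨ selN p0 p1 p2 f0 f1 % 11 = 0 ∨
      selN p0 p1 p2 f0 f1 % 13 = 0) ∨
    (p0 = false ∧ p1 = false ∧ p2 = false ∧ f0 = false ∧ f1 = false) ∨
    (p0 = false ∧ p1 = false ∧ p2 = false ∧ f0 = true ∧ f1 = true) ∨
    (f0 = false ∧ f1 = false ∧ ((p0 = true ∧ p1 = false ∧ p2 = false) ∨ (p0 = false ∧ p1 = true ∧ p2 = false) ∨
      (p0 = false ∧ p1 = false ∧ p2 = true))) ∨
    (f0 = (!f1) ∧ ((p0 = false ∧ p1 = true ∧ p2 = true) ∨ (p0 = true ∧ p1 = false ∧ p2 = true) ∨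
      (p0 = true ∧ p1 = true ∧ p2 = false))) := by decide +kernel

theorem selN_le : ∀ p0 p1 p2 f0 f1 : Bool, selN p0 p1 p2 f0 f1 ≤ 15 ∧ Odd (selN p0 p1 p2 f0 f1) := by
  decide +kernel

universe u

variable {G : Type u} [Group G] [Finite G] (c : Typed G)

namespace Typed

theorem ι_conj_inA {n : G} (hn : n ∈ c.NN) {q : M8} (hq : M8.InA q) :
    ∃ q', M8.InA q' ∧ n * c.ι q * n⁻¹ = c.ι q' := by
  obtain ⟨q', hq', he⟩ := c.mem_Ag.1 ((mem_normalizer_iff.1 hn _).1 (c.mem_Ag.2 ⟨q, hq, rfl⟩))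
  exact ⟨q', hq', he.symm⟩

theorem zt_z : ZT c M8.z := IsConj.refl _

theorem zt_congr {p q : M8} {g : G} (h : g * c.ι p * g⁻¹ = c.ι q) : ZT c p ↔ ZT c q :=
  ⟨fun hp => hp.trans (isConj_iff.2 ⟨g, h⟩), fun hq => hq.trans (isConj_iff.2 ⟨g, h⟩).symm⟩

theorem zt_congr_S {p q : M8} (h : ∃ g : M8, g * p * g⁻¹ = q) : ZT c p ↔ ZT c q := by
  obtain ⟨g, rfl⟩ := h
  exact c.zt_congr (g := c.ι g) (by rw [← map_inv, ← map_mul, ← map_mul])

theorem zt_fused {q : M8} (hq : M8.InA q) (h : ZT c q) : NFused c M8.z q := by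
  obtain ⟨g, hg⟩ := isConj_iff.1 h
  obtain ⟨n, hn, hne⟩ := c.fusion_Ag (x := c.zG) (g := g) (c.mem_Ag.2 ⟨_, M8.z_facts.2.2.1, rfl⟩)
    (hg ▸ c.mem_Ag.2 ⟨q, hq, rfl⟩)
  exact ⟨n, hn, hne.trans hg⟩

theorem nfused_S {p q : M8} (h : ∃ g : M8, g * p * g⁻¹ = q) : NFused c p q := by
  obtain ⟨g, rfl⟩ := h
  exact ⟨c.ι g, c.ι_NN g, by rw [← map_inv, ← map_mul, ← map_mul]⟩

theorem nfused_refl (p : M8) : NFused c p p := ⟨1, one_mem _, by group⟩

theorem nfused_symm {p q : M8} (h : NFused c p q) : NFused c q p := by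
  obtain ⟨n, hn, e⟩ := h
  exact ⟨n⁻¹, inv_mem hn, by rw [← e]; group⟩

theorem nfused_trans {p q r : M8} (h : NFused c p q) (h' : NFused c q r) : NFused c p r := by
  obtain ⟨n, hn, e⟩ := h
  obtain ⟨m, hm, e'⟩ := h'
  exact ⟨m * n, mul_mem hm hn, by rw [← e', ← e]; group⟩

theorem zt_pair (i : Fin 3) {q : M8} (h : q = pE i ∨ q = M8.z * pE i) : ZT c q ↔ ZT c (pE i) := by
  rcases h with rfl | rfl
  · exact Iff.rfl
  · exact (c.zt_congr_S (pair_facts i).2.2.2.2.2.2.2.2.2.2).symm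

theorem nfused_pair (i : Fin 3) {q : M8} (h : q = pE i ∨ q = M8.z * pE i) : NFused c (pE i) q := by
  rcases h with rfl | rfl
  · exact c.nfused_refl _
  · exact c.nfused_S (pair_facts i).2.2.2.2.2.2.2.2.2.2

theorem zt_four {k : Bool} {q : M8} (h : Four k q) : ZT c q ↔ ZT c (rep4 k) :=
  (c.zt_congr_S ((four_facts k).2.2.2 q h).2.2.2.2).symm

theorem nfused_four {k : Bool} {q : M8} (h : Four k q) : NFused c (rep4 k) q :=
  c.nfused_S ((four_facts k).2.2.2 q h).2.2.2.2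

/-- An invariant set of pairs forces the normaliser of `A` to fix `z`. -/
theorem fix_of_pairs (hinv : ∀ p q, NFused c p q → Pairs p → Pairs q) {q : M8} (h : NFused c M8.z q) :
    q = M8.z := by
  obtain ⟨n, hn, e⟩ := h
  have hz : ¬ Pairs q := fun hq => (hinv q M8.z (c.nfused_symm ⟨n, hn, e⟩) hq).2.2.1 rfl
  obtain ⟨hA, h1, hz', hd, hA', h1', hz'', hd', hprod, hne, -⟩ := pair_facts 0
  obtain ⟨p1, hp1, e1⟩ := c.ι_conj_inA hn hA
  obtain ⟨p2, hp2, e2⟩ := c.ι_conj_inA hn hA'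
  have hP1 := hinv _ p1 ⟨n, hn, e1⟩ ⟨hA, h1, hz', hd⟩
  have hP2 := hinv _ p2 ⟨n, hn, e2⟩ ⟨hA', h1', hz'', hd'⟩
  have hpq : p1 * p2 = q := c.ι_inj (by
    rw [map_mul, ← e1, ← e2, ← e, conj_mul, ← map_mul, hprod])
  rcases pairs_prod p1 hP1 p2 hP2 (fun h => hne (c.ι_inj (mul_left_cancel (mul_right_cancel
    (e1.trans ((congrArg c.ι h).trans e2.symm)))))) with h' | h'
  · exact absurd (hpq ▸ h') hz
  · exact hpq ▸ h'

/-- An invariant pair forces the normaliser of `A` to fix `z`. -/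
theorem fix_of_pair (i : Fin 3) (hinv : ∀ p q, NFused c p q → (p = pE i ∨ p = M8.z * pE i) →
    (q = pE i ∨ q = M8.z * pE i)) {q : M8} (h : NFused c M8.z q) : q = M8.z := by
  obtain ⟨n, hn, e⟩ := h
  obtain ⟨hA, h1, hz', hd, hA', h1', hz'', hd', hprod, hne, -⟩ := pair_facts i
  obtain ⟨p1, hp1, e1⟩ := c.ι_conj_inA hn hA
  obtain ⟨p2, hp2, e2⟩ := c.ι_conj_inA hn hA'
  have hP1 := hinv _ p1 ⟨n, hn, e1⟩ (Or.inl rfl)
  have hP2 := hinv _ p2 ⟨n, hn, e2⟩ (Or.inr rfl)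
  have hne' : p1 ≠ p2 := fun h => hne (c.ι_inj (mul_left_cancel (mul_right_cancel
    (e1.trans ((congrArg c.ι h).trans e2.symm)))))
  have hpq : p1 * p2 = q := c.ι_inj (by rw [map_mul, ← e1, ← e2, ← e, conj_mul, ← map_mul, hprod])
  rcases hP1 with rfl | rfl <;> rcases hP2 with rfl | rfl
  · exact absurd rfl hne'
  · exact hpq ▸ hprod
  · rw [← hpq, (M8.inA_mul _ _ hA' hA).2, hprod]
  · exact absurd rfl hne'

end Typed

end Cfsg.Lib.AltEightSolv
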