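import Cfsg.Agent.AltEightSolv.Centre

/-!
# The fusion patterns on the involutions of `A`

Only definitions: they connect the orbit analysis with the case analysis and the triviality of the core.
-/

set_option autoImplicit false
set_option linter.unusedSectionVars false

namespace Cfsg.Lib.AltEightSolv

open Subgroup

universe u

/-- One of the two classes of size four inside `A`. -/
abbrev Four (k : Bool) (q : M8) : Prop := M8.InA q ∧ q.d = true ∧ (q.c ^^ (q.b && q.e)) = k

/-- The six non-central type involutions in the pattern with nine central-type involutions in `A`. -/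
abbrev Six (j : Fin 3) (k : Bool) (q : M8) : Prop := q = pE j ∨ q = M8.z * pE j ∨ Four k q

variable {G : Type u} [Group G] [Finite G] (c : Typed G)

/-- An element of the model is of central type. -/
def ZT (q : M8) : Prop := IsConj c.zG (c.ι q)

/-- Two elements are fused by the normaliser of `A`. -/
def NFused (p q : M8) : Prop := ∃ n ∈ normalizer (c.Ag : Set G), n * c.ι p * n⁻¹ = c.ι q

/-- An element of the centraliser of `z` normalising `A` and permuting the three outer cosets cyclically. -/
def TriG (n : G) : Prop :=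
  n ∈ normalizer (c.Ag : Set G) ∧ n * c.zG * n⁻¹ = c.zG ∧
    ∀ q : M8, ∃ q' : M8, n * c.ι q * n⁻¹ = c.ι q' ∧ q'.a = q.f ∧ q'.f = (q.a ^^ q.f)

/-- The stabiliser of `z` in the normaliser of `A` acts on `A` as the Sylow subgroup does. -/
def StabS : Prop :=
  ∀ g ∈ normalizer (c.Ag : Set G), g * c.zG * g⁻¹ = c.zG →
    ∃ q : M8, ∀ x ∈ c.Ag, g * x * g⁻¹ = c.ι q * x * (c.ι q)⁻¹

/-- The stabiliser of `z` in the normaliser of `A` acts on `A` as the Sylow subgroup extended by `n`. -/
def StabTri (n : G) : Prop :=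
  ∀ g ∈ normalizer (c.Ag : Set G), g * c.zG * g⁻¹ = c.zG →
    ∃ (q : M8) (i : ℕ), ∀ x ∈ c.Ag, g * x * g⁻¹ = c.ι q * n ^ i * x * (c.ι q * n ^ i)⁻¹

/-- Nine involutions of central type in `A`. -/
structure PatThree (j : Fin 3) (k : Bool) : Prop where
  zt : ∀ q, M8.InA q → q ≠ 1 → (ZT c q ↔ ¬ Six j k q)
  fusedZ : ∀ q, M8.InA q → q ≠ 1 → ¬ Six j k q → NFused c M8.z q
  fusedB : ∀ q, Six j k q → NFused c (pE j) q

/-- Five involutions of central type in `A`. -/
structure PatNine (k : Bool) : Prop where
  zt : ∀ q, M8.InA q → q ≠ 1 → (ZT c q ↔ q = M8.z ∨ Four k q)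
  fusedZ : ∀ q, Four k q → NFused c M8.z q
  fusedB : ∀ q, M8.InA q → q ≠ 1 → q ≠ M8.z → ¬ Four k q → NFused c M8.gb q

end Cfsg.Lib.AltEightSolv
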