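import Cfsg.Agent.AltEightSolv.LocalTools

/-!
# The shape in which the elementary subgroup of order sixteen is normal
-/

set_option autoImplicit false
set_option linter.unusedSectionVars false
set_option linter.style.haveILetI false

namespace Cfsg.Lib.AltEightSolv

namespace M8

theorem cent_A : ∀ q : M8, (∀ p, InA p → q * p = p * q) → InA q := by decide +kernel

theorem cent_A_few : ∀ q : M8, ¬ InA q → Fintype.card {p : M8 // InA p ∧ q * p = p * q} ≤ 4 := by decide +kernel

theorem two_outside : ∀ x : M8, x * x = 1 → ¬ InA x → ∀ y : M8, y * y = 1 → ¬ InA y → ¬ InA (x * y) →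
    x * y = y * x → Fintype.card {p : M8 // InA p ∧ x * p = p * x ∧ y * p = p * y} ≤ 2 := by decide +kernel

theorem coset_A : ∀ x y : M8, ¬ InA x → ¬ InA y → ¬ InA (x * y) →
    ∀ q : M8, InA q ∨ InA (x * q) ∨ InA (y * q) ∨ InA (x * y * q) := by decide +kernel

theorem card_InA : Fintype.card {p : M8 // InA p} = 16 := by decide +kernel

theorem gens_A : ¬ InA ga ∧ ¬ InA gf ∧ ¬ InA (ga * gf) ∧ ga * ga = 1 ∧ gf * gf = 1 := by decide +kernel

/-- The class of an element modulo `A`. -/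
def cls (q : M8) : Bool × Bool := (q.a, q.f)

theorem cls_mul : ∀ p q : M8, cls (p * q) = ((cls p).1 ^^ (cls q).1, (cls p).2 ^^ (cls q).2) := by decide +kernel

theorem cls_zero : ∀ q : M8, cls q = (false, false) ↔ InA q := by decide +kernel

theorem cls_eq_iff : ∀ p q : M8, cls p = cls q ↔ InA (p * q) := by decide +kernel

theorem cls_split : ∀ q : M8,
    InA (cond q.a ga 1 * cond q.f gf 1 * q) := by decide +kernel

/-- An elementary abelian subgroup of order sixteen is `A`. -/
theorem eq_A_of_elementary (W : Subgroup M8) (hexp : ∀ x ∈ W, x * x = 1) (hcard : Nat.card W = 16) :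
    W = A := by
  classical
  have hcomm : ∀ x ∈ W, ∀ y ∈ W, x * y = y * x := fun x hx y hy => by
    have h := hexp _ (mul_mem hx hy)
    calc x * y = x * (x * y * (x * y)) * y := by rw [h, mul_one]
      _ = x * x * (y * x) * (y * y) := by simp only [mul_assoc]
      _ = y * x := by rw [hexp x hx, hexp y hy, one_mul, mul_one]
  have hsub : ∀ x ∈ W, InA x := by
    intro x hxW
    by_contra hxA
    have hWA : Nat.card {p : M8 // InA p ∧ p ∈ W} ≤ 4 := by
      refine le_trans ?_ (M8.cent_A_few x hxA)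
      rw [← Nat.card_eq_fintype_card]
      exact Nat.card_le_card_of_injective
        (fun p : {p : M8 // InA p ∧ p ∈ W} =>
          (⟨p.1, p.2.1, hcomm x hxW p.1 p.2.2⟩ : {p : M8 // InA p ∧ x * p = p * x}))
        fun a b e => Subtype.ext (congrArg Subtype.val e : _)
    by_cases hy : ∃ y ∈ W, ¬ InA y ∧ ¬ InA (x * y)
    · obtain ⟨y, hyW, hyA, hxyA⟩ := hy
      have hWA2 : Nat.card {p : M8 // InA p ∧ p ∈ W} ≤ 2 := by
        refine le_trans ?_ (M8.two_outside x (hexp x hxW) hxA y (hexp y hyW) hyA hxyA (hcomm x hxW y hyW))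
        rw [← Nat.card_eq_fintype_card]
        exact Nat.card_le_card_of_injective
          (fun p : {p : M8 // InA p ∧ p ∈ W} =>
            (⟨p.1, p.2.1, hcomm x hxW p.1 p.2.2, hcomm y hyW p.1 p.2.2⟩ :
              {p : M8 // InA p ∧ x * p = p * x ∧ y * p = p * y}))
          fun a b e => Subtype.ext (congrArg Subtype.val e : _)
      let rep : Bool × Bool → M8 := fun c => cond c.1 x 1 * cond c.2 y 1
      have hrepW : ∀ c, rep c ∈ W := by
        rintro ⟨_ | _, _ | _⟩ <;> simp [rep, hxW, hyW, mul_mem hxW hyW, one_mem]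
      have hex : ∀ q : W, ∃ c, InA (rep c * q) := fun q => by
        rcases M8.coset_A x y hxA hyA hxyA q with e | e | e | e
        · exact ⟨(false, false), by simpa [rep] using e⟩
        · exact ⟨(true, false), by simpa [rep] using e⟩
        · exact ⟨(false, true), by simpa [rep] using e⟩
        · exact ⟨(true, true), by simpa [rep] using e⟩
      choose c hc using hex
      let f : W → (Bool × Bool) × {p : M8 // InA p ∧ p ∈ W} :=
        fun q => (c q, ⟨rep (c q) * q, hc q, mul_mem (hrepW _) q.2⟩)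
      have hf : Function.Injective f := fun a b e => by
        have e1 : c a = c b := (Prod.mk.injEq _ _ _ _ ▸ e).1
        have e2 : rep (c a) * (a : M8) = rep (c b) * b := congrArg Subtype.val (Prod.mk.injEq _ _ _ _ ▸ e).2
        rw [e1] at e2
        exact Subtype.ext (mul_left_cancel e2)
      have := Nat.card_le_card_of_injective f hf
      rw [hcard, Nat.card_prod, Nat.card_prod, Nat.card_eq_fintype_card (α := Bool), Fintype.card_bool] at this
      omega
    · push_neg at hy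
      have hex : ∀ q : W, ∃ c : Bool, InA (cond c x 1 * q) := fun q => by
        by_cases h : InA (q : M8)
        · exact ⟨false, by simpa using h⟩
        · exact ⟨true, hy q q.2 h⟩
      choose c hc using hex
      have hcW : ∀ b : Bool, cond b x 1 ∈ W := fun b => by cases b <;> simp [hxW, one_mem]
      let f : W → Bool × {p : M8 // InA p ∧ p ∈ W} := fun q =>
        (c q, ⟨cond (c q) x 1 * q, hc q, mul_mem (hcW _) q.2⟩)
      have hf : Function.Injective f := fun a b e => by
        have e1 : c a = c b := (Prod.mk.injEq _ _ _ _ ▸ e).1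
        have e2 : cond (c a) x 1 * (a : M8) = cond (c b) x 1 * b := congrArg Subtype.val (Prod.mk.injEq _ _ _ _ ▸ e).2
        rw [e1] at e2
        exact Subtype.ext (mul_left_cancel e2)
      have := Nat.card_le_card_of_injective f hf
      rw [hcard, Nat.card_prod, Nat.card_eq_fintype_card (α := Bool), Fintype.card_bool] at this
      omega
  refine Subgroup.eq_of_le_of_card_ge hsub (le_of_eq ?_)
  rw [hcard]
  exact (Nat.card_eq_fintype_card (α := {p : M8 // InA p})).trans M8.card_InA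

end M8

universe u

variable {H : Type u} [Group H] [Finite H] (D : LocalHyp H)

open M8 (InA cls)

theorem card_map_A : Nat.card (M8.A.map D.ι) = 16 := by
  rw [Subgroup.card_map_of_injective D.inj]
  exact (Nat.card_eq_fintype_card (α := {p : M8 // InA p})).trans M8.card_InA

/-- If the two-core contains `A` then `A` is normal. -/
theorem normal_A_of_le (hle : M8.A.map D.ι ≤ D.R) : (M8.A.map D.ι).Normal := by
  refine ⟨fun x hx g => ?_⟩
  set f := (MulAut.conj g).toMonoidHom
  have hW : ((M8.A.map D.ι).map f).comap D.ι = M8.A := by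
    refine M8.eq_A_of_elementary _ (fun q hq => D.inj ?_) ?_
    · obtain ⟨y, ⟨p, hp, rfl⟩, e⟩ := Subgroup.mem_comap.1 hq
      rw [map_mul, ← e, ← map_mul f, ← map_mul D.ι, (M8.inA_sq p hp).1, map_one, map_one]
    · rw [← Subgroup.card_map_of_injective (f := D.ι) (H := _) D.inj, Subgroup.map_comap_eq_self ?_,
        Subgroup.card_map_of_injective (MulEquiv.injective _), card_map_A]
      rintro _ ⟨y, hy, rfl⟩
      exact D.R_le_range (D.R_normal.conj_mem y (hle hy) g)
  have hgx : g * x * g⁻¹ ∈ (M8.A.map D.ι).map f := ⟨x, hx, rfl⟩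
  obtain ⟨q, hq⟩ := D.R_le_range (D.R_normal.conj_mem x (hle hx) g)
  refine ⟨q, ?_, hq⟩
  rw [← hW]
  rw [← hq] at hgx
  exact hgx

section normal

variable [hA : (M8.A.map D.ι).Normal]

include hA

theorem conj_A (g : H) {p : M8} (hp : InA p) : ∃ p', InA p' ∧ D.ι p' = g * D.ι p * g⁻¹ :=
  Subgroup.mem_map.1 (hA.conj_mem _ (Subgroup.mem_map_of_mem D.ι (x := p) hp) g)

/-- An element of odd order centralising `A` is trivial. -/
theorem eq_one_of_cent_A {g : H} (hg : Odd (orderOf g)) (hc : ∀ p, InA p → D.ι p * g = g * D.ι p) : g = 1 := by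
  refine D.eq_one_of_cent (N := M8.A.map D.ι) (fun r hr h => ?_) hg ?_
  · obtain ⟨q, rfl⟩ := D.R_le_range hr
    refine ⟨q, M8.cent_A q fun p hp => D.inj ?_, rfl⟩
    rw [map_mul, map_mul]
    exact (h _ ⟨p, hp, rfl⟩).symm
  · rintro _ ⟨p, hp, rfl⟩
    exact hc p hp

/-- The action on `A`. -/
def actA : H →* MulAut ↥(M8.A.map D.ι) := MulAut.conjNormal

theorem actA_apply (g : H) (x : ↥(M8.A.map D.ι)) : (actA D g x : H) = g * x * g⁻¹ :=
  MulAut.conjNormal_apply g x

theorem actA_eq_one {g : H} (h : actA D g = 1) {p : M8} (hp : InA p) : D.ι p * g = g * D.ι p := by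
  have h' := congrArg (fun f : MulAut _ => ((f ⟨D.ι p, Subgroup.mem_map_of_mem D.ι hp⟩ : ↥(M8.A.map D.ι)) : H)) h
  simp only [actA_apply, MulAut.one_apply] at h'
  exact (mul_inv_eq_iff_eq_mul.1 h').symm

theorem actA_of_mem {g : H} (h : g ∈ M8.A.map D.ι) : actA D g = 1 := by
  obtain ⟨q, hq, rfl⟩ := h
  refine MulEquiv.ext fun x => Subtype.ext ?_
  obtain ⟨_, ⟨p, hp, rfl⟩⟩ := x
  rw [actA_apply, MulAut.one_apply, mul_inv_eq_iff_eq_mul, ← map_mul, ← map_mul, (M8.inA_mul q p hq hp).2]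

theorem actA_ι {q : M8} : actA D (D.ι q) = 1 ↔ InA q := by
  refine ⟨fun h => M8.cent_A q fun p hp => D.inj ?_, fun h => actA_of_mem D (Subgroup.mem_map_of_mem D.ι h)⟩
  rw [map_mul, map_mul]
  exact (actA_eq_one D h hp).symm

/-- The kernel of the action is `A`. -/
theorem actA_ker {g : H} (h : actA D g = 1) : g ∈ M8.A.map D.ι := by
  have hK : IsPGroup 2 (actA D).ker := by
    rw [IsPGroup.iff_orderOf]
    intro x
    obtain ⟨k, r, hr, e⟩ := Nat.exists_eq_two_pow_mul_odd (orderOf_pos (x : H)).ne'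
    refine ⟨k, ?_⟩
    rw [← Subgroup.orderOf_coe]
    have ho : orderOf ((x : H) ^ 2 ^ k) = r := by
      rw [orderOf_pow' _ (Nat.two_pow_pos k).ne', e, Nat.gcd_eq_right (Dvd.intro r rfl),
        Nat.mul_div_cancel_left _ (Nat.two_pow_pos k)]
    have h1 : (x : H) ^ 2 ^ k = 1 := eq_one_of_cent_A D (ho ▸ hr) fun p hp =>
      actA_eq_one D (by rw [map_pow, MonoidHom.mem_ker.1 x.2, one_pow]) hp
    rw [h1, orderOf_one] at ho
    rw [e, ← ho, mul_one]
  obtain ⟨q, rfl⟩ := D.exists_ι_of_two hK (MonoidHom.mem_ker.2 h)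
  exact Subgroup.mem_map_of_mem D.ι ((actA_ι D).1 h)

/-- An element of odd order commuting with an outer element modulo `A` is trivial. -/
theorem eq_one_of_commute {t g : H} (ht2 : t * t ∈ M8.A.map D.ι) (ht : t ∉ M8.A.map D.ι)
    (hg : Odd (orderOf (actA D g))) (hcomm : actA D g * actA D t = actA D t * actA D g) : actA D g = 1 := by
  haveI : Fact (Nat.Prime 2) := ⟨Nat.prime_two⟩
  have ht4 : t ^ 4 = 1 := by
    obtain ⟨q, hq, e⟩ := ht2
    rw [show 4 = 2 * 2 by rfl, pow_mul, pow_two, pow_two, ← e, ← map_mul, (M8.inA_sq q hq).1, map_one]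
  have hp : IsPGroup 2 (Subgroup.zpowers t) := by
    obtain ⟨k, -, hk⟩ := (Nat.dvd_prime_pow Nat.prime_two).1
      (show orderOf t ∣ 2 ^ 2 from orderOf_dvd_of_pow_eq_one ht4)
    exact IsPGroup.of_card (n := k) (by rw [Nat.card_zpowers, hk])
  obtain ⟨P, hP⟩ := hp.exists_le_sylow
  obtain ⟨c, hc⟩ := MulAction.exists_smul_eq H P (D.range_isPGroup.toSylow D.sylow)
  obtain ⟨q, hq⟩ : c * t * c⁻¹ ∈ D.ι.range := by
    have h : c * t * c⁻¹ ∈ ((c • P : Sylow 2 H) : Subgroup H) := by
      rw [Sylow.coe_subgroup_smul]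
      exact ⟨t, hP (Subgroup.mem_zpowers t), rfl⟩
    rw [hc] at h
    exact h
  have hqA : ¬ InA q := fun h => ht <| by
    have h1 := hA.conj_mem _ (Subgroup.mem_map_of_mem D.ι (x := q) h) c⁻¹
    rwa [hq, show c⁻¹ * (c * t * c⁻¹) * c⁻¹⁻¹ = t by group] at h1
  have hexp : ∀ x : ↥(M8.A.map D.ι), x * x = 1 := by
    rintro ⟨_, p, hp, rfl⟩
    exact Subtype.ext (by rw [Subgroup.coe_mul, ← map_mul, (M8.inA_sq p hp).1, map_one, Subgroup.coe_one])
  have hfix : Nat.card {x // actA D t x = x} ≤ 4 := by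
    refine le_trans ?_ (M8.cent_A_few q hqA)
    rw [← Nat.card_eq_fintype_card]
    choose p hp hp' using fun x : {x // actA D t x = x} => Subgroup.mem_map.1 (hA.conj_mem _ x.1.2 c)
    refine Nat.card_le_card_of_injective (fun x => ⟨p x, hp x, D.inj ?_⟩) fun a b e => ?_
    · have h1 : t * (x.1 : H) * t⁻¹ = x.1 := by rw [← actA_apply, x.2]
      rw [map_mul, map_mul, hq, hp']
      calc c * t * c⁻¹ * (c * x.1 * c⁻¹) = c * (t * x.1 * t⁻¹) * c⁻¹ * (c * t * c⁻¹) := by group
        _ = c * x.1 * c⁻¹ * (c * t * c⁻¹) := by rw [h1]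
    · have h1 := congrArg (fun w => D.ι (Subtype.val w)) e
      simp only [hp'] at h1
      exact Subtype.ext (Subtype.ext (mul_left_cancel (mul_right_cancel h1)))
  have hz : ∀ y, actA D y ⟨D.ι M8.z, Subgroup.mem_map_of_mem D.ι M8.z_facts.2.2.1⟩ =
      ⟨D.ι M8.z, Subgroup.mem_map_of_mem D.ι M8.z_facts.2.2.1⟩ := fun y => Subtype.ext (by
    rw [actA_apply, Subgroup.mem_center_iff.1 D.central y, mul_inv_cancel_right])
  refine eq_one_of_small hexp _ _ hcomm hg ?_ hfix _ (fun e => M8.z_facts.2.1 (D.inj ?_)) (hz t) (hz g)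
  · rw [← map_mul, actA_of_mem D ht2]
  · rw [map_one]; exact congrArg Subtype.val e

theorem eq_one_of_odd_commute {t g : H} (ht2 : t * t ∈ M8.A.map D.ι) (ht : t ∉ M8.A.map D.ι)
    (hg : Odd (orderOf g)) (hcomm : actA D g * actA D t = actA D t * actA D g) : g = 1 :=
  eq_one_of_cent_A D hg fun _ hp =>
    actA_eq_one D (eq_one_of_commute D ht2 ht (hg.of_dvd_nat (orderOf_map_dvd _ g)) hcomm) hp

omit hA in
theorem sq_range_mem (q : M8) (hq : cls q ≠ (false, false)) :
    ∃ q' : M8, InA (q * q') ∧ InA (q' * q') ∧ ¬ InA q' := by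
  have : ∀ q : M8, cls q ≠ (false, false) → ∃ q' : M8, InA (q * q') ∧ InA (q' * q') ∧ ¬ InA q' := by
    decide +kernel
  exact this q hq

/-- The Sylow subgroup is normal. -/
theorem range_normal : (D.ι.range).Normal := by
  haveI : Group.IsSolvable H := D.solv
  set X := (actA D).range
  set f : H →* X := (actA D).rangeRestrict
  have hf : Function.Surjective f := MonoidHom.rangeRestrict_surjective _
  haveI : Group.IsSolvable X := Group.isSolvable_of_surjective hf
  have f1 : ∀ {x : H}, f x = 1 ↔ x ∈ M8.A.map D.ι := fun {x} =>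
    ⟨fun h => actA_ker D (congrArg Subtype.val h), fun h => Subtype.ext (actA_of_mem D h)⟩
  have hga : f (D.ι M8.ga) ≠ 1 := fun h => M8.gens_A.1 ((actA_ι D).1 (congrArg Subtype.val h))
  haveI : Nontrivial X := ⟨⟨_, 1, hga⟩⟩
  have hfree : ∀ τ : X, τ * τ = 1 → τ ≠ 1 → ∀ k : X, Odd (orderOf k) → τ * k = k * τ → k = 1 := by
    intro τ hτ hτ1 k hk hc
    obtain ⟨t, rfl⟩ := hf τ
    obtain ⟨g, rfl⟩ := hf k
    refine Subtype.ext (eq_one_of_commute D (t := t) (f1.1 (by rw [map_mul, hτ])) (fun h => hτ1 (f1.2 h)) ?_ ?_)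
    · rwa [← Subgroup.orderOf_coe] at hk
    · exact (congrArg Subtype.val hc).symm
  rcases core_or_unique hfree with ⟨M, hMn, hM1, hM2⟩ | huniq
  · haveI := hMn
    have hker : f.ker = M8.A.map D.ι := Subgroup.ext fun x => f1
    have hA2 : IsPGroup 2 f.ker := by
      rw [hker]; exact IsPGroup.of_card (n := 4) (card_map_A D)
    have hW : IsPGroup 2 (M.comap f) := IsPGroup.comap_of_ker_isPGroup hM2 f hA2
    have hWS : M.comap f ≤ D.ι.range := fun x hx => D.exists_ι_of_two hW hx
    obtain ⟨m, hm, hm1⟩ : ∃ m ∈ M, m ≠ 1 := by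
      by_contra h
      push_neg at h
      exact hM1 (M.eq_bot_iff_forall.2 h)
    obtain ⟨w, rfl⟩ := hf m
    obtain ⟨q, rfl⟩ := hWS (Subgroup.mem_comap.2 hm)
    have hq : ¬ InA q := fun h => hm1 (f1.2 (Subgroup.mem_map_of_mem D.ι h))
    by_cases hall : ∃ q', f (D.ι q') ∈ M ∧ ¬ InA q' ∧ ¬ InA (q * q')
    · obtain ⟨q', hq'M, hq'A, hqq'⟩ := hall
      suffices M.comap f = D.ι.range from this ▸ inferInstance
      refine le_antisymm hWS ?_
      rintro _ ⟨p, rfl⟩
      rw [Subgroup.mem_comap]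
      have h0 : ∀ a, InA a → f (D.ι a) ∈ M := fun a ha => by
        rw [f1.2 (Subgroup.mem_map_of_mem D.ι ha)]; exact one_mem M
      rcases M8.coset_A q q' hq hq'A hqq' p with e | e | e | e
      · exact h0 p e
      all_goals have h := h0 _ e
      all_goals simp only [map_mul] at h
      · exact (Subgroup.mul_mem_cancel_left M hm).1 h
      · exact (Subgroup.mul_mem_cancel_left M hq'M).1 h
      · exact (Subgroup.mul_mem_cancel_left M (mul_mem hm hq'M)).1 h
    · push_neg at hall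
      have hcentral : ∀ g : H, actA D g * actA D (D.ι q) = actA D (D.ι q) * actA D g := by
        intro g
        have hmem : g * D.ι q * g⁻¹ ∈ M.comap f :=
          Subgroup.Normal.conj_mem inferInstance _ (Subgroup.mem_comap.2 hm) g
        obtain ⟨q', e⟩ := hWS hmem
        have hq'A : ¬ InA q' := fun h => hq <| by
          have h1 := hA.conj_mem _ (Subgroup.mem_map_of_mem D.ι (x := q') h) g⁻¹
          rw [e, show g⁻¹ * (g * D.ι q * g⁻¹) * g⁻¹⁻¹ = D.ι q by group] at h1
          obtain ⟨p, hp, ep⟩ := h1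
          exact D.inj ep ▸ hp
        have h1 := hall q' (by rw [e]; exact hmem) hq'A
        have h2 : actA D (D.ι (q * q')) = 1 := (actA_ι D).2 h1
        have h3 : actA D (D.ι q) * actA D (D.ι q) = 1 := by
          rw [← map_mul, ← map_mul, actA_ι]
          have : ∀ q : M8, InA (q * q) := by decide +kernel
          exact this q
        have h4 : actA D (D.ι q') = actA D (D.ι q) := by
          rw [map_mul D.ι, map_mul] at h2
          exact mul_left_cancel (h2.trans h3.symm)
        rw [e, map_mul, map_mul, map_inv, mul_inv_eq_iff_eq_mul] at h4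
        exact h4
      suffices D.ι.range = ⊤ from this ▸ inferInstance
      have hsq : D.ι q * D.ι q ∈ M8.A.map D.ι := by
        have : ∀ q : M8, InA (q * q) := by decide +kernel
        exact ⟨q * q, this q, map_mul _ _ _⟩
      have hnA : D.ι q ∉ M8.A.map D.ι := by
        rintro ⟨p, hp, ep⟩; exact hq (D.inj ep ▸ hp)
      have h2 : IsPGroup 2 (⊤ : Subgroup H) := by
        rw [IsPGroup.iff_orderOf]
        intro x
        obtain ⟨k, r, hr, e⟩ := Nat.exists_eq_two_pow_mul_odd (orderOf_pos (x : H)).ne'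
        refine ⟨k, ?_⟩
        rw [← Subgroup.orderOf_coe]
        have ho : orderOf ((x : H) ^ 2 ^ k) = r := by
          rw [orderOf_pow' _ (Nat.two_pow_pos k).ne', e, Nat.gcd_eq_right (Dvd.intro r rfl),
            Nat.mul_div_cancel_left _ (Nat.two_pow_pos k)]
        rw [eq_one_of_odd_commute D (g := (x : H) ^ 2 ^ k) hsq hnA (ho ▸ hr) (hcentral _), orderOf_one] at ho
        rw [e, ← ho, mul_one]
      exact top_le_iff.1 fun x hx => D.exists_ι_of_two h2 hx
  · exfalso
    refine M8.gens_A.2.2.1 ((actA_ι D).1 ?_)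
    have hT : IsPGroup 2 (D.ι.range.map f) := D.range_isPGroup.map f
    have h2 : ∀ q : M8, q * q = 1 → f (D.ι q) * f (D.ι q) = 1 := fun q hq => by
      rw [← map_mul, ← map_mul, hq, map_one, map_one]
    have hgf : f (D.ι M8.gf) ≠ 1 := fun h => M8.gens_A.2.1 ((actA_ι D).1 (congrArg Subtype.val h))
    have e := huniq _ hT _ ⟨_, ⟨M8.ga, rfl⟩, rfl⟩ _ ⟨_, ⟨M8.gf, rfl⟩, rfl⟩ (h2 _ M8.gens_A.2.2.2.1) hga
      (h2 _ M8.gens_A.2.2.2.2) hgf
    have h3 : f (D.ι (M8.ga * M8.gf)) = 1 := by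
      rw [map_mul, map_mul, ← e, h2 _ M8.gens_A.2.2.2.1]
    exact congrArg Subtype.val h3

/-- If `A` is normal, the shape is the first one. -/
theorem shapeA_of_normal : ShapeA D := by
  refine ⟨hA, ?_⟩
  haveI hS := range_normal D
  have hcS : Nat.card D.ι.range = 64 := by
    rw [Nat.card_congr (MonoidHom.ofInjective D.inj).toEquiv.symm, M8.card_M8]
  have hoddi : Odd D.ι.range.index := Nat.not_even_iff_odd.1 fun h => D.sylow h.two_dvd
  obtain ⟨K, hK⟩ := Subgroup.exists_right_complement'_of_coprime (N := D.ι.range) (by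
    rw [hcS, show (64 : ℕ) = 2 ^ 6 by norm_num]
    exact Nat.Coprime.pow_left _ (Nat.coprime_two_left.2 hoddi))
  have hcK : Nat.card K = D.ι.range.index := (Subgroup.IsComplement'.index_eq_card hK.symm).symm
  have hcj : ∀ (g : H) (q : M8), ∃ q', D.ι q' = g * D.ι q * g⁻¹ := fun g q => hS.conj_mem _ ⟨q, rfl⟩ g
  choose cj hcj using hcj
  have cj_mul : ∀ g p q, cj g (p * q) = cj g p * cj g q := fun g p q => D.inj (by
    rw [map_mul, hcj, hcj, hcj, map_mul]; group)
  have cj_comp : ∀ g h q, cj (g * h) q = cj g (cj h q) := fun g h q => D.inj (by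
    rw [hcj, hcj, hcj]; group)
  have cj_A : ∀ g q, InA q ↔ InA (cj g q) := by
    intro g q
    constructor <;> intro h
    · obtain ⟨p, hp, e⟩ := conj_A D g h
      rw [← hcj] at e
      exact D.inj e ▸ hp
    · obtain ⟨p, hp, e⟩ := conj_A D g⁻¹ h
      rw [hcj, show g⁻¹ * (g * D.ι q * g⁻¹) * g⁻¹⁻¹ = D.ι q by group] at e
      exact D.inj e ▸ hp
  have cls_cj : ∀ g p q, cls p = cls q → cls (cj g p) = cls (cj g q) := fun g p q h => by
    rw [M8.cls_eq_iff, ← cj_mul, ← cj_A]
    exact (M8.cls_eq_iff p q).1 h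
  have free : ∀ g : H, Odd (orderOf g) → g ≠ 1 → ∀ q, cls q ≠ (false, false) → cls (cj g q) ≠ cls q := by
    intro g hg hg1 q hq e
    obtain ⟨q', h1, h2, h3⟩ := sq_range_mem q hq
    refine hg1 (eq_one_of_odd_commute D (t := D.ι q') ⟨_, h2, map_mul _ _ _⟩ ?_ hg ?_)
    · rintro ⟨p, hp, ep⟩; exact h3 (D.inj ep ▸ hp)
    · have e' : cls (cj g q') = cls q' := by
        rw [← cls_cj g q q' ((M8.cls_eq_iff q q').2 h1), e, (M8.cls_eq_iff q q').2 h1]
      have h4 := (actA_ι D).2 ((M8.cls_eq_iff _ _).1 e')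
      rw [map_mul, hcj, map_mul, map_mul, map_mul, map_inv] at h4
      have h5 : actA D (D.ι q') * actA D (D.ι q') = 1 := by
        rw [← map_mul, ← map_mul, actA_ι]; exact h2
      have h6 : actA D g * actA D (D.ι q') * (actA D g)⁻¹ = actA D (D.ι q') :=
        mul_right_cancel (h4.trans h5.symm)
      exact mul_inv_eq_iff_eq_mul.1 h6
  have hKodd : Odd (Nat.card K) := hcK ▸ hoddi
  have hle : Nat.card K ≤ 3 := by
    have hne : ∀ k : K, cls (cj k M8.ga) ≠ (false, false) := fun k h => M8.gens_A.1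
      ((cj_A k _).2 ((M8.cls_zero _).1 h))
    have hinj : Function.Injective fun k : K => (⟨cls (cj k M8.ga), hne k⟩ : {c : Bool × Bool // c ≠ (false, false)}) := by
      intro a b e
      have e' : cls (cj a M8.ga) = cls (cj b M8.ga) := congrArg Subtype.val e
      by_contra hne'
      have h1 : (b : H)⁻¹ * a ≠ 1 := fun h => hne' (Subtype.ext (inv_mul_eq_one.1 h).symm)
      refine free _ (odd_of_card_odd hKodd (mul_mem (inv_mem b.2) a.2)) h1 M8.ga (by decide) ?_
      rw [cj_comp, cls_cj _ _ _ e', ← cj_comp, inv_mul_cancel]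
      congr 1
      exact D.inj (by rw [hcj, one_mul, inv_one, mul_one])
    refine le_trans (Nat.card_le_card_of_injective _ hinj) (le_of_eq ?_)
    rw [Nat.card_eq_fintype_card]
    rfl
  obtain h | h : Nat.card K = 1 ∨ Nat.card K = 3 := by
    obtain ⟨j, hj⟩ := hKodd
    omega
  · exact Or.inl (Subgroup.index_eq_one.1 (hcK ▸ h))
  refine Or.inr ⟨hcK ▸ h, ?_⟩
  have : Nontrivial K := Finite.one_lt_card_iff_nontrivial.1 (by omega)
  obtain ⟨k0, hk0⟩ := exists_ne (1 : K)
  have k3 : ∀ k ∈ K, k * k * k = (1 : H) := fun k hk => by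
    have h3 := pow_card_eq_one' (G := K) (x := ⟨k, hk⟩)
    rw [h, pow_succ, pow_two] at h3
    exact congrArg Subtype.val h3
  have form : ∀ k : H, cls (cj k M8.ga) = (false, true) → cls (cj k M8.gf) = (true, true) →
      ∀ q, ∃ q', k * D.ι q * k⁻¹ = D.ι q' ∧ q'.a = q.f ∧ q'.f = (q.a ^^ q.f) := by
    intro k ha hf q
    refine ⟨cj k q, (hcj k q).symm, ?_⟩
    have h1 := (M8.cls_zero _).2 ((cj_A k _).1 (M8.cls_split q))
    rw [cj_mul, cj_mul, M8.cls_mul, M8.cls_mul] at h1
    have one : cls (cj k 1) = (false, false) := (M8.cls_zero _).2 ((cj_A k _).1 ⟨rfl, rfl⟩)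
    simp only [cls, Prod.mk.injEq] at ha hf one h1
    rcases hqa : q.a <;> rcases hqf : q.f <;> simp [hqa, hqf, one, ha, hf] at h1 ⊢ <;> simp [h1]
  have dec : ∀ a f : Bool × Bool, a ≠ (false, false) → f ≠ (false, false) → a ≠ (true, false) → f ≠ (false, true) →
      a ≠ f → (a.1 ^^ f.1, a.2 ^^ f.2) ≠ (true, true) →
      (a = (false, true) ∧ f = (true, true)) ∨ (a = (true, true) ∧ f = (true, false)) := by decide
  have hk0o := odd_of_card_odd hKodd k0.2
  have hk01 : (k0 : H) ≠ 1 := fun e => hk0 (Subtype.ext e)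
  have f1 := free _ hk0o hk01 M8.ga (by decide)
  have f2 := free _ hk0o hk01 M8.gf (by decide)
  have f3 := free _ hk0o hk01 (M8.ga * M8.gf) (by decide)
  rw [cj_mul, M8.cls_mul] at f3
  have n1 : cls (cj k0 M8.ga) ≠ (false, false) := fun h => M8.gens_A.1 ((cj_A k0 _).2 ((M8.cls_zero _).1 h))
  have n2 : cls (cj k0 M8.gf) ≠ (false, false) := fun h => M8.gens_A.2.1 ((cj_A k0 _).2 ((M8.cls_zero _).1 h))
  have n3 : cls (cj k0 M8.ga) ≠ cls (cj k0 M8.gf) := fun h => M8.gens_A.2.2.1
    ((cj_A k0 _).2 (by rw [cj_mul]; exact (M8.cls_eq_iff _ _).1 h))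
  rcases dec _ _ n1 n2 f1 f2 n3 f3 with ⟨ha, hf⟩ | ⟨ha, hf⟩
  · exact ⟨k0, k3 _ k0.2, hk01, form _ ha hf⟩
  · have eqc : ∀ q p, cls (cj k0 q) = cls p → cls (cj (k0 * k0) q) = cls (cj k0 p) := fun q p e => by
      rw [cj_comp]; exact cls_cj _ _ _ e
    refine ⟨k0 * k0, k3 _ (mul_mem k0.2 k0.2), fun e => hk01 ?_, form _ ?_ ?_⟩
    · have h3 := k3 _ k0.2
      rwa [e, one_mul] at h3
    · rw [eqc M8.ga (M8.ga * M8.gf) (by rw [ha]; decide), cj_mul, M8.cls_mul, ha, hf]
      rfl
    · rw [eqc M8.gf M8.ga (by rw [hf]; decide), ha]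

end normal

end Cfsg.Lib.AltEightSolv
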