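import Cfsg.Agent.AltEightSolv.CoreQ
import Cfsg.Agent.AltEightSolv.Factors

/-!
# The shapes in which the extraspecial subgroup is the two-core

An element of odd order rotates the three classes modulo the centre of each quaternion factor, so it is described by
a pair of residues modulo three. The Sylow 3-subgroup embeds in these pairs.
-/

set_option autoImplicit false
set_option linter.unusedSectionVars false
set_option linter.style.haveILetI false

namespace Cfsg.Lib.AltEightSolv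

namespace M8

/-- Representatives of the classes of the first quaternion factor. -/
def U : Fin 3 → M8 := ![⟨true, false, false, false, true, false⟩, ⟨true, true, false, false, false, true⟩,
  ⟨false, true, false, false, true, true⟩]

/-- Representatives of the classes of the second quaternion factor. -/
def V : Fin 3 → M8 := ![⟨false, true, false, false, false, true⟩, ⟨true, true, false, false, true, false⟩,
  ⟨true, false, false, false, true, true⟩]

/-- The rotation of the extraspecial subgroup modulo its centre attached to a pair of residues. -/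
def rot (m n : Fin 3) (q : M8) : M8 :=
  cond q.a (U (1 + m) * V n) 1 * cond q.b (U m * V (1 + n)) 1 * cond q.e (U (2 + m) * V n) 1 *
    cond q.f (U m * V (2 + n)) 1

theorem U_T1 : ∀ i, T1 (U i) := by decide +kernel

theorem V_T2 : ∀ i, T2 (V i) := by decide +kernel

theorem T1_cls : ∀ r : M8, T1 r → ∃ j, r = U j ∨ r = U j * z := by decide +kernel

theorem T2_cls : ∀ r : M8, T2 r → ∃ j, r = V j ∨ r = V j * z := by decide +kernel

theorem U_inj : ∀ i j, U i = U j ∨ U i = U j * z → i = j := by decide +kernel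

theorem V_inj : ∀ i j, V i = V j ∨ V i = V j * z → i = j := by decide +kernel

theorem U_ne_V : ∀ i j, ¬ (U i = V j ∨ U i = V j * z) := by decide +kernel

theorem inner_cls : ∀ s : M8, InQ s → ∀ i, (s * U i * s⁻¹ = U i ∨ s * U i * s⁻¹ = U i * z) ∧
    (s * V i * s⁻¹ = V i ∨ s * V i * s⁻¹ = V i * z) := by decide +kernel

theorem outer_cls : ∀ s : M8, ¬ InQ s → ∀ i, (s * U i * s⁻¹ = V (i + 1) ∨ s * U i * s⁻¹ = V (i + 1) * z) ∧
    (s * V i * s⁻¹ = U (i - 1) ∨ s * V i * s⁻¹ = U (i - 1) * z) := by decide +kernel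

theorem rot_zero : ∀ q : M8, InQ q → q = rot 0 0 q ∨ q = rot 0 0 q * z := by decide +kernel

theorem rot_gb_A : ∀ m n : Fin 3, InA (rot m n gb) → InA (rot m n ge) → m = n := by decide +kernel

theorem rot_z_A : ∀ q : M8, InA (q * z) → InA q := by decide +kernel

theorem rot_gb_fix : ∀ m n : Fin 3, rot m n gb = gb ∨ rot m n gb = gb * z → m = 0 ∧ n = 0 := by decide +kernel

theorem A_gens : InA gb ∧ InQ gb ∧ InA ge ∧ InQ ge ∧ InA gd ∧ ¬ InQ gd := by decide +kernel

theorem rot_E : ∀ (i : Fin 3) (m : Fin 3) (q : M8), InE i q →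
    InQ q ∧ InE i (rot m (-m) q) ∧ InE i (rot m (-m) q * z) := by decide +kernel

theorem E_conj : ∀ (i : Fin 3) (s q : M8), InE i q → InE i (s * q * s⁻¹) := by decide +kernel

theorem rot_fuse : ∀ i, ∃ m : Fin 3, InQ (pE i) ∧ (rot m (-m) (pE i) = oE i ∨ rot m (-m) (pE i) = oE i * z) := by
  decide +kernel

theorem fuse_adjust : ∀ i, ∃ q : M8, q * (oE i * z) * q⁻¹ = oE i := by decide +kernel

theorem rot_free : ∀ (m : Fin 3) (q : M8), m ≠ 0 → InQ q → (rot m (-m) q = q ∨ rot m (-m) q = q * z) →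
    q = 1 ∨ q = z := by decide +kernel

theorem rot_tri : ∀ q q' : M8, InQ q → (q' = rot 2 2 q ∨ q' = rot 2 2 q * z) →
    q'.a = q.f ∧ q'.f = (q.a ^^ q.f) := by decide +kernel

theorem out_split : ∀ q : M8, ¬ InQ q → InQ (q * gd) ∧ q = q * gd * gd ∧ (q * gd).a = q.a ∧ (q * gd).f = q.f := by
  decide +kernel

theorem mul_A_af : ∀ p a : M8, InA a → (p * a).a = p.a ∧ (p * a).f = p.f := by decide +kernel

theorem diag_anti : ∀ m n : Fin 3, ∃ a b : Fin 3, m = a + b ∧ n = a + -b := by decide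

theorem swap_closed : ∀ m n : Fin 3, ¬ (m = 0 ∧ n = 0) →
    (n = m ∧ m = n ∨ n = m + m ∧ m = n + n) → m = n ∨ n = -m := by decide

theorem rotation : ∀ c : Fin 3 → Fin 3, (∀ i j, c i = c j → i = j) → (∀ i, c i ≠ i) →
    ∃ m, ∀ i, c i = i + m := by decide +kernel

end M8

universe u

variable {H : Type u} [Group H] [Finite H] (D : LocalHyp H)

open M8 (z InQ InA T1 T2 U V rot)

/-- An element is one of the two lifts of a class. -/
def Cl (h : H) (q : M8) : Prop := h = D.ι q ∨ h = D.ι (q * z)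

theorem cl_refl (q : M8) : Cl D (D.ι q) q := Or.inl rfl

theorem cl_conj_z (g : H) (q : M8) : g * D.ι (q * z) * g⁻¹ = g * D.ι q * g⁻¹ * D.ι z := by
  rw [map_mul, show g * (D.ι q * D.ι z) * g⁻¹ = g * D.ι q * (D.ι z * g⁻¹) by group, ← D.iz_comm]
  group

theorem cl_mul_z {h : H} {q : M8} (hc : Cl D h q) : Cl D (h * D.ι z) q := by
  rcases hc with e | e
  · exact Or.inr (by rw [e, map_mul])
  · exact Or.inl (by rw [e, ← map_mul, mul_assoc, M8.z_facts.1, mul_one])

theorem cl_conj {h g : H} {q r : M8} (h1 : Cl D h q) (h2 : Cl D (g * D.ι q * g⁻¹) r) :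
    Cl D (g * h * g⁻¹) r := by
  rcases h1 with e | e
  · rwa [e]
  · rw [e, cl_conj_z]; exact cl_mul_z D h2

theorem cl_mul {h h' : H} {q q' : M8} (h1 : Cl D h q) (h2 : Cl D h' q') : Cl D (h * h') (q * q') := by
  rcases h1 with e | e <;> rcases h2 with e' | e'
  · exact Or.inl (by rw [e, e', map_mul])
  · exact Or.inr (by rw [e, e', ← map_mul, mul_assoc])
  · exact Or.inr (by rw [e, e', ← map_mul, mul_assoc, ← M8.z_central, mul_assoc])
  · exact Or.inl (by
      rw [e, e', ← map_mul, mul_assoc q, ← mul_assoc z, ← M8.z_central, mul_assoc q', M8.z_facts.1, mul_one])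

theorem cl_unique {h : H} {p q : M8} (h1 : Cl D h p) (h2 : Cl D h q) : p = q ∨ p = q * z := by
  rcases h1 with e | e <;> rcases h2 with e' | e' <;> have h3 := D.inj (e.symm.trans e')
  · exact Or.inl h3
  · exact Or.inr h3
  · exact Or.inr (by rw [← h3, mul_assoc, M8.z_facts.1, mul_one])
  · exact Or.inl (mul_right_cancel h3)

theorem cl_ι {p q : M8} (h : p = q ∨ p = q * z) : Cl D (D.ι p) q :=
  h.imp (fun e => by rw [e]) (fun e => by rw [e])

/-- The rotations induced on the two quaternion factors. -/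
def Lab (x : H) (m n : Fin 3) : Prop :=
  (∀ i, Cl D (x * D.ι (U i) * x⁻¹) (U (i + m))) ∧ (∀ i, Cl D (x * D.ι (V i) * x⁻¹) (V (i + n)))

theorem lab_one : Lab D (1 : H) 0 0 := by
  refine ⟨fun i => ?_, fun i => ?_⟩ <;> rw [add_zero, one_mul, inv_one, mul_one] <;> exact cl_refl D _

theorem lab_mul {x y : H} {m n m' n' : Fin 3} (hx : Lab D x m n) (hy : Lab D y m' n') :
    Lab D (x * y) (m + m') (n + n') := by
  refine ⟨fun i => ?_, fun i => ?_⟩
  · rw [show x * y * D.ι (U i) * (x * y)⁻¹ = x * (y * D.ι (U i) * y⁻¹) * x⁻¹ by group,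
      show i + (m + m') = i + m' + m by abel]
    exact cl_conj D (hy.1 i) (hx.1 _)
  · rw [show x * y * D.ι (V i) * (x * y)⁻¹ = x * (y * D.ι (V i) * y⁻¹) * x⁻¹ by group,
      show i + (n + n') = i + n' + n by abel]
    exact cl_conj D (hy.2 i) (hx.2 _)

theorem lab_unique {x : H} {m n m' n' : Fin 3} (h : Lab D x m n) (h' : Lab D x m' n') : m = m' ∧ n = n' :=
  ⟨add_left_cancel (M8.U_inj _ _ (cl_unique D (h.1 0) (h'.1 0))),
    add_left_cancel (M8.V_inj _ _ (cl_unique D (h.2 0) (h'.2 0)))⟩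

theorem cl_symm {x : H} {p q : M8} (h : Cl D (x * D.ι p * x⁻¹) q) : Cl D (x⁻¹ * D.ι q * x⁻¹⁻¹) p := by
  rcases h with e | e
  · exact Or.inl (by rw [← e]; group)
  · have h2 : D.ι q = x * D.ι p * x⁻¹ * D.ι z := by
      rw [e, ← map_mul, mul_assoc, M8.z_facts.1, mul_one]
    exact Or.inr (by
      rw [h2, map_mul, show x⁻¹ * (x * D.ι p * x⁻¹ * D.ι z) * x⁻¹⁻¹ = D.ι p * (x⁻¹ * (D.ι z * x)) by group,
        ← D.iz_comm]
      group)

theorem lab_inv {x : H} {m n : Fin 3} (h : Lab D x m n) : Lab D x⁻¹ (-m) (-n) := by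
  refine ⟨fun i => ?_, fun i => ?_⟩
  · have := cl_symm D (h.1 (i + -m))
    rwa [neg_add_cancel_right] at this
  · have := cl_symm D (h.2 (i + -n))
    rwa [neg_add_cancel_right] at this

theorem lab_ι {s : M8} (hs : InQ s) : Lab D (D.ι s) 0 0 := by
  refine ⟨fun i => ?_, fun i => ?_⟩ <;> rw [add_zero, ← map_inv, ← map_mul, ← map_mul]
  · exact cl_ι D (M8.inner_cls s hs i).1
  · exact cl_ι D (M8.inner_cls s hs i).2

theorem not_lab_outer {s : M8} (hs : ¬ InQ s) {x : H} {m n a b : Fin 3} (hx : Lab D x m n) :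
    ¬ Lab D (D.ι s * x) a b := by
  intro h
  have h1 := h.1 0
  have h2 : Cl D (D.ι s * x * D.ι (U 0) * (D.ι s * x)⁻¹) (V (0 + m + 1)) := by
    rw [show D.ι s * x * D.ι (U 0) * (D.ι s * x)⁻¹ = D.ι s * (x * D.ι (U 0) * x⁻¹) * (D.ι s)⁻¹ by group]
    refine cl_conj D (hx.1 0) ?_
    rw [← map_inv, ← map_mul, ← map_mul]
    exact cl_ι D (M8.outer_cls s hs _).1
  exact M8.U_ne_V _ _ (cl_unique D h1 h2)

theorem lab_swap {s : M8} (hs : ¬ InQ s) {x : H} {m n : Fin 3} (hx : Lab D x m n) :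
    Lab D (D.ι s * x * (D.ι s)⁻¹) n m := by
  have hs' : ¬ InQ s⁻¹ := fun h => hs (by simpa using (M8.inQ_conj 1 _ h).2)
  refine ⟨fun i => ?_, fun i => ?_⟩
  · rw [show D.ι s * x * (D.ι s)⁻¹ * D.ι (U i) * (D.ι s * x * (D.ι s)⁻¹)⁻¹ =
      D.ι s * (x * ((D.ι s)⁻¹ * D.ι (U i) * (D.ι s)⁻¹⁻¹) * x⁻¹) * (D.ι s)⁻¹ by group]
    have h1 : Cl D ((D.ι s)⁻¹ * D.ι (U i) * (D.ι s)⁻¹⁻¹) (V (i + 1)) := by
      rw [← map_inv, ← map_inv, ← map_mul, ← map_mul]
      exact cl_ι D (M8.outer_cls _ hs' i).1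
    refine cl_conj D (cl_conj D h1 (hx.2 _)) ?_
    rw [← map_inv, ← map_mul, ← map_mul, show i + n = i + 1 + n - 1 by abel]
    exact cl_ι D (M8.outer_cls s hs _).2
  · rw [show D.ι s * x * (D.ι s)⁻¹ * D.ι (V i) * (D.ι s * x * (D.ι s)⁻¹)⁻¹ =
      D.ι s * (x * ((D.ι s)⁻¹ * D.ι (V i) * (D.ι s)⁻¹⁻¹) * x⁻¹) * (D.ι s)⁻¹ by group]
    have h1 : Cl D ((D.ι s)⁻¹ * D.ι (V i) * (D.ι s)⁻¹⁻¹) (U (i - 1)) := by
      rw [← map_inv, ← map_inv, ← map_mul, ← map_mul]
      exact cl_ι D (M8.outer_cls _ hs' i).2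
    refine cl_conj D (cl_conj D h1 (hx.1 _)) ?_
    rw [← map_inv, ← map_mul, ← map_mul, show i + m = i - 1 + m + 1 by abel]
    exact cl_ι D (M8.outer_cls s hs _).1

theorem lab_rot {x : H} {m n : Fin 3} (h : Lab D x m n) {q : M8} (hq : InQ q) :
    Cl D (x * D.ι q * x⁻¹) (rot m n q) := by
  have gen : ∀ (t : Bool) (i j : Fin 3),
      Cl D (x * D.ι (cond t (U i * V j) 1) * x⁻¹) (cond t (U (i + m) * V (j + n)) 1) := by
    intro t i j
    cases t
    · exact Or.inl (by simp)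
    · rw [cond_true, cond_true, map_mul,
        show x * (D.ι (U i) * D.ι (V j)) * x⁻¹ = x * D.ι (U i) * x⁻¹ * (x * D.ι (V j) * x⁻¹) by group]
      exact cl_mul D (h.1 i) (h.2 j)
  have h0 : Cl D (x * D.ι (rot 0 0 q) * x⁻¹) (rot m n q) := by
    have g1 := gen q.a 1 0
    have g2 := gen q.b 0 1
    have g3 := gen q.e 2 0
    have g4 := gen q.f 0 2
    rw [zero_add] at g1 g2 g3 g4
    simp only [rot, add_zero, map_mul] at g1 g2 g3 g4 ⊢
    have := cl_mul D (cl_mul D (cl_mul D g1 g2) g3) g4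
    refine (congrArg (fun w => Cl D w _) ?_).mp this
    group
  exact cl_conj D (cl_ι D (M8.rot_zero q hq)) h0

/-- The hypotheses of the case. -/
structure QHyp : Prop where
  normalQ : (M8.Q.map D.ι).Normal
  core_eq : RM D = M8.Q
  notA : ¬ (M8.A.map D.ι).Normal

variable {D}

namespace QHyp

variable (Y : QHyp D)

include Y

theorem mem_R {q : M8} : D.ι q ∈ D.R ↔ InQ q := by
  rw [← mem_RM, Y.core_eq, M8.mem_Q]

theorem eq_one_of_lab_zero {x : H} (hx : Odd (orderOf x)) (h : Lab D x 0 0) : x = 1 := by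
  have key : ∀ (T : M8 → Prop), Factor T → Keeps D T x → Keeps D T (x * x) → ∀ p, T p →
      Cl D (x * D.ι p * x⁻¹) p → ∀ r, T r → x * D.ι r = D.ι r * x := fun T F hk hk2 p hp hc =>
    cent_of_fix D F hx hk hk2 hp (fix_of_class D hx hc)
  obtain ⟨k1, k2⟩ := keeps_of_odd D Y.normalQ hx
  obtain ⟨s1, s2⟩ := keeps_sq D Y.normalQ x
  have c1 := key T1 factor_T1 k1 s1 _ (M8.U_T1 0) (by simpa using h.1 0)
  have c2 := key T2 factor_T2 k2 s2 _ (M8.V_T2 0) (by simpa using h.2 0)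
  refine D.eq_one_of_cent_R hx fun r hr => ?_
  obtain ⟨q, rfl⟩ := D.R_le_range hr
  have zc : Commute x (D.ι z) := D.iz_comm x
  rcases M8.Q_gen q (Y.mem_R.1 hr) with e | e | e | e | ⟨p, w, hp, hw, e⟩
  · rw [e, map_one, one_mul, mul_one]
  · rw [e]; exact zc.symm
  · exact (c1 q e).symm
  · exact (c2 q e).symm
  · rw [e, map_mul]; exact (Commute.mul_right (c1 p hp) (c2 w hw)).symm

theorem exists_lab {x : H} (hx : Odd (orderOf x)) : ∃ m n, Lab D x m n := by
  have main : ∀ (T : M8 → Prop) (W : Fin 3 → M8), Factor T → (∀ i, T (W i)) →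
      (∀ r, T r → ∃ j, r = W j ∨ r = W j * z) → (∀ i j, W i = W j ∨ W i = W j * z → i = j) → Keeps D T x →
      Keeps D T (x * x) → ∃ m, ∀ i, Cl D (x * D.ι (W i) * x⁻¹) (W (i + m)) := by
    intro T W F hW hcls hinj hk hk2
    have hex : ∀ i, ∃ j, Cl D (x * D.ι (W i) * x⁻¹) (W j) := fun i => by
      obtain ⟨r, hr, er⟩ := hk _ (hW i)
      obtain ⟨j, hj⟩ := hcls r hr
      exact ⟨j, er ▸ cl_ι D hj⟩
    choose c hc using hex
    by_cases hfix : ∃ i, c i = i
    · obtain ⟨i, hi⟩ := hfix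
      have hcent := cent_of_fix D F hx hk hk2 (hW i) (fix_of_class D hx (by have := hc i; rwa [hi] at this))
      refine ⟨0, fun j => ?_⟩
      rw [add_zero, hcent _ (hW j), mul_inv_cancel_right]
      exact cl_refl D _
    · push_neg at hfix
      have hcinj : ∀ i j, c i = c j → i = j := fun i j e => by
        refine hinj i j (cl_unique D (h := D.ι (W i)) (cl_refl D _) ?_)
        have h1 := cl_symm D (hc j)
        rw [← e] at h1
        have h2 := cl_conj D (hc i) h1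
        rwa [show x⁻¹ * (x * D.ι (W i) * x⁻¹) * x⁻¹⁻¹ = D.ι (W i) by group] at h2
      obtain ⟨m, hm⟩ := M8.rotation c hcinj hfix
      exact ⟨m, fun i => by rw [← hm]; exact hc i⟩
  obtain ⟨k1, k2⟩ := keeps_of_odd D Y.normalQ hx
  obtain ⟨s1, s2⟩ := keeps_sq D Y.normalQ x
  obtain ⟨m, hm⟩ := main T1 U factor_T1 M8.U_T1 M8.T1_cls M8.U_inj k1 s1
  obtain ⟨n, hn⟩ := main T2 V factor_T2 M8.V_T2 M8.T2_cls M8.V_inj k2 s2
  exact ⟨m, n, hm, hn⟩

theorem cube_eq_one {x : H} (hx : Odd (orderOf x)) : x * x * x = 1 := by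
  obtain ⟨m, n, h⟩ := Y.exists_lab hx
  have h3 : ∀ a : Fin 3, a + a + a = 0 := by decide
  have hl := lab_mul D (lab_mul D h h) h
  rw [h3, h3] at hl
  refine Y.eq_one_of_lab_zero ?_ hl
  rw [show x * x * x = x ^ 3 by rw [pow_succ, pow_two]]
  exact hx.of_dvd_nat (orderOf_pow_dvd 3)

omit Y in
theorem card_range : Nat.card D.ι.range = 64 := by
  rw [Nat.card_congr (MonoidHom.ofInjective D.inj).toEquiv.symm, M8.card_M8]

theorem odd_of_mem (P : Sylow 3 H) {x : H} (hx : x ∈ (P : Subgroup H)) : Odd (orderOf x) := by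
  haveI : Fact (Nat.Prime 3) := ⟨Nat.prime_three⟩
  obtain ⟨k, hk⟩ := (IsPGroup.iff_orderOf (p := 3) (G := (P : Subgroup H))).1 P.isPGroup' ⟨x, hx⟩
  rw [Subgroup.orderOf_mk] at hk
  rw [hk]
  exact Odd.pow (by decide)

theorem card_sylow (P : Sylow 3 H) : Nat.card (P : Subgroup H) = D.ι.range.index := by
  haveI : Fact (Nat.Prime 3) := ⟨Nat.prime_three⟩
  have hodd : ¬ 2 ∣ D.ι.range.index := D.sylow
  have hcard : 64 * D.ι.range.index = Nat.card H := by rw [← card_range (D := D), Subgroup.card_mul_index]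
  have h0 : D.ι.range.index ≠ 0 := Subgroup.FiniteIndex.index_ne_zero
  have hprime : ∀ p, p.Prime → p ∣ D.ι.range.index → p = 3 := by
    intro p hp hdvd
    haveI : Fact p.Prime := ⟨hp⟩
    obtain ⟨x, hx⟩ := exists_prime_orderOf_dvd_card' p (dvd_trans hdvd ⟨64, by rw [← hcard, mul_comm]⟩)
    have hp2 : p ≠ 2 := fun e => hodd (e ▸ hdvd)
    have h3 : orderOf x ∣ 3 := orderOf_dvd_of_pow_eq_one (by
      rw [pow_succ, pow_two]; exact Y.cube_eq_one (hx ▸ hp.odd_of_ne_two hp2))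
    rw [hx] at h3
    exact (Nat.prime_dvd_prime_iff_eq hp Nat.prime_three).1 h3
  have hi := Nat.eq_prime_pow_of_unique_prime_dvd h0 (fun {p} hp hd => hprime p hp hd)
  rw [P.card_eq_multiplicity, ← hcard, hi, show (64 : ℕ) = 2 ^ 6 by norm_num,
    Nat.factorization_mul (by norm_num) (pow_ne_zero _ (by norm_num)), Finsupp.add_apply,
    Nat.Prime.factorization_pow Nat.prime_two, Nat.Prime.factorization_pow Nat.prime_three]
  simp

theorem lab_inj {x y : H} (ho : Odd (orderOf (x⁻¹ * y))) {m n : Fin 3} (hx : Lab D x m n) (hy : Lab D y m n) :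
    x = y := by
  have h := lab_mul D (lab_inv D hx) hy
  rw [neg_add_cancel, neg_add_cancel] at h
  exact inv_mul_eq_one.1 (Y.eq_one_of_lab_zero ho h)

theorem decomp (P : Sylow 3 H) (h : H) : ∃ s, ∃ x ∈ (P : Subgroup H), h = D.ι s * x := by
  let f : M8 × (P : Subgroup H) → H := fun w => D.ι w.1 * w.2
  have hf : Function.Injective f := by
    rintro ⟨s, x⟩ ⟨t, y⟩ e
    change D.ι s * (x : H) = D.ι t * y at e
    have e1 : D.ι (t⁻¹ * s) = (y : H) * (x : H)⁻¹ := by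
      rw [map_mul, map_inv, eq_mul_inv_iff_mul_eq, mul_assoc, e, inv_mul_cancel_left]
    have h1 : D.ι (t⁻¹ * s) = 1 := eq_one_of_odd D.range_isPGroup ⟨_, rfl⟩
      (e1 ▸ Y.odd_of_mem P (mul_mem y.2 (inv_mem x.2)))
    have hst : s = t := (inv_mul_eq_one.1 (D.inj (h1.trans (map_one _).symm))).symm
    subst hst
    rw [Prod.mk.injEq]
    exact ⟨rfl, Subtype.ext (mul_left_cancel e)⟩
  have hsurj : Function.Surjective f := by
    haveI := Fintype.ofFinite H
    haveI := Fintype.ofFinite (P : Subgroup H)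
    refine ((Fintype.bijective_iff_injective_and_card f).2 ⟨hf, ?_⟩).2
    rw [← Nat.card_eq_fintype_card, ← Nat.card_eq_fintype_card, Nat.card_prod, M8.card_M8, Y.card_sylow P,
      ← card_range (D := D), Subgroup.card_mul_index]
  obtain ⟨⟨s, x⟩, e⟩ := hsurj h
  exact ⟨s, x, x.2, e.symm⟩

/-- An element with a label is a member of the Sylow 3-subgroup up to the extraspecial subgroup. -/
theorem exists_mem_of_lab (P : Sylow 3 H) {g : H} {m n : Fin 3} (hg : Lab D g m n) :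
    ∃ s, InQ s ∧ ∃ x ∈ (P : Subgroup H), g = D.ι s * x ∧ Lab D x m n := by
  obtain ⟨s, x, hx, e⟩ := Y.decomp P g
  obtain ⟨a, b, hab⟩ := Y.exists_lab (Y.odd_of_mem P hx)
  have hs : InQ s := by
    by_contra hs
    exact not_lab_outer D hs hab (e ▸ hg)
  have h1 := lab_mul D (lab_ι D hs) hab
  rw [zero_add, zero_add] at h1
  obtain ⟨rfl, rfl⟩ := lab_unique D (e ▸ hg) h1
  exact ⟨s, hs, x, hx, e, hab⟩

theorem mem_Q_of_lab_zero {g : H} (hg : Lab D g 0 0) : ∃ s, InQ s ∧ g = D.ι s := by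
  obtain ⟨P⟩ : Nonempty (Sylow 3 H) := inferInstance
  obtain ⟨s, hs, x, hx, e, hl⟩ := Y.exists_mem_of_lab P hg
  rw [Y.eq_one_of_lab_zero (Y.odd_of_mem P hx) hl, mul_one] at e
  exact ⟨s, hs, e⟩

theorem range_le_NA : D.ι.range ≤ D.NA := by
  rintro _ ⟨s, rfl⟩
  rw [LocalHyp.NA, Subgroup.mem_normalizer_iff_conj_image_eq]
  refine Set.Subset.antisymm ?_ fun w hw => ?_
  · rintro _ ⟨_, ⟨q, hq, rfl⟩, rfl⟩
    exact ⟨s * q * s⁻¹, M8.inA_conj s q hq, by simp [MulAut.conj_apply]⟩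
  · obtain ⟨q, hq, rfl⟩ := hw
    exact ⟨D.ι (s⁻¹ * q * s), ⟨s⁻¹ * q * s, M8.mem_A.2 (by simpa using M8.inA_conj s⁻¹ q hq), rfl⟩, by
      simp [MulAut.conj_apply, mul_assoc]⟩

/-- An element with equal labels normalises the Sylow subgroup. -/
theorem diag_conj {x : H} {m : Fin 3} (hx : Lab D x m m) (s : M8) : ∃ s', x * D.ι s * x⁻¹ = D.ι s' := by
  by_cases hs : InQ s
  · obtain ⟨q', -, e⟩ := D.conj_Q Y.normalQ x hs
    exact ⟨q', e.symm⟩
  · have h1 := lab_mul D hx (lab_swap D hs (lab_inv D hx))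
    rw [add_neg_cancel] at h1
    obtain ⟨w, -, e⟩ := Y.mem_Q_of_lab_zero h1
    exact ⟨w * s, by rw [map_mul, ← e]; group⟩

theorem diag_mem_NA {x : H} {m : Fin 3} (hx : Lab D x m m) : x ∈ D.NA := by
  set f := (MulAut.conj x).toMonoidHom with hf
  set M := M8.A.map D.ι
  have hle : M.map f ≤ D.ι.range := by
    rintro _ ⟨_, ⟨q, -, rfl⟩, rfl⟩
    obtain ⟨s', e⟩ := Y.diag_conj hx q
    exact ⟨s', e.symm⟩
  have hW : (M.map f).comap D.ι = M8.A := by
    refine M8.eq_A_of_elementary _ (fun q hq => D.inj ?_) ?_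
    · obtain ⟨y, ⟨p, hp, rfl⟩, e⟩ := Subgroup.mem_comap.1 hq
      rw [map_mul, ← e, ← map_mul f, ← map_mul D.ι, (M8.inA_sq p hp).1, map_one, map_one]
    · rw [← Subgroup.card_map_of_injective (f := D.ι) (H := _) D.inj, Subgroup.map_comap_eq_self hle,
        Subgroup.card_map_of_injective (MulEquiv.injective _), card_map_A]
  have heq : M.map f = M := by
    conv_rhs => rw [show M = M8.A.map D.ι from rfl, ← hW]
    exact (Subgroup.map_comap_eq_self hle).symm
  rw [LocalHyp.NA, Subgroup.mem_normalizer_iff_conj_image_eq]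
  exact congrArg (fun K : Subgroup H => (K : Set H)) heq

theorem lab_NA {x : H} {m n : Fin 3} (hx : Lab D x m n) (hN : x ∈ D.NA) : m = n := by
  have img : ∀ q, InA q → InQ q → InA (rot m n q) := by
    intro q hqA hqQ
    obtain ⟨q', hq', e⟩ := (Subgroup.mem_normalizer_iff.1 hN (D.ι q)).1 (Subgroup.mem_map_of_mem D.ι hqA)
    rcases lab_rot D hx hqQ with h | h <;> rw [← e] at h
    · exact D.inj h ▸ hq'
    · exact M8.rot_z_A _ (D.inj h ▸ hq')
  exact M8.rot_gb_A m n (img _ M8.A_gens.1 M8.A_gens.2.1) (img _ M8.A_gens.2.2.1 M8.A_gens.2.2.2.1)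

theorem noOddA : NoOddA D := by
  intro K hK hnorm
  refine K.eq_bot_iff_forall.2 fun k hk => ?_
  have hko := odd_of_card_odd hK hk
  obtain ⟨m, n, hl⟩ := Y.exists_lab hko
  set c := D.ι M8.gb * k * (D.ι M8.gb)⁻¹ * k⁻¹ with hc
  have hcK : c ∈ K := mul_mem (hnorm _ M8.A_gens.1 k hk) (inv_mem hk)
  have h0 : Lab D c 0 0 := by
    have h := lab_mul D (lab_mul D (lab_mul D (lab_ι D M8.A_gens.2.1) hl) (lab_inv D (lab_ι D M8.A_gens.2.1)))
      (lab_inv D hl)
    simpa using h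
  have h1 := Y.eq_one_of_lab_zero (odd_of_card_odd hK hcK) h0
  rw [hc, mul_inv_eq_one, mul_inv_eq_iff_eq_mul] at h1
  have h2 := lab_rot D hl M8.A_gens.2.1
  rw [← h1, mul_inv_cancel_right] at h2
  obtain ⟨rfl, rfl⟩ := M8.rot_gb_fix m n (by
    rcases h2 with e | e
    · exact Or.inl (D.inj e).symm
    · exact Or.inr ((congrArg (· * z) (D.inj e)).trans (by rw [mul_assoc, M8.z_facts.1, mul_one])).symm)
  exact Y.eq_one_of_lab_zero hko hl

theorem anti_stab {x : H} {m : Fin 3} (hx : Lab D x m (-m)) (i : Fin 3) (q : M8) (hq : InE i q) :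
    ∃ q', InE i q' ∧ x * D.ι q * x⁻¹ = D.ι q' := by
  obtain ⟨hqQ, h1, h2⟩ := M8.rot_E i m q hq
  rcases lab_rot D hx hqQ with e | e
  · exact ⟨_, h1, e⟩
  · exact ⟨_, h2, e⟩

theorem fusion (hex : ∀ m : Fin 3, ∃ x : H, Lab D x m (-m)) (i : Fin 3) :
    ∃ h : H, h * D.ι (pE i) * h⁻¹ = D.ι (oE i) := by
  obtain ⟨m, hp, hm⟩ := M8.rot_fuse i
  obtain ⟨x, hx⟩ := hex m
  have h1 : Cl D (x * D.ι (pE i) * x⁻¹) (oE i) := by
    have h1 := cl_conj D (g := 1) (lab_rot D hx hp) (r := oE i) (by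
      rw [one_mul, inv_one, mul_one]; exact cl_ι D hm)
    simpa using h1
  rcases h1 with e | e
  · exact ⟨x, e⟩
  · obtain ⟨q, hq⟩ := M8.fuse_adjust i
    exact ⟨D.ι q * x, by
      rw [show D.ι q * x * D.ι (pE i) * (D.ι q * x)⁻¹ = D.ι q * (x * D.ι (pE i) * x⁻¹) * (D.ι q)⁻¹ by group, e,
        ← map_inv, ← map_mul, ← map_mul, hq]⟩

theorem index_pow : ∃ k, D.ι.range.index = 3 ^ k := by
  haveI : Fact (Nat.Prime 3) := ⟨Nat.prime_three⟩
  obtain ⟨P⟩ : Nonempty (Sylow 3 H) := inferInstance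
  obtain ⟨k, hk⟩ := IsPGroup.iff_card.1 P.isPGroup'
  exact ⟨k, by rw [← Y.card_sylow P, hk]⟩

theorem index_le : D.ι.range.index ≤ 9 := by
  obtain ⟨P⟩ : Nonempty (Sylow 3 H) := inferInstance
  choose m n hl using fun x : (P : Subgroup H) => Y.exists_lab (Y.odd_of_mem P x.2)
  have hinj : Function.Injective fun x : (P : Subgroup H) => (m x, n x) := fun x y e => by
    have e1 : m x = m y := congrArg Prod.fst e
    have e2 : n x = n y := congrArg Prod.snd e
    exact Subtype.ext (Y.lab_inj (Y.odd_of_mem P (mul_mem (inv_mem x.2) y.2)) (hl x) (e1 ▸ e2 ▸ hl y))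
  rw [← Y.card_sylow P]
  refine le_trans (Nat.card_le_card_of_injective _ hinj) (le_of_eq ?_)
  rw [Nat.card_prod, Nat.card_eq_fintype_card, Fintype.card_fin]

theorem index_ne_one : D.ι.range.index ≠ 1 := fun h => by
  have htop : D.ι.range = ⊤ := Subgroup.index_eq_one.1 h
  haveI : (D.ι.range).Normal := htop ▸ inferInstance
  exact M8.A_gens.2.2.2.2.2 (Y.mem_R.1 (D.le_R D.range_isPGroup ⟨_, rfl⟩))

theorem not_all_diag (P : Sylow 3 H) : ¬ ∀ x ∈ (P : Subgroup H), ∃ m, Lab D x m m := by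
  intro hall
  haveI : (D.ι.range).Normal := by
    refine ⟨fun w hw g => ?_⟩
    obtain ⟨q, rfl⟩ := hw
    obtain ⟨s, x, hx, rfl⟩ := Y.decomp P g
    obtain ⟨m, hm⟩ := hall x hx
    obtain ⟨q', e⟩ := Y.diag_conj hm q
    exact ⟨s * q' * s⁻¹, by rw [map_mul, map_mul, map_inv, ← e]; group⟩
  exact M8.A_gens.2.2.2.2.2 (Y.mem_R.1 (D.le_R D.range_isPGroup ⟨_, rfl⟩))

theorem shapeThree (h3 : D.ι.range.index = 3) : ShapeThree D := by
  haveI : Fact (Nat.Prime 3) := ⟨Nat.prime_three⟩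
  obtain ⟨P⟩ : Nonempty (Sylow 3 H) := inferInstance
  have hcP : Nat.card (P : Subgroup H) = 3 := by rw [Y.card_sylow P, h3]
  obtain ⟨x, hxne⟩ : ∃ x : (P : Subgroup H), x ≠ 1 := by
    have : Nontrivial (P : Subgroup H) := Finite.one_lt_card_iff_nontrivial.1 (by omega)
    exact exists_ne 1
  have hxo := Y.odd_of_mem P x.2
  obtain ⟨m, n, hl⟩ := Y.exists_lab hxo
  have hmn : ¬ (m = 0 ∧ n = 0) := by
    rintro ⟨rfl, rfl⟩
    exact hxne (Subtype.ext (Y.eq_one_of_lab_zero hxo hl))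
  have all : ∀ y ∈ (P : Subgroup H), ∀ a b, Lab D y a b →
      (a = 0 ∧ b = 0) ∨ (a = m ∧ b = n) ∨ (a = m + m ∧ b = n + n) := by
    intro y hy a b hab
    have hgen : Subgroup.zpowers x = ⊤ := zpowers_eq_top_of_prime_card hcP hxne
    obtain ⟨j, hj⟩ : (⟨y, hy⟩ : (P : Subgroup H)) ∈ Submonoid.powers x := by
      rw [mem_powers_iff_mem_zpowers, hgen]; trivial
    have hord : orderOf x = 3 := by
      rw [← Nat.card_zpowers, hgen, Subgroup.card_top, hcP]
    have hj' : x ^ (j % 3) = ⟨y, hy⟩ := by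
      have := pow_mod_orderOf x j
      rw [hord] at this
      rw [this]; exact hj
    have hval : (x : H) ^ (j % 3) = y := by
      have := congrArg Subtype.val hj'
      simpa using this
    rcases (show j % 3 = 0 ∨ j % 3 = 1 ∨ j % 3 = 2 by omega) with e | e | e <;> rw [e] at hval
    · rw [pow_zero] at hval
      exact Or.inl (lab_unique D (hval ▸ hab) (lab_one D))
    · rw [pow_one] at hval
      exact Or.inr (Or.inl (lab_unique D (hval ▸ hab) hl))
    · rw [pow_two] at hval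
      exact Or.inr (Or.inr (lab_unique D (hval ▸ hab) (lab_mul D hl hl)))
  have hanti : n = -m := by
    obtain ⟨s, -, y, hy, -, hy'⟩ := Y.exists_mem_of_lab P (lab_swap D M8.A_gens.2.2.2.2.2 hl)
    rcases all y hy _ _ hy' with ⟨h1, h2⟩ | h | h
    · exact absurd ⟨h2, h1⟩ hmn
    all_goals
      rcases M8.swap_closed m n hmn (by first | exact Or.inl h | exact Or.inr h) with h' | h'
    all_goals first
      | exact h'
      | (exfalso
         subst h'
         refine Y.not_all_diag P fun y hy => ?_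
         obtain ⟨a, b, hab⟩ := Y.exists_lab (Y.odd_of_mem P hy)
         rcases all y hy a b hab with ⟨rfl, rfl⟩ | ⟨rfl, rfl⟩ | ⟨rfl, rfl⟩ <;> exact ⟨_, hab⟩)
  subst hanti
  have hm0 : m ≠ 0 := fun e => hmn ⟨e, by rw [e, neg_zero]⟩
  have allanti : ∀ y ∈ (P : Subgroup H), ∀ a b, Lab D y a b → b = -a := by
    intro y hy a b hab
    rcases all y hy a b hab with ⟨rfl, rfl⟩ | ⟨rfl, rfl⟩ | ⟨rfl, rfl⟩
    · rw [neg_zero]
    · rfl
    · rw [neg_add]
  have hex : ∀ a : Fin 3, ∃ y : H, Lab D y a (-a) := by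
    intro a
    have dec : ∀ m a : Fin 3, m ≠ 0 → a = 0 ∨ a = m ∨ a = m + m := by decide
    rcases dec m a hm0 with rfl | rfl | rfl
    · exact ⟨1, by rw [neg_zero]; exact lab_one D⟩
    · exact ⟨x, hl⟩
    · exact ⟨x * x, by rw [neg_add]; exact lab_mul D hl hl⟩
  refine ⟨Y.normalQ, h3, ?_, Y.noOddA, ?_, Y.fusion hex, ?_⟩
  · refine le_antisymm (fun g hg => ?_) Y.range_le_NA
    obtain ⟨s, y, hy, rfl⟩ := Y.decomp P g
    obtain ⟨a, b, hab⟩ := Y.exists_lab (Y.odd_of_mem P hy)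
    have hyN : y ∈ D.NA := (Subgroup.mul_mem_cancel_left _ (Y.range_le_NA ⟨s, rfl⟩)).1 hg
    have e := Y.lab_NA hab hyN
    have e' := allanti y hy a b hab
    have dec : ∀ a b : Fin 3, a = b → b = -a → a = 0 ∧ b = 0 := by decide
    obtain ⟨rfl, rfl⟩ := dec a b e e'
    rw [Y.eq_one_of_lab_zero (Y.odd_of_mem P hy) hab, mul_one]
    exact ⟨s, rfl⟩
  · intro i h q hq
    obtain ⟨s, y, hy, rfl⟩ := Y.decomp P h
    obtain ⟨a, b, hab⟩ := Y.exists_lab (Y.odd_of_mem P hy)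
    obtain rfl := allanti y hy a b hab
    obtain ⟨q', hq', e⟩ := Y.anti_stab hab i q hq
    exact ⟨s * q' * s⁻¹, M8.E_conj i s q' hq', by rw [map_mul, map_mul, map_inv, ← e]; group⟩
  · intro k hk hk1 q hq hc
    have ho : Odd (orderOf k) := (show Odd 3 by decide).of_dvd_nat (orderOf_dvd_of_pow_eq_one (by
      rw [pow_succ, pow_two]; exact hk))
    obtain ⟨a, b, hab⟩ := Y.exists_lab ho
    obtain ⟨s, -, y, hy, -, hy'⟩ := Y.exists_mem_of_lab P hab
    obtain rfl := allanti y hy a b hy'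
    have ha : a ≠ 0 := fun e => hk1 (Y.eq_one_of_lab_zero ho (by
      rw [e, neg_zero] at hab; exact hab))
    have h1 := lab_rot D hab hq
    rw [hc, mul_inv_cancel_right] at h1
    refine M8.rot_free a q ha hq ?_
    rcases h1 with e | e
    · exact Or.inl (D.inj e).symm
    · exact Or.inr ((congrArg (· * z) (D.inj e)).trans (by rw [mul_assoc, M8.z_facts.1, mul_one])).symm

theorem shapeNine (h9 : D.ι.range.index = 9) : ShapeNine D := by
  haveI : Fact (Nat.Prime 3) := ⟨Nat.prime_three⟩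
  obtain ⟨P⟩ : Nonempty (Sylow 3 H) := inferInstance
  choose m n hl using fun x : (P : Subgroup H) => Y.exists_lab (Y.odd_of_mem P x.2)
  have hinj : Function.Injective fun x : (P : Subgroup H) => (m x, n x) := fun x y e => by
    have e1 : m x = m y := congrArg Prod.fst e
    have e2 : n x = n y := congrArg Prod.snd e
    exact Subtype.ext (Y.lab_inj (Y.odd_of_mem P (mul_mem (inv_mem x.2) y.2)) (hl x) (e1 ▸ e2 ▸ hl y))
  have hall : ∀ a b : Fin 3, ∃ x ∈ (P : Subgroup H), Lab D x a b := by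
    intro a b
    haveI := Fintype.ofFinite (P : Subgroup H)
    obtain ⟨x, hx⟩ := ((Fintype.bijective_iff_injective_and_card _).2 ⟨hinj, by
      rw [← Nat.card_eq_fintype_card, Y.card_sylow P, h9]; rfl⟩).2 (a, b)
    rw [Prod.mk.injEq] at hx
    exact ⟨x, x.2, hx.1 ▸ hx.2 ▸ hl x⟩
  refine ⟨Y.normalQ, h9, Y.noOddA, ?_, ?_, Y.fusion fun a => (hall a (-a)).imp fun _ h => h.2, ?_⟩
  · -- the normaliser of `A` has order 192
    choose d hdP hd using fun a : Fin 3 => hall a a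
    let f : M8 × Fin 3 → D.NA := fun w =>
      ⟨D.ι w.1 * d w.2, mul_mem (Y.range_le_NA ⟨_, rfl⟩) (Y.diag_mem_NA (hd w.2))⟩
    have hf : Function.Bijective f := by
      constructor
      · rintro ⟨s, a⟩ ⟨t, b⟩ e
        have e1 : D.ι s * d a = D.ι t * d b := congrArg Subtype.val e
        have e2 : D.ι (t⁻¹ * s) = d b * (d a)⁻¹ := by
          rw [map_mul, map_inv, eq_mul_inv_iff_mul_eq, mul_assoc, e1, inv_mul_cancel_left]
        have h1 : D.ι (t⁻¹ * s) = 1 := eq_one_of_odd D.range_isPGroup ⟨_, rfl⟩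
          (e2 ▸ Y.odd_of_mem P (mul_mem (hdP b) (inv_mem (hdP a))))
        have hst : s = t := (inv_mul_eq_one.1 (D.inj (h1.trans (map_one _).symm))).symm
        subst hst
        rw [Prod.mk.injEq]
        refine ⟨rfl, ?_⟩
        exact (lab_unique D (hd a) (mul_left_cancel e1 ▸ hd b)).1
      · rintro ⟨g, hg⟩
        obtain ⟨s, y, hy, rfl⟩ := Y.decomp P g
        obtain ⟨a, b, hab⟩ := Y.exists_lab (Y.odd_of_mem P hy)
        obtain rfl := Y.lab_NA hab ((Subgroup.mul_mem_cancel_left _ (Y.range_le_NA ⟨s, rfl⟩)).1 hg)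
        refine ⟨(s, a), Subtype.ext ?_⟩
        show D.ι s * d a = _
        rw [Y.lab_inj (Y.odd_of_mem P (mul_mem (inv_mem (hdP a)) hy)) (hd a) hab]
    have hcard : Nat.card D.NA = 192 := by
      rw [← Nat.card_eq_of_bijective f hf, Nat.card_prod, M8.card_M8, Nat.card_fin]
    have h := (D.ι.range.subgroupOf D.NA).card_mul_index
    rw [Nat.card_congr (Subgroup.subgroupOfEquivOfLe Y.range_le_NA).toEquiv, card_range, hcard] at h
    omega
  · -- an element cycling the cosets of `A`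
    obtain ⟨k, hkP, hk⟩ := hall 2 2
    refine ⟨k, Y.cube_eq_one (Y.odd_of_mem P hkP), fun e => ?_, fun q => ?_⟩
    · exact absurd (lab_unique D (e ▸ hk) (lab_one D)).1 (by decide)
    have inQ_case : ∀ q, InQ q → ∃ q' : M8, k * D.ι q * k⁻¹ = D.ι q' ∧ q'.a = q.f ∧ q'.f = (q.a ^^ q.f) := by
      intro q hq
      rcases lab_rot D hk hq with e | e
      · exact ⟨_, e, M8.rot_tri q _ hq (Or.inl rfl)⟩
      · exact ⟨_, e, M8.rot_tri q _ hq (Or.inr rfl)⟩
    by_cases hq : InQ q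
    · exact inQ_case q hq
    obtain ⟨h1, h2, h3, h4⟩ := M8.out_split q hq
    obtain ⟨p', ep, ea, ef⟩ := inQ_case _ h1
    obtain ⟨a', ha', ea'⟩ := (Subgroup.mem_normalizer_iff.1 (Y.diag_mem_NA hk) (D.ι M8.gd)).1
      (Subgroup.mem_map_of_mem D.ι M8.A_gens.2.2.2.2.1)
    refine ⟨p' * a', ?_, ?_, ?_⟩
    · calc k * D.ι q * k⁻¹ = k * D.ι (q * M8.gd * M8.gd) * k⁻¹ := by rw [← h2]
        _ = D.ι (p' * a') := by rw [map_mul, map_mul D.ι p', ← ep, ea']; group
    · rw [(M8.mul_A_af p' a' ha').1, ea, h4]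
    · rw [(M8.mul_A_af p' a' ha').2, ef, h3, h4]
  · -- generation
    set C := Subgroup.closure ((D.ι.range : Set H) ∪ (D.NA : Set H) ∪
      {h : H | ∀ q, InE 0 q → ∃ q', InE 0 q' ∧ h * D.ι q * h⁻¹ = D.ι q'}) with hC
    refine (Subgroup.eq_top_iff' _).2 fun g => ?_
    obtain ⟨s, x, hx, rfl⟩ := Y.decomp P g
    refine mul_mem (Subgroup.subset_closure (Or.inl (Or.inl ⟨s, rfl⟩))) ?_
    obtain ⟨a, b, hab⟩ := Y.exists_lab (Y.odd_of_mem P hx)
    obtain ⟨u, v, rfl, rfl⟩ := M8.diag_anti a b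
    obtain ⟨y, hyP, hy⟩ := hall u u
    obtain ⟨w, hwP, hw⟩ := hall v (-v)
    rw [Y.lab_inj (Y.odd_of_mem P (mul_mem (inv_mem hx) (mul_mem hyP hwP))) hab (lab_mul D hy hw)]
    exact mul_mem (Subgroup.subset_closure (Or.inl (Or.inr (Y.diag_mem_NA hy))))
      (Subgroup.subset_closure (Or.inr fun q hq => Y.anti_stab hw 0 q hq))

theorem shape : ShapeThree D ∨ ShapeNine D := by
  obtain ⟨k, hk⟩ := Y.index_pow
  have h1 := Y.index_le
  have h2 := Y.index_ne_one
  rcases k with _ | _ | _ | k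
  · exact absurd hk h2
  · exact Or.inl (Y.shapeThree (by simpa using hk))
  · exact Or.inr (Y.shapeNine (by simpa using hk))
  · exfalso
    have : 27 ≤ 3 ^ (k + 1 + 1 + 1) := by
      rw [show (27 : ℕ) = 3 ^ 3 by norm_num]; exact Nat.pow_le_pow_right (by norm_num) (by omega)
    rw [hk] at h1
    omega

end QHyp

end Cfsg.Lib.AltEightSolv
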