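import Cfsg.Agent.AltEightSolv.Model
import Cfsg.Agent.AltEightType.Sylow

/-!
# Groups with Sylow 2-subgroups of type `A₈` in the coordinates of the model
-/

set_option autoImplicit false
set_option linter.style.haveILetI false
set_option linter.unusedSectionVars false

namespace Cfsg.Lib.AltEightSolv

open Cfsg.Lib.SylowTables Cfsg.Lib.AltEightType

universe u

/-- The table index of an element of the model. -/
def idx (q : M8) : Fin 64 :=
  Fin.ofNat 64 ([0, 2, 17, 9, 63, 59, 52, 39, 1, 4, 12, 6, 61, 53, 58, 46, 21, 33, 49, 40, 51, 36, 45, 31, 16, 27,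
    55, 47, 57, 43, 38, 25, 3, 7, 37, 26, 56, 62, 28, 18, 8, 15, 24, 14, 42, 29, 41, 54, 11, 20, 30, 19, 35, 23,
    34, 48, 5, 10, 44, 32, 50, 60, 22, 13].getD
    (q.a.toNat + 2 * q.b.toNat + 4 * q.c.toNat + 8 * q.d.toNat + 16 * q.e.toNat + 32 * q.f.toNat) 0)

/-- The three generators in the order of the table. -/
def gens : Fin 3 → M8 := ![M8.gd, M8.ga, M8.gf]

theorem idx_facts : idx 1 = 0 ∧ (∀ t, idx (gens t) = gA t) ∧
    (∀ p q : M8, idx p = idx q → p = q) := by
  refine ⟨by decide +kernel, by decide +kernel, by decide +kernel⟩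

theorem idx_step : ∀ (q : M8) (t : Fin 3), idx (q * gens t) = nA (idx q) t := by decide +kernel

theorem idx_surj : Function.Surjective idx :=
  ((Fintype.bijective_iff_injective_and_card idx).2 ⟨fun _ _ h => idx_facts.2.2 _ _ h, by decide +kernel⟩).2

theorem tab_idx_mul (p q : M8) : tab (idx (p * q)) = tab (idx p) * tab (idx q) := by
  suffices h : ∀ k : Fin 64, ∀ p q : M8, idx q = k → tab (idx (p * q)) = tab (idx p) * tab k from h _ p q rfl
  refine induction_on_table parentA_spec _ (fun p q hq => ?_) fun k t ih p q hq => ?_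
  · have hq1 : q = 1 := idx_facts.2.2 _ _ (by rw [hq, idx_facts.1])
    rw [hq1, mul_one, tab_zero, mul_one]
  · obtain ⟨r, rfl⟩ := idx_surj k
    have hq' : q = r * gens t := idx_facts.2.2 _ _ (by rw [hq, idx_step])
    rw [hq', ← mul_assoc, idx_step, ← tab_step, ih p r rfl, mul_assoc, tab_step]

/-- The map from the model to the table subgroup. -/
noncomputable def modelHom : M8 →* ↥tabGroup where
  toFun q := ⟨tab (idx q), tab_mem _⟩
  map_one' := Subtype.ext (by show tab (idx 1) = 1; rw [idx_facts.1, tab_zero])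
  map_mul' p q := Subtype.ext (tab_idx_mul p q)

/-- The model is isomorphic to the table subgroup. -/
noncomputable def modelEquiv : M8 ≃* ↥tabGroup :=
  MulEquiv.ofBijective modelHom
    ⟨fun p q h => idx_facts.2.2 _ _ (tab_inj (congrArg Subtype.val h)), fun x => by
      obtain ⟨k, hk⟩ := mem_tab x.2
      obtain ⟨q, rfl⟩ := idx_surj k
      exact ⟨q, Subtype.ext hk⟩⟩

/-- The standing data: a Sylow 2-subgroup in the coordinates of the model. -/
structure Typed (G : Type u) [Group G] where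
  /-- the Sylow subgroup -/
  S : Sylow 2 G
  /-- the coordinates -/
  e : M8 ≃* ↥(S : Subgroup G)

theorem exists_typed {G : Type u} [Group G] [Finite G] (S : Sylow 2 G)
    (hS : ∀ P : Sylow 2 ↥(alternatingGroup (Fin 8)),
      Nonempty (↥(S : Subgroup G) ≃* ↥(P : Subgroup ↥(alternatingGroup (Fin 8))))) :
    ∃ c : Typed G, c.S = S := by
  haveI : Fact (Nat.Prime 2) := ⟨Nat.prime_two⟩
  have hX : Nat.card ↥(alternatingGroup (Fin 8)) = 2 ^ 6 * 315 := by
    rw [nat_card_alternatingGroup, Nat.card_fin]; decide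
  have hT : IsPGroup 2 tabGroup := IsPGroup.of_card (n := 6) (by rw [card_tabGroup]; rfl)
  have hidx : ¬ 2 ∣ tabGroup.index := by
    have := tabGroup.card_mul_index
    rw [card_tabGroup, hX] at this
    omega
  obtain ⟨f⟩ := hS (hT.toSylow hidx)
  exact ⟨⟨S, modelEquiv.trans f.symm⟩, rfl⟩

namespace Typed

variable {G : Type u} [Group G] (c : Typed G)

/-- The embedding of the model. -/
def ι : M8 →* G := (c.S : Subgroup G).subtype.comp c.e.toMonoidHom

theorem ι_inj : Function.Injective c.ι := Subtype.val_injective.comp c.e.injective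

theorem ι_mem (q : M8) : c.ι q ∈ (c.S : Subgroup G) := (c.e q).2

theorem exists_ι {g : G} (hg : g ∈ (c.S : Subgroup G)) : ∃ q, c.ι q = g :=
  ⟨c.e.symm ⟨g, hg⟩, congrArg Subtype.val (c.e.apply_symm_apply _)⟩

theorem conj_ι {g w q : M8} (h : g * w * g⁻¹ = q) : IsConj (c.ι w) (c.ι q) :=
  isConj_iff.2 ⟨c.ι g, by rw [← map_inv, ← map_mul, ← map_mul, h]⟩

theorem ι_eq_one {q : M8} : c.ι q = 1 ↔ q = 1 := by rw [← map_one c.ι, c.ι_inj.eq_iff]

theorem inv_pre {q : M8} (h : orderOf (c.ι q) = 2) : q * q = 1 ∧ q ≠ 1 := by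
  rw [orderOf_injective c.ι c.ι_inj] at h
  exact ⟨by rw [← pow_two, ← h, pow_orderOf_eq_one], fun e => by rw [e, orderOf_one] at h; omega⟩

theorem order_ι {q : M8} (h : q * q = 1) (h1 : q ≠ 1) : orderOf (c.ι q) = 2 := by
  rw [orderOf_injective c.ι c.ι_inj]
  exact orderOf_eq_prime (by rw [pow_two, h]) h1

theorem card_S : Nat.card (c.S : Subgroup G) = 64 :=
  (Nat.card_congr c.e.symm.toEquiv).trans M8.card_M8

/-- The elementary subgroup of order sixteen inside the group. -/
def Ag : Subgroup G := M8.A.map c.ι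
/-- The extraspecial subgroup inside the group. -/
def Qg : Subgroup G := M8.Q.map c.ι

theorem mem_Ag {x : G} : x ∈ c.Ag ↔ ∃ q, M8.InA q ∧ c.ι q = x := Subgroup.mem_map
theorem mem_Qg {x : G} : x ∈ c.Qg ↔ ∃ q, M8.InQ q ∧ c.ι q = x := Subgroup.mem_map

theorem Ag_le : c.Ag ≤ (c.S : Subgroup G) := by rintro _ ⟨q, -, rfl⟩; exact c.ι_mem q

/-- The central involution. -/
def zG : G := c.ι M8.z

theorem zG_comm {s : G} (hs : s ∈ (c.S : Subgroup G)) : s * c.zG = c.zG * s := by
  obtain ⟨q, rfl⟩ := c.exists_ι hs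
  rw [zG, ← map_mul, ← map_mul, M8.z_central]

theorem orderOf_zG : orderOf c.zG = 2 := c.order_ι M8.z_facts.1 M8.z_facts.2.1

end Typed

end Cfsg.Lib.AltEightSolv
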